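import Mathlib
import Cfsg.Agent.Rec.B7
import Cfsg.Agent.Rec.Orb

/-! Generated by tools/rec: data in the affine symplectic group -/

set_option autoImplicit false
set_option maxRecDepth 100000
set_option linter.unusedVariables false
set_option exponentiation.threshold 100000

namespace Cfsg.Agent.F64

open Cfsg.Agent.Spor Cfsg.Agent.Rec

universe u

noncomputable def c7 : List ℕ := [(nat_lit 0x1010101010901), (nat_lit 0x1010121010101), (nat_lit 0x10101010d1901), (nat_lit 0x1012101010101), (nat_lit 0x10101010b0129), (nat_lit 0x1010101210101), (nat_lit 0x1010101090101), (nat_lit 0x1010101012101), (nat_lit 0x1010501010101), (nat_lit 0x1010101112101), (nat_lit 0x1030101010101), (nat_lit 0x1010101110141), (nat_lit 0x1010109010101), (nat_lit 0x1010101010109), (nat_lit 0x1010101051901), (nat_lit 0x1018101051b01), (nat_lit 0x1018101010f11), (nat_lit 0x1018103010f91), (nat_lit 0x101410103012d), (nat_lit 0x1010101030121)]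

theorem c7_ok : allL c7 B7.v = true := by decide +kernel

noncomputable def A0_t : ST :=
(.node (nat_lit 0x1030101010101) (.node (nat_lit 0x1010501010101) (.node (nat_lit 0x1010109010101) (.node (nat_lit 0x1010101110101) (.node (nat_lit 0x1010101012101) (.node (nat_lit 0x1010101010141) (.leaf (nat_lit 0x1010101010101) (nat_lit 0))
 (.leaf (nat_lit 0x1010101010141) (nat_lit 772))
) (.node (nat_lit 0x1010101012141) (.leaf (nat_lit 0x1010101012101) (nat_lit 256))
 (.leaf (nat_lit 0x1010101012141) (nat_lit 516))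
)) (.node (nat_lit 0x1010101112101) (.node (nat_lit 0x1010101110141) (.leaf (nat_lit 0x1010101110101) (nat_lit 514))
 (.leaf (nat_lit 0x1010101110141) (nat_lit 260))
) (.node (nat_lit 0x1010101112141) (.leaf (nat_lit 0x1010101112101) (nat_lit 258))
 (.leaf (nat_lit 0x1010101112141) (nat_lit 516))
))) (.node (nat_lit 0x1010109110101) (.node (nat_lit 0x1010109012101) (.node (nat_lit 0x1010109010141) (.leaf (nat_lit 0x1010109010101) (nat_lit 261))
 (.leaf (nat_lit 0x1010109010141) (nat_lit 1029))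
) (.node (nat_lit 0x1010109012141) (.leaf (nat_lit 0x1010109012101) (nat_lit 517))
 (.leaf (nat_lit 0x1010109012141) (nat_lit 773))
)) (.node (nat_lit 0x1010109112101) (.node (nat_lit 0x1010109110141) (.leaf (nat_lit 0x1010109110101) (nat_lit 773))
 (.leaf (nat_lit 0x1010109110141) (nat_lit 517))
) (.node (nat_lit 0x1010109112141) (.leaf (nat_lit 0x1010109112101) (nat_lit 517))
 (.leaf (nat_lit 0x1010109112141) (nat_lit 773))
)))) (.node (nat_lit 0x1010509010101) (.node (nat_lit 0x1010501110101) (.node (nat_lit 0x1010501012101) (.node (nat_lit 0x1010501010141) (.leaf (nat_lit 0x1010501010101) (nat_lit 257))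
 (.leaf (nat_lit 0x1010501010141) (nat_lit 1028))
) (.node (nat_lit 0x1010501012141) (.leaf (nat_lit 0x1010501012101) (nat_lit 513))
 (.leaf (nat_lit 0x1010501012141) (nat_lit 772))
)) (.node (nat_lit 0x1010501112101) (.node (nat_lit 0x1010501110141) (.leaf (nat_lit 0x1010501110101) (nat_lit 770))
 (.leaf (nat_lit 0x1010501110141) (nat_lit 516))
) (.node (nat_lit 0x1010501112141) (.leaf (nat_lit 0x1010501112101) (nat_lit 514))
 (.leaf (nat_lit 0x1010501112141) (nat_lit 772))
))) (.node (nat_lit 0x1010509110101) (.node (nat_lit 0x1010509012101) (.node (nat_lit 0x1010509010141) (.leaf (nat_lit 0x1010509010101) (nat_lit 517))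
 (.leaf (nat_lit 0x1010509010141) (nat_lit 1285))
) (.node (nat_lit 0x1010509012141) (.leaf (nat_lit 0x1010509012101) (nat_lit 773))
 (.leaf (nat_lit 0x1010509012141) (nat_lit 1029))
)) (.node (nat_lit 0x1010509112101) (.node (nat_lit 0x1010509110141) (.leaf (nat_lit 0x1010509110101) (nat_lit 1029))
 (.leaf (nat_lit 0x1010509110141) (nat_lit 773))
) (.node (nat_lit 0x1010509112141) (.leaf (nat_lit 0x1010509112101) (nat_lit 773))
 (.leaf (nat_lit 0x1010509112141) (nat_lit 1029))
))))) (.node (nat_lit 0x1030501010101) (.node (nat_lit 0x1030109010101) (.node (nat_lit 0x1030101110101) (.node (nat_lit 0x1030101012101) (.node (nat_lit 0x1030101010141) (.leaf (nat_lit 0x1030101010101) (nat_lit 259))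
 (.leaf (nat_lit 0x1030101010141) (nat_lit 1028))
) (.node (nat_lit 0x1030101012141) (.leaf (nat_lit 0x1030101012101) (nat_lit 515))
 (.leaf (nat_lit 0x1030101012141) (nat_lit 772))
)) (.node (nat_lit 0x1030101112101) (.node (nat_lit 0x1030101110141) (.leaf (nat_lit 0x1030101110101) (nat_lit 771))
 (.leaf (nat_lit 0x1030101110141) (nat_lit 516))
) (.node (nat_lit 0x1030101112141) (.leaf (nat_lit 0x1030101112101) (nat_lit 515))
 (.leaf (nat_lit 0x1030101112141) (nat_lit 772))
))) (.node (nat_lit 0x1030109110101) (.node (nat_lit 0x1030109012101) (.node (nat_lit 0x1030109010141) (.leaf (nat_lit 0x1030109010101) (nat_lit 517))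
 (.leaf (nat_lit 0x1030109010141) (nat_lit 1285))
) (.node (nat_lit 0x1030109012141) (.leaf (nat_lit 0x1030109012101) (nat_lit 773))
 (.leaf (nat_lit 0x1030109012141) (nat_lit 1029))
)) (.node (nat_lit 0x1030109112101) (.node (nat_lit 0x1030109110141) (.leaf (nat_lit 0x1030109110101) (nat_lit 1029))
 (.leaf (nat_lit 0x1030109110141) (nat_lit 773))
) (.node (nat_lit 0x1030109112141) (.leaf (nat_lit 0x1030109112101) (nat_lit 773))
 (.leaf (nat_lit 0x1030109112141) (nat_lit 1029))
)))) (.node (nat_lit 0x1030509010101) (.node (nat_lit 0x1030501110101) (.node (nat_lit 0x1030501012101) (.node (nat_lit 0x1030501010141) (.leaf (nat_lit 0x1030501010101) (nat_lit 515))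
 (.leaf (nat_lit 0x1030501010141) (nat_lit 1284))
) (.node (nat_lit 0x1030501012141) (.leaf (nat_lit 0x1030501012101) (nat_lit 771))
 (.leaf (nat_lit 0x1030501012141) (nat_lit 1028))
)) (.node (nat_lit 0x1030501112101) (.node (nat_lit 0x1030501110141) (.leaf (nat_lit 0x1030501110101) (nat_lit 1027))
 (.leaf (nat_lit 0x1030501110141) (nat_lit 772))
) (.node (nat_lit 0x1030501112141) (.leaf (nat_lit 0x1030501112101) (nat_lit 771))
 (.leaf (nat_lit 0x1030501112141) (nat_lit 1028))
))) (.node (nat_lit 0x1030509110101) (.node (nat_lit 0x1030509012101) (.node (nat_lit 0x1030509010141) (.leaf (nat_lit 0x1030509010101) (nat_lit 773))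
 (.leaf (nat_lit 0x1030509010141) (nat_lit 1541))
) (.node (nat_lit 0x1030509012141) (.leaf (nat_lit 0x1030509012101) (nat_lit 1029))
 (.leaf (nat_lit 0x1030509012141) (nat_lit 1285))
)) (.node (nat_lit 0x1030509112101) (.node (nat_lit 0x1030509110141) (.leaf (nat_lit 0x1030509110101) (nat_lit 1285))
 (.leaf (nat_lit 0x1030509110141) (nat_lit 1029))
) (.node (nat_lit 0x1030509112141) (.leaf (nat_lit 0x1030509112101) (nat_lit 1029))
 (.leaf (nat_lit 0x1030509112141) (nat_lit 1285))
))))))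

theorem A0_ok : genOK B7.A [(nat_lit 0x1010101012101), (nat_lit 0x1010501010101), (nat_lit 0x1010101112101), (nat_lit 0x1030101010101), (nat_lit 0x1010101110141), (nat_lit 0x1010109010101)] A0_t (nat_lit 64) = true := by decide +kernel

noncomputable def B0_t : ST :=
(.node (nat_lit 0x1030101010101) (.node (nat_lit 0x1010109010101) (.node (nat_lit 0x1010101110101) (.node (nat_lit 0x1010101012101) (.node (nat_lit 0x1010101010141) (.leaf (nat_lit 0x1010101010101) (nat_lit 0))
 (.leaf (nat_lit 0x1010101010141) (nat_lit 771))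
) (.node (nat_lit 0x1010101012141) (.leaf (nat_lit 0x1010101012101) (nat_lit 256))
 (.leaf (nat_lit 0x1010101012141) (nat_lit 515))
)) (.node (nat_lit 0x1010101112101) (.node (nat_lit 0x1010101110141) (.leaf (nat_lit 0x1010101110101) (nat_lit 513))
 (.leaf (nat_lit 0x1010101110141) (nat_lit 259))
) (.node (nat_lit 0x1010101112141) (.leaf (nat_lit 0x1010101112101) (nat_lit 257))
 (.leaf (nat_lit 0x1010101112141) (nat_lit 515))
))) (.node (nat_lit 0x1010109110101) (.node (nat_lit 0x1010109012101) (.node (nat_lit 0x1010109010141) (.leaf (nat_lit 0x1010109010101) (nat_lit 260))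
 (.leaf (nat_lit 0x1010109010141) (nat_lit 1028))
) (.node (nat_lit 0x1010109012141) (.leaf (nat_lit 0x1010109012101) (nat_lit 516))
 (.leaf (nat_lit 0x1010109012141) (nat_lit 772))
)) (.node (nat_lit 0x1010109112101) (.node (nat_lit 0x1010109110141) (.leaf (nat_lit 0x1010109110101) (nat_lit 772))
 (.leaf (nat_lit 0x1010109110141) (nat_lit 516))
) (.node (nat_lit 0x1010109112141) (.leaf (nat_lit 0x1010109112101) (nat_lit 516))
 (.leaf (nat_lit 0x1010109112141) (nat_lit 772))
)))) (.node (nat_lit 0x1030109010101) (.node (nat_lit 0x1030101110101) (.node (nat_lit 0x1030101012101) (.node (nat_lit 0x1030101010141) (.leaf (nat_lit 0x1030101010101) (nat_lit 258))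
 (.leaf (nat_lit 0x1030101010141) (nat_lit 1027))
) (.node (nat_lit 0x1030101012141) (.leaf (nat_lit 0x1030101012101) (nat_lit 514))
 (.leaf (nat_lit 0x1030101012141) (nat_lit 771))
)) (.node (nat_lit 0x1030101112101) (.node (nat_lit 0x1030101110141) (.leaf (nat_lit 0x1030101110101) (nat_lit 770))
 (.leaf (nat_lit 0x1030101110141) (nat_lit 515))
) (.node (nat_lit 0x1030101112141) (.leaf (nat_lit 0x1030101112101) (nat_lit 514))
 (.leaf (nat_lit 0x1030101112141) (nat_lit 771))
))) (.node (nat_lit 0x1030109110101) (.node (nat_lit 0x1030109012101) (.node (nat_lit 0x1030109010141) (.leaf (nat_lit 0x1030109010101) (nat_lit 516))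
 (.leaf (nat_lit 0x1030109010141) (nat_lit 1284))
) (.node (nat_lit 0x1030109012141) (.leaf (nat_lit 0x1030109012101) (nat_lit 772))
 (.leaf (nat_lit 0x1030109012141) (nat_lit 1028))
)) (.node (nat_lit 0x1030109112101) (.node (nat_lit 0x1030109110141) (.leaf (nat_lit 0x1030109110101) (nat_lit 1028))
 (.leaf (nat_lit 0x1030109110141) (nat_lit 772))
) (.node (nat_lit 0x1030109112141) (.leaf (nat_lit 0x1030109112101) (nat_lit 772))
 (.leaf (nat_lit 0x1030109112141) (nat_lit 1028))
)))))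

theorem B0_ok : genOK B7.A [(nat_lit 0x1010101012101), (nat_lit 0x1010101112101), (nat_lit 0x1030101010101), (nat_lit 0x1010101110141), (nat_lit 0x1010109010101)] B0_t (nat_lit 32) = true := by decide +kernel

noncomputable def Q0_t : ST :=
(.node (nat_lit 0x1030101010101) (.node (nat_lit 0x1018101010301) (.node (nat_lit 0x1010109010101) (.node (nat_lit 0x1010103010181) (.node (nat_lit 0x1010101110101) (.node (nat_lit 0x1010101051101) (.node (nat_lit 0x1010101012101) (.node (nat_lit 0x1010101010901) (.node (nat_lit 0x1010101010511) (.node (nat_lit 0x1010101010141) (.leaf (nat_lit 0x1010101010101) (nat_lit 0))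
 (.leaf (nat_lit 0x1010101010141) (nat_lit 771))
) (.node (nat_lit 0x1010101010551) (.leaf (nat_lit 0x1010101010511) (nat_lit 775))
 (.leaf (nat_lit 0x1010101010551) (nat_lit 1287))
)) (.node (nat_lit 0x1010101010d11) (.node (nat_lit 0x1010101010941) (.leaf (nat_lit 0x1010101010901) (nat_lit 265))
 (.leaf (nat_lit 0x1010101010941) (nat_lit 1033))
) (.node (nat_lit 0x1010101010d51) (.leaf (nat_lit 0x1010101010d11) (nat_lit 1033))
 (.leaf (nat_lit 0x1010101010d51) (nat_lit 1545))
))) (.node (nat_lit 0x1010101012901) (.node (nat_lit 0x1010101012511) (.node (nat_lit 0x1010101012141) (.leaf (nat_lit 0x1010101012101) (nat_lit 256))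
 (.leaf (nat_lit 0x1010101012141) (nat_lit 515))
) (.node (nat_lit 0x1010101012551) (.leaf (nat_lit 0x1010101012511) (nat_lit 1031))
 (.leaf (nat_lit 0x1010101012551) (nat_lit 1287))
)) (.node (nat_lit 0x1010101012d11) (.node (nat_lit 0x1010101012941) (.leaf (nat_lit 0x1010101012901) (nat_lit 521))
 (.leaf (nat_lit 0x1010101012941) (nat_lit 777))
) (.node (nat_lit 0x1010101012d51) (.leaf (nat_lit 0x1010101012d11) (nat_lit 1289))
 (.leaf (nat_lit 0x1010101012d51) (nat_lit 1545))
)))) (.node (nat_lit 0x1010101053101) (.node (nat_lit 0x1010101051901) (.node (nat_lit 0x1010101051511) (.node (nat_lit 0x1010101051141) (.leaf (nat_lit 0x1010101051101) (nat_lit 521))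
 (.leaf (nat_lit 0x1010101051141) (nat_lit 1289))
) (.node (nat_lit 0x1010101051551) (.leaf (nat_lit 0x1010101051511) (nat_lit 777))
 (.leaf (nat_lit 0x1010101051551) (nat_lit 1289))
)) (.node (nat_lit 0x1010101051d11) (.node (nat_lit 0x1010101051941) (.leaf (nat_lit 0x1010101051901) (nat_lit 261))
 (.leaf (nat_lit 0x1010101051941) (nat_lit 1029))
) (.node (nat_lit 0x1010101051d51) (.leaf (nat_lit 0x1010101051d11) (nat_lit 519))
 (.leaf (nat_lit 0x1010101051d51) (nat_lit 1031))
))) (.node (nat_lit 0x1010101053901) (.node (nat_lit 0x1010101053511) (.node (nat_lit 0x1010101053141) (.leaf (nat_lit 0x1010101053101) (nat_lit 777))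
 (.leaf (nat_lit 0x1010101053141) (nat_lit 1033))
) (.node (nat_lit 0x1010101053551) (.leaf (nat_lit 0x1010101053511) (nat_lit 1033))
 (.leaf (nat_lit 0x1010101053551) (nat_lit 1289))
)) (.node (nat_lit 0x1010101053d11) (.node (nat_lit 0x1010101053941) (.leaf (nat_lit 0x1010101053901) (nat_lit 517))
 (.leaf (nat_lit 0x1010101053941) (nat_lit 773))
) (.node (nat_lit 0x1010101053d51) (.leaf (nat_lit 0x1010101053d11) (nat_lit 775))
 (.leaf (nat_lit 0x1010101053d51) (nat_lit 1031))
))))) (.node (nat_lit 0x1010101151101) (.node (nat_lit 0x1010101112101) (.node (nat_lit 0x1010101110901) (.node (nat_lit 0x1010101110511) (.node (nat_lit 0x1010101110141) (.leaf (nat_lit 0x1010101110101) (nat_lit 513))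
 (.leaf (nat_lit 0x1010101110141) (nat_lit 259))
) (.node (nat_lit 0x1010101110551) (.leaf (nat_lit 0x1010101110511) (nat_lit 1031))
 (.leaf (nat_lit 0x1010101110551) (nat_lit 1031))
)) (.node (nat_lit 0x1010101110d11) (.node (nat_lit 0x1010101110941) (.leaf (nat_lit 0x1010101110901) (nat_lit 777))
 (.leaf (nat_lit 0x1010101110941) (nat_lit 521))
) (.node (nat_lit 0x1010101110d51) (.leaf (nat_lit 0x1010101110d11) (nat_lit 1289))
 (.leaf (nat_lit 0x1010101110d51) (nat_lit 1289))
))) (.node (nat_lit 0x1010101112901) (.node (nat_lit 0x1010101112511) (.node (nat_lit 0x1010101112141) (.leaf (nat_lit 0x1010101112101) (nat_lit 257))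
 (.leaf (nat_lit 0x1010101112141) (nat_lit 515))
) (.node (nat_lit 0x1010101112551) (.leaf (nat_lit 0x1010101112511) (nat_lit 1031))
 (.leaf (nat_lit 0x1010101112551) (nat_lit 1031))
)) (.node (nat_lit 0x1010101112d11) (.node (nat_lit 0x1010101112941) (.leaf (nat_lit 0x1010101112901) (nat_lit 521))
 (.leaf (nat_lit 0x1010101112941) (nat_lit 777))
) (.node (nat_lit 0x1010101112d51) (.leaf (nat_lit 0x1010101112d11) (nat_lit 1289))
 (.leaf (nat_lit 0x1010101112d51) (nat_lit 1289))
)))) (.node (nat_lit 0x1010101153101) (.node (nat_lit 0x1010101151901) (.node (nat_lit 0x1010101151511) (.node (nat_lit 0x1010101151141) (.leaf (nat_lit 0x1010101151101) (nat_lit 1033))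
 (.leaf (nat_lit 0x1010101151141) (nat_lit 777))
) (.node (nat_lit 0x1010101151551) (.leaf (nat_lit 0x1010101151511) (nat_lit 1033))
 (.leaf (nat_lit 0x1010101151551) (nat_lit 1033))
)) (.node (nat_lit 0x1010101151d11) (.node (nat_lit 0x1010101151941) (.leaf (nat_lit 0x1010101151901) (nat_lit 773))
 (.leaf (nat_lit 0x1010101151941) (nat_lit 517))
) (.node (nat_lit 0x1010101151d51) (.leaf (nat_lit 0x1010101151d11) (nat_lit 775))
 (.leaf (nat_lit 0x1010101151d51) (nat_lit 775))
))) (.node (nat_lit 0x1010101153901) (.node (nat_lit 0x1010101153511) (.node (nat_lit 0x1010101153141) (.leaf (nat_lit 0x1010101153101) (nat_lit 777))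
 (.leaf (nat_lit 0x1010101153141) (nat_lit 1033))
) (.node (nat_lit 0x1010101153551) (.leaf (nat_lit 0x1010101153511) (nat_lit 1033))
 (.leaf (nat_lit 0x1010101153551) (nat_lit 1033))
)) (.node (nat_lit 0x1010101153d11) (.node (nat_lit 0x1010101153941) (.leaf (nat_lit 0x1010101153901) (nat_lit 517))
 (.leaf (nat_lit 0x1010101153941) (nat_lit 773))
) (.node (nat_lit 0x1010101153d51) (.leaf (nat_lit 0x1010101153d11) (nat_lit 775))
 (.leaf (nat_lit 0x1010101153d51) (nat_lit 775))
)))))) (.node (nat_lit 0x1010103110181) (.node (nat_lit 0x1010103051181) (.node (nat_lit 0x1010103012181) (.node (nat_lit 0x1010103010981) (.node (nat_lit 0x1010103010591) (.node (nat_lit 0x10101030101c1) (.leaf (nat_lit 0x1010103010181) (nat_lit 777))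
 (.leaf (nat_lit 0x10101030101c1) (nat_lit 1289))
) (.node (nat_lit 0x10101030105d1) (.leaf (nat_lit 0x1010103010591) (nat_lit 776))
 (.leaf (nat_lit 0x10101030105d1) (nat_lit 1288))
)) (.node (nat_lit 0x1010103010d91) (.node (nat_lit 0x10101030109c1) (.leaf (nat_lit 0x1010103010981) (nat_lit 520))
 (.leaf (nat_lit 0x10101030109c1) (nat_lit 1032))
) (.node (nat_lit 0x1010103010dd1) (.leaf (nat_lit 0x1010103010d91) (nat_lit 1033))
 (.leaf (nat_lit 0x1010103010dd1) (nat_lit 1545))
))) (.node (nat_lit 0x1010103012981) (.node (nat_lit 0x1010103012591) (.node (nat_lit 0x10101030121c1) (.leaf (nat_lit 0x1010103012181) (nat_lit 1033))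
 (.leaf (nat_lit 0x10101030121c1) (nat_lit 1289))
) (.node (nat_lit 0x10101030125d1) (.leaf (nat_lit 0x1010103012591) (nat_lit 1032))
 (.leaf (nat_lit 0x10101030125d1) (nat_lit 1288))
)) (.node (nat_lit 0x1010103012d91) (.node (nat_lit 0x10101030129c1) (.leaf (nat_lit 0x1010103012981) (nat_lit 776))
 (.leaf (nat_lit 0x10101030129c1) (nat_lit 1032))
) (.node (nat_lit 0x1010103012dd1) (.leaf (nat_lit 0x1010103012d91) (nat_lit 1289))
 (.leaf (nat_lit 0x1010103012dd1) (nat_lit 1545))
)))) (.node (nat_lit 0x1010103053181) (.node (nat_lit 0x1010103051981) (.node (nat_lit 0x1010103051591) (.node (nat_lit 0x10101030511c1) (.leaf (nat_lit 0x1010103051181) (nat_lit 776))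
 (.leaf (nat_lit 0x10101030511c1) (nat_lit 1288))
) (.node (nat_lit 0x10101030515d1) (.leaf (nat_lit 0x1010103051591) (nat_lit 777))
 (.leaf (nat_lit 0x10101030515d1) (nat_lit 1289))
)) (.node (nat_lit 0x1010103051d91) (.node (nat_lit 0x10101030519c1) (.leaf (nat_lit 0x1010103051981) (nat_lit 1033))
 (.leaf (nat_lit 0x10101030519c1) (nat_lit 1545))
) (.node (nat_lit 0x1010103051dd1) (.leaf (nat_lit 0x1010103051d91) (nat_lit 520))
 (.leaf (nat_lit 0x1010103051dd1) (nat_lit 1032))
))) (.node (nat_lit 0x1010103053981) (.node (nat_lit 0x1010103053591) (.node (nat_lit 0x10101030531c1) (.leaf (nat_lit 0x1010103053181) (nat_lit 1032))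
 (.leaf (nat_lit 0x10101030531c1) (nat_lit 1288))
) (.node (nat_lit 0x10101030535d1) (.leaf (nat_lit 0x1010103053591) (nat_lit 1033))
 (.leaf (nat_lit 0x10101030535d1) (nat_lit 1289))
)) (.node (nat_lit 0x1010103053d91) (.node (nat_lit 0x10101030539c1) (.leaf (nat_lit 0x1010103053981) (nat_lit 1289))
 (.leaf (nat_lit 0x10101030539c1) (nat_lit 1545))
) (.node (nat_lit 0x1010103053dd1) (.leaf (nat_lit 0x1010103053d91) (nat_lit 776))
 (.leaf (nat_lit 0x1010103053dd1) (nat_lit 1032))
))))) (.node (nat_lit 0x1010103151181) (.node (nat_lit 0x1010103112181) (.node (nat_lit 0x1010103110981) (.node (nat_lit 0x1010103110591) (.node (nat_lit 0x10101031101c1) (.leaf (nat_lit 0x1010103110181) (nat_lit 1033))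
 (.leaf (nat_lit 0x10101031101c1) (nat_lit 1033))
) (.node (nat_lit 0x10101031105d1) (.leaf (nat_lit 0x1010103110591) (nat_lit 1032))
 (.leaf (nat_lit 0x10101031105d1) (nat_lit 1032))
)) (.node (nat_lit 0x1010103110d91) (.node (nat_lit 0x10101031109c1) (.leaf (nat_lit 0x1010103110981) (nat_lit 776))
 (.leaf (nat_lit 0x10101031109c1) (nat_lit 776))
) (.node (nat_lit 0x1010103110dd1) (.leaf (nat_lit 0x1010103110d91) (nat_lit 1289))
 (.leaf (nat_lit 0x1010103110dd1) (nat_lit 1289))
))) (.node (nat_lit 0x1010103112981) (.node (nat_lit 0x1010103112591) (.node (nat_lit 0x10101031121c1) (.leaf (nat_lit 0x1010103112181) (nat_lit 1033))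
 (.leaf (nat_lit 0x10101031121c1) (nat_lit 1033))
) (.node (nat_lit 0x10101031125d1) (.leaf (nat_lit 0x1010103112591) (nat_lit 1032))
 (.leaf (nat_lit 0x10101031125d1) (nat_lit 1032))
)) (.node (nat_lit 0x1010103112d91) (.node (nat_lit 0x10101031129c1) (.leaf (nat_lit 0x1010103112981) (nat_lit 776))
 (.leaf (nat_lit 0x10101031129c1) (nat_lit 776))
) (.node (nat_lit 0x1010103112dd1) (.leaf (nat_lit 0x1010103112d91) (nat_lit 1289))
 (.leaf (nat_lit 0x1010103112dd1) (nat_lit 1289))
)))) (.node (nat_lit 0x1010103153181) (.node (nat_lit 0x1010103151981) (.node (nat_lit 0x1010103151591) (.node (nat_lit 0x10101031511c1) (.leaf (nat_lit 0x1010103151181) (nat_lit 1032))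
 (.leaf (nat_lit 0x10101031511c1) (nat_lit 1032))
) (.node (nat_lit 0x10101031515d1) (.leaf (nat_lit 0x1010103151591) (nat_lit 1033))
 (.leaf (nat_lit 0x10101031515d1) (nat_lit 1033))
)) (.node (nat_lit 0x1010103151d91) (.node (nat_lit 0x10101031519c1) (.leaf (nat_lit 0x1010103151981) (nat_lit 1289))
 (.leaf (nat_lit 0x10101031519c1) (nat_lit 1289))
) (.node (nat_lit 0x1010103151dd1) (.leaf (nat_lit 0x1010103151d91) (nat_lit 776))
 (.leaf (nat_lit 0x1010103151dd1) (nat_lit 776))
))) (.node (nat_lit 0x1010103153981) (.node (nat_lit 0x1010103153591) (.node (nat_lit 0x10101031531c1) (.leaf (nat_lit 0x1010103153181) (nat_lit 1032))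
 (.leaf (nat_lit 0x10101031531c1) (nat_lit 1032))
) (.node (nat_lit 0x10101031535d1) (.leaf (nat_lit 0x1010103153591) (nat_lit 1033))
 (.leaf (nat_lit 0x10101031535d1) (nat_lit 1033))
)) (.node (nat_lit 0x1010103153d91) (.node (nat_lit 0x10101031539c1) (.leaf (nat_lit 0x1010103153981) (nat_lit 1289))
 (.leaf (nat_lit 0x10101031539c1) (nat_lit 1289))
) (.node (nat_lit 0x1010103153dd1) (.leaf (nat_lit 0x1010103153d91) (nat_lit 776))
 (.leaf (nat_lit 0x1010103153dd1) (nat_lit 776))
))))))) (.node (nat_lit 0x101010b010181) (.node (nat_lit 0x1010109110101) (.node (nat_lit 0x1010109051101) (.node (nat_lit 0x1010109012101) (.node (nat_lit 0x1010109010901) (.node (nat_lit 0x1010109010511) (.node (nat_lit 0x1010109010141) (.leaf (nat_lit 0x1010109010101) (nat_lit 260))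
 (.leaf (nat_lit 0x1010109010141) (nat_lit 1028))
) (.node (nat_lit 0x1010109010551) (.leaf (nat_lit 0x1010109010511) (nat_lit 1028))
 (.leaf (nat_lit 0x1010109010551) (nat_lit 1543))
)) (.node (nat_lit 0x1010109010d11) (.node (nat_lit 0x1010109010941) (.leaf (nat_lit 0x1010109010901) (nat_lit 521))
 (.leaf (nat_lit 0x1010109010941) (nat_lit 1289))
) (.node (nat_lit 0x1010109010d51) (.leaf (nat_lit 0x1010109010d11) (nat_lit 1289))
 (.leaf (nat_lit 0x1010109010d51) (nat_lit 1801))
))) (.node (nat_lit 0x1010109012901) (.node (nat_lit 0x1010109012511) (.node (nat_lit 0x1010109012141) (.leaf (nat_lit 0x1010109012101) (nat_lit 516))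
 (.leaf (nat_lit 0x1010109012141) (nat_lit 772))
) (.node (nat_lit 0x1010109012551) (.leaf (nat_lit 0x1010109012511) (nat_lit 1031))
 (.leaf (nat_lit 0x1010109012551) (nat_lit 1540))
)) (.node (nat_lit 0x1010109012d11) (.node (nat_lit 0x1010109012941) (.leaf (nat_lit 0x1010109012901) (nat_lit 777))
 (.leaf (nat_lit 0x1010109012941) (nat_lit 1033))
) (.node (nat_lit 0x1010109012d51) (.leaf (nat_lit 0x1010109012d11) (nat_lit 1289))
 (.leaf (nat_lit 0x1010109012d51) (nat_lit 1801))
)))) (.node (nat_lit 0x1010109053101) (.node (nat_lit 0x1010109051901) (.node (nat_lit 0x1010109051511) (.node (nat_lit 0x1010109051141) (.leaf (nat_lit 0x1010109051101) (nat_lit 777))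
 (.leaf (nat_lit 0x1010109051141) (nat_lit 1545))
) (.node (nat_lit 0x1010109051551) (.leaf (nat_lit 0x1010109051511) (nat_lit 1033))
 (.leaf (nat_lit 0x1010109051551) (nat_lit 1545))
)) (.node (nat_lit 0x1010109051d11) (.node (nat_lit 0x1010109051941) (.leaf (nat_lit 0x1010109051901) (nat_lit 517))
 (.leaf (nat_lit 0x1010109051941) (nat_lit 1285))
) (.node (nat_lit 0x1010109051d51) (.leaf (nat_lit 0x1010109051d11) (nat_lit 772))
 (.leaf (nat_lit 0x1010109051d51) (nat_lit 1287))
))) (.node (nat_lit 0x1010109053901) (.node (nat_lit 0x1010109053511) (.node (nat_lit 0x1010109053141) (.leaf (nat_lit 0x1010109053101) (nat_lit 1033))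
 (.leaf (nat_lit 0x1010109053141) (nat_lit 1289))
) (.node (nat_lit 0x1010109053551) (.leaf (nat_lit 0x1010109053511) (nat_lit 1033))
 (.leaf (nat_lit 0x1010109053551) (nat_lit 1545))
)) (.node (nat_lit 0x1010109053d11) (.node (nat_lit 0x1010109053941) (.leaf (nat_lit 0x1010109053901) (nat_lit 773))
 (.leaf (nat_lit 0x1010109053941) (nat_lit 1029))
) (.node (nat_lit 0x1010109053d51) (.leaf (nat_lit 0x1010109053d11) (nat_lit 775))
 (.leaf (nat_lit 0x1010109053d51) (nat_lit 1284))
))))) (.node (nat_lit 0x1010109151101) (.node (nat_lit 0x1010109112101) (.node (nat_lit 0x1010109110901) (.node (nat_lit 0x1010109110511) (.node (nat_lit 0x1010109110141) (.leaf (nat_lit 0x1010109110101) (nat_lit 772))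
 (.leaf (nat_lit 0x1010109110141) (nat_lit 516))
) (.node (nat_lit 0x1010109110551) (.leaf (nat_lit 0x1010109110511) (nat_lit 1287))
 (.leaf (nat_lit 0x1010109110551) (nat_lit 1284))
)) (.node (nat_lit 0x1010109110d11) (.node (nat_lit 0x1010109110941) (.leaf (nat_lit 0x1010109110901) (nat_lit 1033))
 (.leaf (nat_lit 0x1010109110941) (nat_lit 777))
) (.node (nat_lit 0x1010109110d51) (.leaf (nat_lit 0x1010109110d11) (nat_lit 1545))
 (.leaf (nat_lit 0x1010109110d51) (nat_lit 1545))
))) (.node (nat_lit 0x1010109112901) (.node (nat_lit 0x1010109112511) (.node (nat_lit 0x1010109112141) (.leaf (nat_lit 0x1010109112101) (nat_lit 516))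
 (.leaf (nat_lit 0x1010109112141) (nat_lit 772))
) (.node (nat_lit 0x1010109112551) (.leaf (nat_lit 0x1010109112511) (nat_lit 1284))
 (.leaf (nat_lit 0x1010109112551) (nat_lit 1287))
)) (.node (nat_lit 0x1010109112d11) (.node (nat_lit 0x1010109112941) (.leaf (nat_lit 0x1010109112901) (nat_lit 777))
 (.leaf (nat_lit 0x1010109112941) (nat_lit 1033))
) (.node (nat_lit 0x1010109112d51) (.leaf (nat_lit 0x1010109112d11) (nat_lit 1545))
 (.leaf (nat_lit 0x1010109112d51) (nat_lit 1545))
)))) (.node (nat_lit 0x1010109153101) (.node (nat_lit 0x1010109151901) (.node (nat_lit 0x1010109151511) (.node (nat_lit 0x1010109151141) (.leaf (nat_lit 0x1010109151101) (nat_lit 1289))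
 (.leaf (nat_lit 0x1010109151141) (nat_lit 1033))
) (.node (nat_lit 0x1010109151551) (.leaf (nat_lit 0x1010109151511) (nat_lit 1289))
 (.leaf (nat_lit 0x1010109151551) (nat_lit 1289))
)) (.node (nat_lit 0x1010109151d11) (.node (nat_lit 0x1010109151941) (.leaf (nat_lit 0x1010109151901) (nat_lit 1029))
 (.leaf (nat_lit 0x1010109151941) (nat_lit 773))
) (.node (nat_lit 0x1010109151d51) (.leaf (nat_lit 0x1010109151d11) (nat_lit 1031))
 (.leaf (nat_lit 0x1010109151d51) (nat_lit 1028))
))) (.node (nat_lit 0x1010109153901) (.node (nat_lit 0x1010109153511) (.node (nat_lit 0x1010109153141) (.leaf (nat_lit 0x1010109153101) (nat_lit 1033))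
 (.leaf (nat_lit 0x1010109153141) (nat_lit 1289))
) (.node (nat_lit 0x1010109153551) (.leaf (nat_lit 0x1010109153511) (nat_lit 1289))
 (.leaf (nat_lit 0x1010109153551) (nat_lit 1289))
)) (.node (nat_lit 0x1010109153d11) (.node (nat_lit 0x1010109153941) (.leaf (nat_lit 0x1010109153901) (nat_lit 773))
 (.leaf (nat_lit 0x1010109153941) (nat_lit 1029))
) (.node (nat_lit 0x1010109153d51) (.leaf (nat_lit 0x1010109153d11) (nat_lit 1028))
 (.leaf (nat_lit 0x1010109153d51) (nat_lit 1031))
)))))) (.node (nat_lit 0x101010b110181) (.node (nat_lit 0x101010b051181) (.node (nat_lit 0x101010b012181) (.node (nat_lit 0x101010b010981) (.node (nat_lit 0x101010b010591) (.node (nat_lit 0x101010b0101c1) (.leaf (nat_lit 0x101010b010181) (nat_lit 1033))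
 (.leaf (nat_lit 0x101010b0101c1) (nat_lit 1545))
) (.node (nat_lit 0x101010b0105d1) (.leaf (nat_lit 0x101010b010591) (nat_lit 1028))
 (.leaf (nat_lit 0x101010b0105d1) (nat_lit 1540))
)) (.node (nat_lit 0x101010b010d91) (.node (nat_lit 0x101010b0109c1) (.leaf (nat_lit 0x101010b010981) (nat_lit 776))
 (.leaf (nat_lit 0x101010b0109c1) (nat_lit 1288))
) (.node (nat_lit 0x101010b010dd1) (.leaf (nat_lit 0x101010b010d91) (nat_lit 1289))
 (.leaf (nat_lit 0x101010b010dd1) (nat_lit 1801))
))) (.node (nat_lit 0x101010b012981) (.node (nat_lit 0x101010b012591) (.node (nat_lit 0x101010b0121c1) (.leaf (nat_lit 0x101010b012181) (nat_lit 1033))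
 (.leaf (nat_lit 0x101010b0121c1) (nat_lit 1545))
) (.node (nat_lit 0x101010b0125d1) (.leaf (nat_lit 0x101010b012591) (nat_lit 1032))
 (.leaf (nat_lit 0x101010b0125d1) (nat_lit 1544))
)) (.node (nat_lit 0x101010b012d91) (.node (nat_lit 0x101010b0129c1) (.leaf (nat_lit 0x101010b012981) (nat_lit 776))
 (.leaf (nat_lit 0x101010b0129c1) (nat_lit 1288))
) (.node (nat_lit 0x101010b012dd1) (.leaf (nat_lit 0x101010b012d91) (nat_lit 1289))
 (.leaf (nat_lit 0x101010b012dd1) (nat_lit 1801))
)))) (.node (nat_lit 0x101010b053181) (.node (nat_lit 0x101010b051981) (.node (nat_lit 0x101010b051591) (.node (nat_lit 0x101010b0511c1) (.leaf (nat_lit 0x101010b051181) (nat_lit 1032))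
 (.leaf (nat_lit 0x101010b0511c1) (nat_lit 1544))
) (.node (nat_lit 0x101010b0515d1) (.leaf (nat_lit 0x101010b051591) (nat_lit 1033))
 (.leaf (nat_lit 0x101010b0515d1) (nat_lit 1545))
)) (.node (nat_lit 0x101010b051d91) (.node (nat_lit 0x101010b0519c1) (.leaf (nat_lit 0x101010b051981) (nat_lit 1289))
 (.leaf (nat_lit 0x101010b0519c1) (nat_lit 1801))
) (.node (nat_lit 0x101010b051dd1) (.leaf (nat_lit 0x101010b051d91) (nat_lit 772))
 (.leaf (nat_lit 0x101010b051dd1) (nat_lit 1284))
))) (.node (nat_lit 0x101010b053981) (.node (nat_lit 0x101010b053591) (.node (nat_lit 0x101010b0531c1) (.leaf (nat_lit 0x101010b053181) (nat_lit 1032))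
 (.leaf (nat_lit 0x101010b0531c1) (nat_lit 1544))
) (.node (nat_lit 0x101010b0535d1) (.leaf (nat_lit 0x101010b053591) (nat_lit 1033))
 (.leaf (nat_lit 0x101010b0535d1) (nat_lit 1545))
)) (.node (nat_lit 0x101010b053d91) (.node (nat_lit 0x101010b0539c1) (.leaf (nat_lit 0x101010b053981) (nat_lit 1289))
 (.leaf (nat_lit 0x101010b0539c1) (nat_lit 1801))
) (.node (nat_lit 0x101010b053dd1) (.leaf (nat_lit 0x101010b053d91) (nat_lit 776))
 (.leaf (nat_lit 0x101010b053dd1) (nat_lit 1288))
))))) (.node (nat_lit 0x101010b151181) (.node (nat_lit 0x101010b112181) (.node (nat_lit 0x101010b110981) (.node (nat_lit 0x101010b110591) (.node (nat_lit 0x101010b1101c1) (.leaf (nat_lit 0x101010b110181) (nat_lit 1289))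
 (.leaf (nat_lit 0x101010b1101c1) (nat_lit 1289))
) (.node (nat_lit 0x101010b1105d1) (.leaf (nat_lit 0x101010b110591) (nat_lit 1288))
 (.leaf (nat_lit 0x101010b1105d1) (nat_lit 1288))
)) (.node (nat_lit 0x101010b110d91) (.node (nat_lit 0x101010b1109c1) (.leaf (nat_lit 0x101010b110981) (nat_lit 1032))
 (.leaf (nat_lit 0x101010b1109c1) (nat_lit 1032))
) (.node (nat_lit 0x101010b110dd1) (.leaf (nat_lit 0x101010b110d91) (nat_lit 1545))
 (.leaf (nat_lit 0x101010b110dd1) (nat_lit 1545))
))) (.node (nat_lit 0x101010b112981) (.node (nat_lit 0x101010b112591) (.node (nat_lit 0x101010b1121c1) (.leaf (nat_lit 0x101010b112181) (nat_lit 1289))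
 (.leaf (nat_lit 0x101010b1121c1) (nat_lit 1289))
) (.node (nat_lit 0x101010b1125d1) (.leaf (nat_lit 0x101010b112591) (nat_lit 1284))
 (.leaf (nat_lit 0x101010b1125d1) (nat_lit 1284))
)) (.node (nat_lit 0x101010b112d91) (.node (nat_lit 0x101010b1129c1) (.leaf (nat_lit 0x101010b112981) (nat_lit 1032))
 (.leaf (nat_lit 0x101010b1129c1) (nat_lit 1032))
) (.node (nat_lit 0x101010b112dd1) (.leaf (nat_lit 0x101010b112d91) (nat_lit 1545))
 (.leaf (nat_lit 0x101010b112dd1) (nat_lit 1545))
)))) (.node (nat_lit 0x101010b153181) (.node (nat_lit 0x101010b151981) (.node (nat_lit 0x101010b151591) (.node (nat_lit 0x101010b1511c1) (.leaf (nat_lit 0x101010b151181) (nat_lit 1288))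
 (.leaf (nat_lit 0x101010b1511c1) (nat_lit 1288))
) (.node (nat_lit 0x101010b1515d1) (.leaf (nat_lit 0x101010b151591) (nat_lit 1289))
 (.leaf (nat_lit 0x101010b1515d1) (nat_lit 1289))
)) (.node (nat_lit 0x101010b151d91) (.node (nat_lit 0x101010b1519c1) (.leaf (nat_lit 0x101010b151981) (nat_lit 1545))
 (.leaf (nat_lit 0x101010b1519c1) (nat_lit 1545))
) (.node (nat_lit 0x101010b151dd1) (.leaf (nat_lit 0x101010b151d91) (nat_lit 1032))
 (.leaf (nat_lit 0x101010b151dd1) (nat_lit 1032))
))) (.node (nat_lit 0x101010b153981) (.node (nat_lit 0x101010b153591) (.node (nat_lit 0x101010b1531c1) (.leaf (nat_lit 0x101010b153181) (nat_lit 1288))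
 (.leaf (nat_lit 0x101010b1531c1) (nat_lit 1288))
) (.node (nat_lit 0x101010b1535d1) (.leaf (nat_lit 0x101010b153591) (nat_lit 1289))
 (.leaf (nat_lit 0x101010b1535d1) (nat_lit 1289))
)) (.node (nat_lit 0x101010b153d91) (.node (nat_lit 0x101010b1539c1) (.leaf (nat_lit 0x101010b153981) (nat_lit 1545))
 (.leaf (nat_lit 0x101010b1539c1) (nat_lit 1545))
) (.node (nat_lit 0x101010b153dd1) (.leaf (nat_lit 0x101010b153d91) (nat_lit 1028))
 (.leaf (nat_lit 0x101010b153dd1) (nat_lit 1028))
)))))))) (.node (nat_lit 0x1018109010301) (.node (nat_lit 0x1018103010381) (.node (nat_lit 0x1018101110301) (.node (nat_lit 0x1018101051301) (.node (nat_lit 0x1018101012301) (.node (nat_lit 0x1018101010b01) (.node (nat_lit 0x1018101010711) (.node (nat_lit 0x1018101010341) (.leaf (nat_lit 0x1018101010301) (nat_lit 777))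
 (.leaf (nat_lit 0x1018101010341) (nat_lit 1289))
) (.node (nat_lit 0x1018101010751) (.leaf (nat_lit 0x1018101010711) (nat_lit 521))
 (.leaf (nat_lit 0x1018101010751) (nat_lit 1033))
)) (.node (nat_lit 0x1018101010f11) (.node (nat_lit 0x1018101010b41) (.leaf (nat_lit 0x1018101010b01) (nat_lit 518))
 (.leaf (nat_lit 0x1018101010b41) (nat_lit 1027))
) (.node (nat_lit 0x1018101010f51) (.leaf (nat_lit 0x1018101010f11) (nat_lit 263))
 (.leaf (nat_lit 0x1018101010f51) (nat_lit 771))
))) (.node (nat_lit 0x1018101012b01) (.node (nat_lit 0x1018101012711) (.node (nat_lit 0x1018101012341) (.leaf (nat_lit 0x1018101012301) (nat_lit 1033))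
 (.leaf (nat_lit 0x1018101012341) (nat_lit 1289))
) (.node (nat_lit 0x1018101012751) (.leaf (nat_lit 0x1018101012711) (nat_lit 777))
 (.leaf (nat_lit 0x1018101012751) (nat_lit 1033))
)) (.node (nat_lit 0x1018101012f11) (.node (nat_lit 0x1018101012b41) (.leaf (nat_lit 0x1018101012b01) (nat_lit 774))
 (.leaf (nat_lit 0x1018101012b41) (nat_lit 1030))
) (.node (nat_lit 0x1018101012f51) (.leaf (nat_lit 0x1018101012f11) (nat_lit 519))
 (.leaf (nat_lit 0x1018101012f51) (nat_lit 775))
)))) (.node (nat_lit 0x1018101053301) (.node (nat_lit 0x1018101051b01) (.node (nat_lit 0x1018101051711) (.node (nat_lit 0x1018101051341) (.leaf (nat_lit 0x1018101051301) (nat_lit 521))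
 (.leaf (nat_lit 0x1018101051341) (nat_lit 1033))
) (.node (nat_lit 0x1018101051751) (.leaf (nat_lit 0x1018101051711) (nat_lit 777))
 (.leaf (nat_lit 0x1018101051751) (nat_lit 1289))
)) (.node (nat_lit 0x1018101051f11) (.node (nat_lit 0x1018101051b41) (.leaf (nat_lit 0x1018101051b01) (nat_lit 262))
 (.leaf (nat_lit 0x1018101051b41) (nat_lit 771))
) (.node (nat_lit 0x1018101051f51) (.leaf (nat_lit 0x1018101051f11) (nat_lit 519))
 (.leaf (nat_lit 0x1018101051f51) (nat_lit 1027))
))) (.node (nat_lit 0x1018101053b01) (.node (nat_lit 0x1018101053711) (.node (nat_lit 0x1018101053341) (.leaf (nat_lit 0x1018101053301) (nat_lit 777))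
 (.leaf (nat_lit 0x1018101053341) (nat_lit 1033))
) (.node (nat_lit 0x1018101053751) (.leaf (nat_lit 0x1018101053711) (nat_lit 1033))
 (.leaf (nat_lit 0x1018101053751) (nat_lit 1289))
)) (.node (nat_lit 0x1018101053f11) (.node (nat_lit 0x1018101053b41) (.leaf (nat_lit 0x1018101053b01) (nat_lit 518))
 (.leaf (nat_lit 0x1018101053b41) (nat_lit 774))
) (.node (nat_lit 0x1018101053f51) (.leaf (nat_lit 0x1018101053f11) (nat_lit 775))
 (.leaf (nat_lit 0x1018101053f51) (nat_lit 1031))
))))) (.node (nat_lit 0x1018101151301) (.node (nat_lit 0x1018101112301) (.node (nat_lit 0x1018101110b01) (.node (nat_lit 0x1018101110711) (.node (nat_lit 0x1018101110341) (.leaf (nat_lit 0x1018101110301) (nat_lit 1033))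
 (.leaf (nat_lit 0x1018101110341) (nat_lit 1033))
) (.node (nat_lit 0x1018101110751) (.leaf (nat_lit 0x1018101110711) (nat_lit 777))
 (.leaf (nat_lit 0x1018101110751) (nat_lit 777))
)) (.node (nat_lit 0x1018101110f11) (.node (nat_lit 0x1018101110b41) (.leaf (nat_lit 0x1018101110b01) (nat_lit 774))
 (.leaf (nat_lit 0x1018101110b41) (nat_lit 771))
) (.node (nat_lit 0x1018101110f51) (.leaf (nat_lit 0x1018101110f11) (nat_lit 519))
 (.leaf (nat_lit 0x1018101110f51) (nat_lit 515))
))) (.node (nat_lit 0x1018101112b01) (.node (nat_lit 0x1018101112711) (.node (nat_lit 0x1018101112341) (.leaf (nat_lit 0x1018101112301) (nat_lit 1033))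
 (.leaf (nat_lit 0x1018101112341) (nat_lit 1033))
) (.node (nat_lit 0x1018101112751) (.leaf (nat_lit 0x1018101112711) (nat_lit 777))
 (.leaf (nat_lit 0x1018101112751) (nat_lit 777))
)) (.node (nat_lit 0x1018101112f11) (.node (nat_lit 0x1018101112b41) (.leaf (nat_lit 0x1018101112b01) (nat_lit 769))
 (.leaf (nat_lit 0x1018101112b41) (nat_lit 774))
) (.node (nat_lit 0x1018101112f51) (.leaf (nat_lit 0x1018101112f11) (nat_lit 513))
 (.leaf (nat_lit 0x1018101112f51) (nat_lit 519))
)))) (.node (nat_lit 0x1018101153301) (.node (nat_lit 0x1018101151b01) (.node (nat_lit 0x1018101151711) (.node (nat_lit 0x1018101151341) (.leaf (nat_lit 0x1018101151301) (nat_lit 777))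
 (.leaf (nat_lit 0x1018101151341) (nat_lit 777))
) (.node (nat_lit 0x1018101151751) (.leaf (nat_lit 0x1018101151711) (nat_lit 1033))
 (.leaf (nat_lit 0x1018101151751) (nat_lit 1033))
)) (.node (nat_lit 0x1018101151f11) (.node (nat_lit 0x1018101151b41) (.leaf (nat_lit 0x1018101151b01) (nat_lit 518))
 (.leaf (nat_lit 0x1018101151b41) (nat_lit 515))
) (.node (nat_lit 0x1018101151f51) (.leaf (nat_lit 0x1018101151f11) (nat_lit 775))
 (.leaf (nat_lit 0x1018101151f51) (nat_lit 771))
))) (.node (nat_lit 0x1018101153b01) (.node (nat_lit 0x1018101153711) (.node (nat_lit 0x1018101153341) (.leaf (nat_lit 0x1018101153301) (nat_lit 777))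
 (.leaf (nat_lit 0x1018101153341) (nat_lit 777))
) (.node (nat_lit 0x1018101153751) (.leaf (nat_lit 0x1018101153711) (nat_lit 1033))
 (.leaf (nat_lit 0x1018101153751) (nat_lit 1033))
)) (.node (nat_lit 0x1018101153f11) (.node (nat_lit 0x1018101153b41) (.leaf (nat_lit 0x1018101153b01) (nat_lit 513))
 (.leaf (nat_lit 0x1018101153b41) (nat_lit 518))
) (.node (nat_lit 0x1018101153f51) (.leaf (nat_lit 0x1018101153f11) (nat_lit 769))
 (.leaf (nat_lit 0x1018101153f51) (nat_lit 775))
)))))) (.node (nat_lit 0x1018103110381) (.node (nat_lit 0x1018103051381) (.node (nat_lit 0x1018103012381) (.node (nat_lit 0x1018103010b81) (.node (nat_lit 0x1018103010791) (.node (nat_lit 0x10181030103c1) (.leaf (nat_lit 0x1018103010381) (nat_lit 1032))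
 (.leaf (nat_lit 0x10181030103c1) (nat_lit 1544))
) (.node (nat_lit 0x10181030107d1) (.leaf (nat_lit 0x1018103010791) (nat_lit 521))
 (.leaf (nat_lit 0x10181030107d1) (nat_lit 1033))
)) (.node (nat_lit 0x1018103010f91) (.node (nat_lit 0x1018103010bc1) (.leaf (nat_lit 0x1018103010b81) (nat_lit 1289))
 (.leaf (nat_lit 0x1018103010bc1) (nat_lit 1801))
) (.node (nat_lit 0x1018103010fd1) (.leaf (nat_lit 0x1018103010f91) (nat_lit 264))
 (.leaf (nat_lit 0x1018103010fd1) (nat_lit 776))
))) (.node (nat_lit 0x1018103012b81) (.node (nat_lit 0x1018103012791) (.node (nat_lit 0x10181030123c1) (.leaf (nat_lit 0x1018103012381) (nat_lit 1288))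
 (.leaf (nat_lit 0x10181030123c1) (nat_lit 1544))
) (.node (nat_lit 0x10181030127d1) (.leaf (nat_lit 0x1018103012791) (nat_lit 777))
 (.leaf (nat_lit 0x10181030127d1) (nat_lit 1033))
)) (.node (nat_lit 0x1018103012f91) (.node (nat_lit 0x1018103012bc1) (.leaf (nat_lit 0x1018103012b81) (nat_lit 1545))
 (.leaf (nat_lit 0x1018103012bc1) (nat_lit 1801))
) (.node (nat_lit 0x1018103012fd1) (.leaf (nat_lit 0x1018103012f91) (nat_lit 520))
 (.leaf (nat_lit 0x1018103012fd1) (nat_lit 769))
)))) (.node (nat_lit 0x1018103053381) (.node (nat_lit 0x1018103051b81) (.node (nat_lit 0x1018103051791) (.node (nat_lit 0x10181030513c1) (.leaf (nat_lit 0x1018103051381) (nat_lit 776))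
 (.leaf (nat_lit 0x10181030513c1) (nat_lit 1288))
) (.node (nat_lit 0x10181030517d1) (.leaf (nat_lit 0x1018103051791) (nat_lit 777))
 (.leaf (nat_lit 0x10181030517d1) (nat_lit 1289))
)) (.node (nat_lit 0x1018103051f91) (.node (nat_lit 0x1018103051bc1) (.leaf (nat_lit 0x1018103051b81) (nat_lit 1033))
 (.leaf (nat_lit 0x1018103051bc1) (nat_lit 1545))
) (.node (nat_lit 0x1018103051fd1) (.leaf (nat_lit 0x1018103051f91) (nat_lit 520))
 (.leaf (nat_lit 0x1018103051fd1) (nat_lit 1032))
))) (.node (nat_lit 0x1018103053b81) (.node (nat_lit 0x1018103053791) (.node (nat_lit 0x10181030533c1) (.leaf (nat_lit 0x1018103053381) (nat_lit 1032))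
 (.leaf (nat_lit 0x10181030533c1) (nat_lit 1288))
) (.node (nat_lit 0x10181030537d1) (.leaf (nat_lit 0x1018103053791) (nat_lit 1033))
 (.leaf (nat_lit 0x10181030537d1) (nat_lit 1289))
)) (.node (nat_lit 0x1018103053f91) (.node (nat_lit 0x1018103053bc1) (.leaf (nat_lit 0x1018103053b81) (nat_lit 1289))
 (.leaf (nat_lit 0x1018103053bc1) (nat_lit 1545))
) (.node (nat_lit 0x1018103053fd1) (.leaf (nat_lit 0x1018103053f91) (nat_lit 776))
 (.leaf (nat_lit 0x1018103053fd1) (nat_lit 1025))
))))) (.node (nat_lit 0x1018103151381) (.node (nat_lit 0x1018103112381) (.node (nat_lit 0x1018103110b81) (.node (nat_lit 0x1018103110791) (.node (nat_lit 0x10181031103c1) (.leaf (nat_lit 0x1018103110381) (nat_lit 1288))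
 (.leaf (nat_lit 0x10181031103c1) (nat_lit 1288))
) (.node (nat_lit 0x10181031107d1) (.leaf (nat_lit 0x1018103110791) (nat_lit 777))
 (.leaf (nat_lit 0x10181031107d1) (nat_lit 777))
)) (.node (nat_lit 0x1018103110f91) (.node (nat_lit 0x1018103110bc1) (.leaf (nat_lit 0x1018103110b81) (nat_lit 1545))
 (.leaf (nat_lit 0x1018103110bc1) (nat_lit 1545))
) (.node (nat_lit 0x1018103110fd1) (.leaf (nat_lit 0x1018103110f91) (nat_lit 520))
 (.leaf (nat_lit 0x1018103110fd1) (nat_lit 520))
))) (.node (nat_lit 0x1018103112b81) (.node (nat_lit 0x1018103112791) (.node (nat_lit 0x10181031123c1) (.leaf (nat_lit 0x1018103112381) (nat_lit 1288))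
 (.leaf (nat_lit 0x10181031123c1) (nat_lit 1288))
) (.node (nat_lit 0x10181031127d1) (.leaf (nat_lit 0x1018103112791) (nat_lit 777))
 (.leaf (nat_lit 0x10181031127d1) (nat_lit 1033))
)) (.node (nat_lit 0x1018103112f91) (.node (nat_lit 0x1018103112bc1) (.leaf (nat_lit 0x1018103112b81) (nat_lit 1545))
 (.leaf (nat_lit 0x1018103112bc1) (nat_lit 1545))
) (.node (nat_lit 0x1018103112fd1) (.leaf (nat_lit 0x1018103112f91) (nat_lit 513))
 (.leaf (nat_lit 0x1018103112fd1) (nat_lit 776))
)))) (.node (nat_lit 0x1018103153381) (.node (nat_lit 0x1018103151b81) (.node (nat_lit 0x1018103151791) (.node (nat_lit 0x10181031513c1) (.leaf (nat_lit 0x1018103151381) (nat_lit 1032))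
 (.leaf (nat_lit 0x10181031513c1) (nat_lit 1032))
) (.node (nat_lit 0x10181031517d1) (.leaf (nat_lit 0x1018103151791) (nat_lit 1033))
 (.leaf (nat_lit 0x10181031517d1) (nat_lit 1033))
)) (.node (nat_lit 0x1018103151f91) (.node (nat_lit 0x1018103151bc1) (.leaf (nat_lit 0x1018103151b81) (nat_lit 1289))
 (.leaf (nat_lit 0x1018103151bc1) (nat_lit 1289))
) (.node (nat_lit 0x1018103151fd1) (.leaf (nat_lit 0x1018103151f91) (nat_lit 776))
 (.leaf (nat_lit 0x1018103151fd1) (nat_lit 776))
))) (.node (nat_lit 0x1018103153b81) (.node (nat_lit 0x1018103153791) (.node (nat_lit 0x10181031533c1) (.leaf (nat_lit 0x1018103153381) (nat_lit 1032))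
 (.leaf (nat_lit 0x10181031533c1) (nat_lit 1032))
) (.node (nat_lit 0x10181031537d1) (.leaf (nat_lit 0x1018103153791) (nat_lit 1033))
 (.leaf (nat_lit 0x10181031537d1) (nat_lit 1289))
)) (.node (nat_lit 0x1018103153f91) (.node (nat_lit 0x1018103153bc1) (.leaf (nat_lit 0x1018103153b81) (nat_lit 1289))
 (.leaf (nat_lit 0x1018103153bc1) (nat_lit 1289))
) (.node (nat_lit 0x1018103153fd1) (.leaf (nat_lit 0x1018103153f91) (nat_lit 769))
 (.leaf (nat_lit 0x1018103153fd1) (nat_lit 1032))
))))))) (.node (nat_lit 0x101810b010381) (.node (nat_lit 0x1018109110301) (.node (nat_lit 0x1018109051301) (.node (nat_lit 0x1018109012301) (.node (nat_lit 0x1018109010b01) (.node (nat_lit 0x1018109010711) (.node (nat_lit 0x1018109010341) (.leaf (nat_lit 0x1018109010301) (nat_lit 1033))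
 (.leaf (nat_lit 0x1018109010341) (nat_lit 1545))
) (.node (nat_lit 0x1018109010751) (.leaf (nat_lit 0x1018109010711) (nat_lit 777))
 (.leaf (nat_lit 0x1018109010751) (nat_lit 1289))
)) (.node (nat_lit 0x1018109010f11) (.node (nat_lit 0x1018109010b41) (.leaf (nat_lit 0x1018109010b01) (nat_lit 774))
 (.leaf (nat_lit 0x1018109010b41) (nat_lit 1283))
) (.node (nat_lit 0x1018109010f51) (.leaf (nat_lit 0x1018109010f11) (nat_lit 516))
 (.leaf (nat_lit 0x1018109010f51) (nat_lit 1031))
))) (.node (nat_lit 0x1018109012b01) (.node (nat_lit 0x1018109012711) (.node (nat_lit 0x1018109012341) (.leaf (nat_lit 0x1018109012301) (nat_lit 1289))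
 (.leaf (nat_lit 0x1018109012341) (nat_lit 1545))
) (.node (nat_lit 0x1018109012751) (.leaf (nat_lit 0x1018109012711) (nat_lit 777))
 (.leaf (nat_lit 0x1018109012751) (nat_lit 1289))
)) (.node (nat_lit 0x1018109012f11) (.node (nat_lit 0x1018109012b41) (.leaf (nat_lit 0x1018109012b01) (nat_lit 1030))
 (.leaf (nat_lit 0x1018109012b41) (nat_lit 1286))
) (.node (nat_lit 0x1018109012f51) (.leaf (nat_lit 0x1018109012f11) (nat_lit 519))
 (.leaf (nat_lit 0x1018109012f51) (nat_lit 1028))
)))) (.node (nat_lit 0x1018109053301) (.node (nat_lit 0x1018109051b01) (.node (nat_lit 0x1018109051711) (.node (nat_lit 0x1018109051341) (.leaf (nat_lit 0x1018109051301) (nat_lit 777))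
 (.leaf (nat_lit 0x1018109051341) (nat_lit 1289))
) (.node (nat_lit 0x1018109051751) (.leaf (nat_lit 0x1018109051711) (nat_lit 1033))
 (.leaf (nat_lit 0x1018109051751) (nat_lit 1545))
)) (.node (nat_lit 0x1018109051f11) (.node (nat_lit 0x1018109051b41) (.leaf (nat_lit 0x1018109051b01) (nat_lit 518))
 (.leaf (nat_lit 0x1018109051b41) (nat_lit 1027))
) (.node (nat_lit 0x1018109051f51) (.leaf (nat_lit 0x1018109051f11) (nat_lit 772))
 (.leaf (nat_lit 0x1018109051f51) (nat_lit 1287))
))) (.node (nat_lit 0x1018109053b01) (.node (nat_lit 0x1018109053711) (.node (nat_lit 0x1018109053341) (.leaf (nat_lit 0x1018109053301) (nat_lit 1033))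
 (.leaf (nat_lit 0x1018109053341) (nat_lit 1289))
) (.node (nat_lit 0x1018109053751) (.leaf (nat_lit 0x1018109053711) (nat_lit 1033))
 (.leaf (nat_lit 0x1018109053751) (nat_lit 1545))
)) (.node (nat_lit 0x1018109053f11) (.node (nat_lit 0x1018109053b41) (.leaf (nat_lit 0x1018109053b01) (nat_lit 774))
 (.leaf (nat_lit 0x1018109053b41) (nat_lit 1030))
) (.node (nat_lit 0x1018109053f51) (.leaf (nat_lit 0x1018109053f11) (nat_lit 775))
 (.leaf (nat_lit 0x1018109053f51) (nat_lit 1284))
))))) (.node (nat_lit 0x1018109151301) (.node (nat_lit 0x1018109112301) (.node (nat_lit 0x1018109110b01) (.node (nat_lit 0x1018109110711) (.node (nat_lit 0x1018109110341) (.leaf (nat_lit 0x1018109110301) (nat_lit 1289))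
 (.leaf (nat_lit 0x1018109110341) (nat_lit 1289))
) (.node (nat_lit 0x1018109110751) (.leaf (nat_lit 0x1018109110711) (nat_lit 1033))
 (.leaf (nat_lit 0x1018109110751) (nat_lit 1033))
)) (.node (nat_lit 0x1018109110f11) (.node (nat_lit 0x1018109110b41) (.leaf (nat_lit 0x1018109110b01) (nat_lit 1030))
 (.leaf (nat_lit 0x1018109110b41) (nat_lit 1027))
) (.node (nat_lit 0x1018109110f51) (.leaf (nat_lit 0x1018109110f11) (nat_lit 772))
 (.leaf (nat_lit 0x1018109110f51) (nat_lit 775))
))) (.node (nat_lit 0x1018109112b01) (.node (nat_lit 0x1018109112711) (.node (nat_lit 0x1018109112341) (.leaf (nat_lit 0x1018109112301) (nat_lit 1289))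
 (.leaf (nat_lit 0x1018109112341) (nat_lit 1289))
) (.node (nat_lit 0x1018109112751) (.leaf (nat_lit 0x1018109112711) (nat_lit 1033))
 (.leaf (nat_lit 0x1018109112751) (nat_lit 1033))
)) (.node (nat_lit 0x1018109112f11) (.node (nat_lit 0x1018109112b41) (.leaf (nat_lit 0x1018109112b01) (nat_lit 1025))
 (.leaf (nat_lit 0x1018109112b41) (nat_lit 1030))
) (.node (nat_lit 0x1018109112f51) (.leaf (nat_lit 0x1018109112f11) (nat_lit 775))
 (.leaf (nat_lit 0x1018109112f51) (nat_lit 772))
)))) (.node (nat_lit 0x1018109153301) (.node (nat_lit 0x1018109151b01) (.node (nat_lit 0x1018109151711) (.node (nat_lit 0x1018109151341) (.leaf (nat_lit 0x1018109151301) (nat_lit 1033))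
 (.leaf (nat_lit 0x1018109151341) (nat_lit 1033))
) (.node (nat_lit 0x1018109151751) (.leaf (nat_lit 0x1018109151711) (nat_lit 1289))
 (.leaf (nat_lit 0x1018109151751) (nat_lit 1289))
)) (.node (nat_lit 0x1018109151f11) (.node (nat_lit 0x1018109151b41) (.leaf (nat_lit 0x1018109151b01) (nat_lit 774))
 (.leaf (nat_lit 0x1018109151b41) (nat_lit 771))
) (.node (nat_lit 0x1018109151f51) (.leaf (nat_lit 0x1018109151f11) (nat_lit 1028))
 (.leaf (nat_lit 0x1018109151f51) (nat_lit 1031))
))) (.node (nat_lit 0x1018109153b01) (.node (nat_lit 0x1018109153711) (.node (nat_lit 0x1018109153341) (.leaf (nat_lit 0x1018109153301) (nat_lit 1033))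
 (.leaf (nat_lit 0x1018109153341) (nat_lit 1033))
) (.node (nat_lit 0x1018109153751) (.leaf (nat_lit 0x1018109153711) (nat_lit 1289))
 (.leaf (nat_lit 0x1018109153751) (nat_lit 1289))
)) (.node (nat_lit 0x1018109153f11) (.node (nat_lit 0x1018109153b41) (.leaf (nat_lit 0x1018109153b01) (nat_lit 769))
 (.leaf (nat_lit 0x1018109153b41) (nat_lit 774))
) (.node (nat_lit 0x1018109153f51) (.leaf (nat_lit 0x1018109153f11) (nat_lit 1031))
 (.leaf (nat_lit 0x1018109153f51) (nat_lit 1028))
)))))) (.node (nat_lit 0x101810b110381) (.node (nat_lit 0x101810b051381) (.node (nat_lit 0x101810b012381) (.node (nat_lit 0x101810b010b81) (.node (nat_lit 0x101810b010791) (.node (nat_lit 0x101810b0103c1) (.leaf (nat_lit 0x101810b010381) (nat_lit 1288))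
 (.leaf (nat_lit 0x101810b0103c1) (nat_lit 1800))
) (.node (nat_lit 0x101810b0107d1) (.leaf (nat_lit 0x101810b010791) (nat_lit 777))
 (.leaf (nat_lit 0x101810b0107d1) (nat_lit 1289))
)) (.node (nat_lit 0x101810b010f91) (.node (nat_lit 0x101810b010bc1) (.leaf (nat_lit 0x101810b010b81) (nat_lit 1545))
 (.leaf (nat_lit 0x101810b010bc1) (nat_lit 2057))
) (.node (nat_lit 0x101810b010fd1) (.leaf (nat_lit 0x101810b010f91) (nat_lit 516))
 (.leaf (nat_lit 0x101810b010fd1) (nat_lit 1028))
))) (.node (nat_lit 0x101810b012b81) (.node (nat_lit 0x101810b012791) (.node (nat_lit 0x101810b0123c1) (.leaf (nat_lit 0x101810b012381) (nat_lit 1288))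
 (.leaf (nat_lit 0x101810b0123c1) (nat_lit 1800))
) (.node (nat_lit 0x101810b0127d1) (.leaf (nat_lit 0x101810b012791) (nat_lit 777))
 (.leaf (nat_lit 0x101810b0127d1) (nat_lit 1289))
)) (.node (nat_lit 0x101810b012f91) (.node (nat_lit 0x101810b012bc1) (.leaf (nat_lit 0x101810b012b81) (nat_lit 1545))
 (.leaf (nat_lit 0x101810b012bc1) (nat_lit 2057))
) (.node (nat_lit 0x101810b012fd1) (.leaf (nat_lit 0x101810b012f91) (nat_lit 520))
 (.leaf (nat_lit 0x101810b012fd1) (nat_lit 1032))
)))) (.node (nat_lit 0x101810b053381) (.node (nat_lit 0x101810b051b81) (.node (nat_lit 0x101810b051791) (.node (nat_lit 0x101810b0513c1) (.leaf (nat_lit 0x101810b051381) (nat_lit 1032))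
 (.leaf (nat_lit 0x101810b0513c1) (nat_lit 1544))
) (.node (nat_lit 0x101810b0517d1) (.leaf (nat_lit 0x101810b051791) (nat_lit 1033))
 (.leaf (nat_lit 0x101810b0517d1) (nat_lit 1545))
)) (.node (nat_lit 0x101810b051f91) (.node (nat_lit 0x101810b051bc1) (.leaf (nat_lit 0x101810b051b81) (nat_lit 1289))
 (.leaf (nat_lit 0x101810b051bc1) (nat_lit 1801))
) (.node (nat_lit 0x101810b051fd1) (.leaf (nat_lit 0x101810b051f91) (nat_lit 772))
 (.leaf (nat_lit 0x101810b051fd1) (nat_lit 1284))
))) (.node (nat_lit 0x101810b053b81) (.node (nat_lit 0x101810b053791) (.node (nat_lit 0x101810b0533c1) (.leaf (nat_lit 0x101810b053381) (nat_lit 1032))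
 (.leaf (nat_lit 0x101810b0533c1) (nat_lit 1544))
) (.node (nat_lit 0x101810b0537d1) (.leaf (nat_lit 0x101810b053791) (nat_lit 1033))
 (.leaf (nat_lit 0x101810b0537d1) (nat_lit 1545))
)) (.node (nat_lit 0x101810b053f91) (.node (nat_lit 0x101810b053bc1) (.leaf (nat_lit 0x101810b053b81) (nat_lit 1289))
 (.leaf (nat_lit 0x101810b053bc1) (nat_lit 1801))
) (.node (nat_lit 0x101810b053fd1) (.leaf (nat_lit 0x101810b053f91) (nat_lit 776))
 (.leaf (nat_lit 0x101810b053fd1) (nat_lit 1288))
))))) (.node (nat_lit 0x101810b151381) (.node (nat_lit 0x101810b112381) (.node (nat_lit 0x101810b110b81) (.node (nat_lit 0x101810b110791) (.node (nat_lit 0x101810b1103c1) (.leaf (nat_lit 0x101810b110381) (nat_lit 1544))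
 (.leaf (nat_lit 0x101810b1103c1) (nat_lit 1544))
) (.node (nat_lit 0x101810b1107d1) (.leaf (nat_lit 0x101810b110791) (nat_lit 1033))
 (.leaf (nat_lit 0x101810b1107d1) (nat_lit 1033))
)) (.node (nat_lit 0x101810b110f91) (.node (nat_lit 0x101810b110bc1) (.leaf (nat_lit 0x101810b110b81) (nat_lit 1801))
 (.leaf (nat_lit 0x101810b110bc1) (nat_lit 1801))
) (.node (nat_lit 0x101810b110fd1) (.leaf (nat_lit 0x101810b110f91) (nat_lit 772))
 (.leaf (nat_lit 0x101810b110fd1) (nat_lit 772))
))) (.node (nat_lit 0x101810b112b81) (.node (nat_lit 0x101810b112791) (.node (nat_lit 0x101810b1123c1) (.leaf (nat_lit 0x101810b112381) (nat_lit 1544))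
 (.leaf (nat_lit 0x101810b1123c1) (nat_lit 1544))
) (.node (nat_lit 0x101810b1127d1) (.leaf (nat_lit 0x101810b112791) (nat_lit 1033))
 (.leaf (nat_lit 0x101810b1127d1) (nat_lit 1033))
)) (.node (nat_lit 0x101810b112f91) (.node (nat_lit 0x101810b112bc1) (.leaf (nat_lit 0x101810b112b81) (nat_lit 1801))
 (.leaf (nat_lit 0x101810b112bc1) (nat_lit 1801))
) (.node (nat_lit 0x101810b112fd1) (.leaf (nat_lit 0x101810b112f91) (nat_lit 776))
 (.leaf (nat_lit 0x101810b112fd1) (nat_lit 776))
)))) (.node (nat_lit 0x101810b153381) (.node (nat_lit 0x101810b151b81) (.node (nat_lit 0x101810b151791) (.node (nat_lit 0x101810b1513c1) (.leaf (nat_lit 0x101810b151381) (nat_lit 1288))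
 (.leaf (nat_lit 0x101810b1513c1) (nat_lit 1288))
) (.node (nat_lit 0x101810b1517d1) (.leaf (nat_lit 0x101810b151791) (nat_lit 1289))
 (.leaf (nat_lit 0x101810b1517d1) (nat_lit 1289))
)) (.node (nat_lit 0x101810b151f91) (.node (nat_lit 0x101810b151bc1) (.leaf (nat_lit 0x101810b151b81) (nat_lit 1545))
 (.leaf (nat_lit 0x101810b151bc1) (nat_lit 1545))
) (.node (nat_lit 0x101810b151fd1) (.leaf (nat_lit 0x101810b151f91) (nat_lit 1028))
 (.leaf (nat_lit 0x101810b151fd1) (nat_lit 1028))
))) (.node (nat_lit 0x101810b153b81) (.node (nat_lit 0x101810b153791) (.node (nat_lit 0x101810b1533c1) (.leaf (nat_lit 0x101810b153381) (nat_lit 1288))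
 (.leaf (nat_lit 0x101810b1533c1) (nat_lit 1288))
) (.node (nat_lit 0x101810b1537d1) (.leaf (nat_lit 0x101810b153791) (nat_lit 1289))
 (.leaf (nat_lit 0x101810b1537d1) (nat_lit 1289))
)) (.node (nat_lit 0x101810b153f91) (.node (nat_lit 0x101810b153bc1) (.leaf (nat_lit 0x101810b153b81) (nat_lit 1545))
 (.leaf (nat_lit 0x101810b153bc1) (nat_lit 1545))
) (.node (nat_lit 0x101810b153fd1) (.leaf (nat_lit 0x101810b153f91) (nat_lit 1032))
 (.leaf (nat_lit 0x101810b153fd1) (nat_lit 1032))
))))))))) (.node (nat_lit 0x1038101010301) (.node (nat_lit 0x1030109010101) (.node (nat_lit 0x1030103010181) (.node (nat_lit 0x1030101110101) (.node (nat_lit 0x1030101051101) (.node (nat_lit 0x1030101012101) (.node (nat_lit 0x1030101010901) (.node (nat_lit 0x1030101010511) (.node (nat_lit 0x1030101010141) (.leaf (nat_lit 0x1030101010101) (nat_lit 258))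
 (.leaf (nat_lit 0x1030101010141) (nat_lit 1027))
) (.node (nat_lit 0x1030101010551) (.leaf (nat_lit 0x1030101010511) (nat_lit 1031))
 (.leaf (nat_lit 0x1030101010551) (nat_lit 1543))
)) (.node (nat_lit 0x1030101010d11) (.node (nat_lit 0x1030101010941) (.leaf (nat_lit 0x1030101010901) (nat_lit 521))
 (.leaf (nat_lit 0x1030101010941) (nat_lit 1289))
) (.node (nat_lit 0x1030101010d51) (.leaf (nat_lit 0x1030101010d11) (nat_lit 1289))
 (.leaf (nat_lit 0x1030101010d51) (nat_lit 1801))
))) (.node (nat_lit 0x1030101012901) (.node (nat_lit 0x1030101012511) (.node (nat_lit 0x1030101012141) (.leaf (nat_lit 0x1030101012101) (nat_lit 514))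
 (.leaf (nat_lit 0x1030101012141) (nat_lit 771))
) (.node (nat_lit 0x1030101012551) (.leaf (nat_lit 0x1030101012511) (nat_lit 1031))
 (.leaf (nat_lit 0x1030101012551) (nat_lit 1543))
)) (.node (nat_lit 0x1030101012d11) (.node (nat_lit 0x1030101012941) (.leaf (nat_lit 0x1030101012901) (nat_lit 777))
 (.leaf (nat_lit 0x1030101012941) (nat_lit 1033))
) (.node (nat_lit 0x1030101012d51) (.leaf (nat_lit 0x1030101012d11) (nat_lit 1289))
 (.leaf (nat_lit 0x1030101012d51) (nat_lit 1801))
)))) (.node (nat_lit 0x1030101053101) (.node (nat_lit 0x1030101051901) (.node (nat_lit 0x1030101051511) (.node (nat_lit 0x1030101051141) (.leaf (nat_lit 0x1030101051101) (nat_lit 777))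
 (.leaf (nat_lit 0x1030101051141) (nat_lit 1289))
) (.node (nat_lit 0x1030101051551) (.leaf (nat_lit 0x1030101051511) (nat_lit 1033))
 (.leaf (nat_lit 0x1030101051551) (nat_lit 1545))
)) (.node (nat_lit 0x1030101051d11) (.node (nat_lit 0x1030101051941) (.leaf (nat_lit 0x1030101051901) (nat_lit 514))
 (.leaf (nat_lit 0x1030101051941) (nat_lit 1029))
) (.node (nat_lit 0x1030101051d51) (.leaf (nat_lit 0x1030101051d11) (nat_lit 775))
 (.leaf (nat_lit 0x1030101051d51) (nat_lit 1287))
))) (.node (nat_lit 0x1030101053901) (.node (nat_lit 0x1030101053511) (.node (nat_lit 0x1030101053141) (.leaf (nat_lit 0x1030101053101) (nat_lit 777))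
 (.leaf (nat_lit 0x1030101053141) (nat_lit 1289))
) (.node (nat_lit 0x1030101053551) (.leaf (nat_lit 0x1030101053511) (nat_lit 1033))
 (.leaf (nat_lit 0x1030101053551) (nat_lit 1545))
)) (.node (nat_lit 0x1030101053d11) (.node (nat_lit 0x1030101053941) (.leaf (nat_lit 0x1030101053901) (nat_lit 517))
 (.leaf (nat_lit 0x1030101053941) (nat_lit 1026))
) (.node (nat_lit 0x1030101053d51) (.leaf (nat_lit 0x1030101053d11) (nat_lit 775))
 (.leaf (nat_lit 0x1030101053d51) (nat_lit 1287))
))))) (.node (nat_lit 0x1030101151101) (.node (nat_lit 0x1030101112101) (.node (nat_lit 0x1030101110901) (.node (nat_lit 0x1030101110511) (.node (nat_lit 0x1030101110141) (.leaf (nat_lit 0x1030101110101) (nat_lit 770))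
 (.leaf (nat_lit 0x1030101110141) (nat_lit 515))
) (.node (nat_lit 0x1030101110551) (.leaf (nat_lit 0x1030101110511) (nat_lit 1287))
 (.leaf (nat_lit 0x1030101110551) (nat_lit 1287))
)) (.node (nat_lit 0x1030101110d11) (.node (nat_lit 0x1030101110941) (.leaf (nat_lit 0x1030101110901) (nat_lit 1033))
 (.leaf (nat_lit 0x1030101110941) (nat_lit 777))
) (.node (nat_lit 0x1030101110d51) (.leaf (nat_lit 0x1030101110d11) (nat_lit 1545))
 (.leaf (nat_lit 0x1030101110d51) (nat_lit 1545))
))) (.node (nat_lit 0x1030101112901) (.node (nat_lit 0x1030101112511) (.node (nat_lit 0x1030101112141) (.leaf (nat_lit 0x1030101112101) (nat_lit 514))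
 (.leaf (nat_lit 0x1030101112141) (nat_lit 771))
) (.node (nat_lit 0x1030101112551) (.leaf (nat_lit 0x1030101112511) (nat_lit 1287))
 (.leaf (nat_lit 0x1030101112551) (nat_lit 1287))
)) (.node (nat_lit 0x1030101112d11) (.node (nat_lit 0x1030101112941) (.leaf (nat_lit 0x1030101112901) (nat_lit 777))
 (.leaf (nat_lit 0x1030101112941) (nat_lit 1033))
) (.node (nat_lit 0x1030101112d51) (.leaf (nat_lit 0x1030101112d11) (nat_lit 1545))
 (.leaf (nat_lit 0x1030101112d51) (nat_lit 1545))
)))) (.node (nat_lit 0x1030101153101) (.node (nat_lit 0x1030101151901) (.node (nat_lit 0x1030101151511) (.node (nat_lit 0x1030101151141) (.leaf (nat_lit 0x1030101151101) (nat_lit 1033))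
 (.leaf (nat_lit 0x1030101151141) (nat_lit 1033))
) (.node (nat_lit 0x1030101151551) (.leaf (nat_lit 0x1030101151511) (nat_lit 1289))
 (.leaf (nat_lit 0x1030101151551) (nat_lit 1289))
)) (.node (nat_lit 0x1030101151d11) (.node (nat_lit 0x1030101151941) (.leaf (nat_lit 0x1030101151901) (nat_lit 773))
 (.leaf (nat_lit 0x1030101151941) (nat_lit 770))
) (.node (nat_lit 0x1030101151d51) (.leaf (nat_lit 0x1030101151d11) (nat_lit 1031))
 (.leaf (nat_lit 0x1030101151d51) (nat_lit 1031))
))) (.node (nat_lit 0x1030101153901) (.node (nat_lit 0x1030101153511) (.node (nat_lit 0x1030101153141) (.leaf (nat_lit 0x1030101153101) (nat_lit 1033))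
 (.leaf (nat_lit 0x1030101153141) (nat_lit 1033))
) (.node (nat_lit 0x1030101153551) (.leaf (nat_lit 0x1030101153511) (nat_lit 1289))
 (.leaf (nat_lit 0x1030101153551) (nat_lit 1289))
)) (.node (nat_lit 0x1030101153d11) (.node (nat_lit 0x1030101153941) (.leaf (nat_lit 0x1030101153901) (nat_lit 770))
 (.leaf (nat_lit 0x1030101153941) (nat_lit 773))
) (.node (nat_lit 0x1030101153d51) (.leaf (nat_lit 0x1030101153d11) (nat_lit 1031))
 (.leaf (nat_lit 0x1030101153d51) (nat_lit 1031))
)))))) (.node (nat_lit 0x1030103110181) (.node (nat_lit 0x1030103051181) (.node (nat_lit 0x1030103012181) (.node (nat_lit 0x1030103010981) (.node (nat_lit 0x1030103010591) (.node (nat_lit 0x10301030101c1) (.leaf (nat_lit 0x1030103010181) (nat_lit 1033))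
 (.leaf (nat_lit 0x10301030101c1) (nat_lit 1545))
) (.node (nat_lit 0x10301030105d1) (.leaf (nat_lit 0x1030103010591) (nat_lit 1032))
 (.leaf (nat_lit 0x10301030105d1) (nat_lit 1544))
)) (.node (nat_lit 0x1030103010d91) (.node (nat_lit 0x10301030109c1) (.leaf (nat_lit 0x1030103010981) (nat_lit 776))
 (.leaf (nat_lit 0x10301030109c1) (nat_lit 1288))
) (.node (nat_lit 0x1030103010dd1) (.leaf (nat_lit 0x1030103010d91) (nat_lit 1289))
 (.leaf (nat_lit 0x1030103010dd1) (nat_lit 1801))
))) (.node (nat_lit 0x1030103012981) (.node (nat_lit 0x1030103012591) (.node (nat_lit 0x10301030121c1) (.leaf (nat_lit 0x1030103012181) (nat_lit 1289))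
 (.leaf (nat_lit 0x10301030121c1) (nat_lit 1545))
) (.node (nat_lit 0x10301030125d1) (.leaf (nat_lit 0x1030103012591) (nat_lit 1032))
 (.leaf (nat_lit 0x10301030125d1) (nat_lit 1544))
)) (.node (nat_lit 0x1030103012d91) (.node (nat_lit 0x10301030129c1) (.leaf (nat_lit 0x1030103012981) (nat_lit 1032))
 (.leaf (nat_lit 0x10301030129c1) (nat_lit 1288))
) (.node (nat_lit 0x1030103012dd1) (.leaf (nat_lit 0x1030103012d91) (nat_lit 1289))
 (.leaf (nat_lit 0x1030103012dd1) (nat_lit 1801))
)))) (.node (nat_lit 0x1030103053181) (.node (nat_lit 0x1030103051981) (.node (nat_lit 0x1030103051591) (.node (nat_lit 0x10301030511c1) (.leaf (nat_lit 0x1030103051181) (nat_lit 1032))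
 (.leaf (nat_lit 0x10301030511c1) (nat_lit 1544))
) (.node (nat_lit 0x10301030515d1) (.leaf (nat_lit 0x1030103051591) (nat_lit 1033))
 (.leaf (nat_lit 0x10301030515d1) (nat_lit 1545))
)) (.node (nat_lit 0x1030103051d91) (.node (nat_lit 0x10301030519c1) (.leaf (nat_lit 0x1030103051981) (nat_lit 1289))
 (.leaf (nat_lit 0x10301030519c1) (nat_lit 1801))
) (.node (nat_lit 0x1030103051dd1) (.leaf (nat_lit 0x1030103051d91) (nat_lit 776))
 (.leaf (nat_lit 0x1030103051dd1) (nat_lit 1288))
))) (.node (nat_lit 0x1030103053981) (.node (nat_lit 0x1030103053591) (.node (nat_lit 0x10301030531c1) (.leaf (nat_lit 0x1030103053181) (nat_lit 1032))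
 (.leaf (nat_lit 0x10301030531c1) (nat_lit 1544))
) (.node (nat_lit 0x10301030535d1) (.leaf (nat_lit 0x1030103053591) (nat_lit 1033))
 (.leaf (nat_lit 0x10301030535d1) (nat_lit 1545))
)) (.node (nat_lit 0x1030103053d91) (.node (nat_lit 0x10301030539c1) (.leaf (nat_lit 0x1030103053981) (nat_lit 1289))
 (.leaf (nat_lit 0x10301030539c1) (nat_lit 1801))
) (.node (nat_lit 0x1030103053dd1) (.leaf (nat_lit 0x1030103053d91) (nat_lit 776))
 (.leaf (nat_lit 0x1030103053dd1) (nat_lit 1288))
))))) (.node (nat_lit 0x1030103151181) (.node (nat_lit 0x1030103112181) (.node (nat_lit 0x1030103110981) (.node (nat_lit 0x1030103110591) (.node (nat_lit 0x10301031101c1) (.leaf (nat_lit 0x1030103110181) (nat_lit 1289))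
 (.leaf (nat_lit 0x10301031101c1) (nat_lit 1289))
) (.node (nat_lit 0x10301031105d1) (.leaf (nat_lit 0x1030103110591) (nat_lit 1288))
 (.leaf (nat_lit 0x10301031105d1) (nat_lit 1288))
)) (.node (nat_lit 0x1030103110d91) (.node (nat_lit 0x10301031109c1) (.leaf (nat_lit 0x1030103110981) (nat_lit 1032))
 (.leaf (nat_lit 0x10301031109c1) (nat_lit 1032))
) (.node (nat_lit 0x1030103110dd1) (.leaf (nat_lit 0x1030103110d91) (nat_lit 1545))
 (.leaf (nat_lit 0x1030103110dd1) (nat_lit 1545))
))) (.node (nat_lit 0x1030103112981) (.node (nat_lit 0x1030103112591) (.node (nat_lit 0x10301031121c1) (.leaf (nat_lit 0x1030103112181) (nat_lit 1289))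
 (.leaf (nat_lit 0x10301031121c1) (nat_lit 1289))
) (.node (nat_lit 0x10301031125d1) (.leaf (nat_lit 0x1030103112591) (nat_lit 1288))
 (.leaf (nat_lit 0x10301031125d1) (nat_lit 1288))
)) (.node (nat_lit 0x1030103112d91) (.node (nat_lit 0x10301031129c1) (.leaf (nat_lit 0x1030103112981) (nat_lit 1032))
 (.leaf (nat_lit 0x10301031129c1) (nat_lit 1032))
) (.node (nat_lit 0x1030103112dd1) (.leaf (nat_lit 0x1030103112d91) (nat_lit 1545))
 (.leaf (nat_lit 0x1030103112dd1) (nat_lit 1545))
)))) (.node (nat_lit 0x1030103153181) (.node (nat_lit 0x1030103151981) (.node (nat_lit 0x1030103151591) (.node (nat_lit 0x10301031511c1) (.leaf (nat_lit 0x1030103151181) (nat_lit 1288))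
 (.leaf (nat_lit 0x10301031511c1) (nat_lit 1288))
) (.node (nat_lit 0x10301031515d1) (.leaf (nat_lit 0x1030103151591) (nat_lit 1289))
 (.leaf (nat_lit 0x10301031515d1) (nat_lit 1289))
)) (.node (nat_lit 0x1030103151d91) (.node (nat_lit 0x10301031519c1) (.leaf (nat_lit 0x1030103151981) (nat_lit 1545))
 (.leaf (nat_lit 0x10301031519c1) (nat_lit 1545))
) (.node (nat_lit 0x1030103151dd1) (.leaf (nat_lit 0x1030103151d91) (nat_lit 1032))
 (.leaf (nat_lit 0x1030103151dd1) (nat_lit 1032))
))) (.node (nat_lit 0x1030103153981) (.node (nat_lit 0x1030103153591) (.node (nat_lit 0x10301031531c1) (.leaf (nat_lit 0x1030103153181) (nat_lit 1288))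
 (.leaf (nat_lit 0x10301031531c1) (nat_lit 1288))
) (.node (nat_lit 0x10301031535d1) (.leaf (nat_lit 0x1030103153591) (nat_lit 1289))
 (.leaf (nat_lit 0x10301031535d1) (nat_lit 1289))
)) (.node (nat_lit 0x1030103153d91) (.node (nat_lit 0x10301031539c1) (.leaf (nat_lit 0x1030103153981) (nat_lit 1545))
 (.leaf (nat_lit 0x10301031539c1) (nat_lit 1545))
) (.node (nat_lit 0x1030103153dd1) (.leaf (nat_lit 0x1030103153d91) (nat_lit 1032))
 (.leaf (nat_lit 0x1030103153dd1) (nat_lit 1032))
))))))) (.node (nat_lit 0x103010b010181) (.node (nat_lit 0x1030109110101) (.node (nat_lit 0x1030109051101) (.node (nat_lit 0x1030109012101) (.node (nat_lit 0x1030109010901) (.node (nat_lit 0x1030109010511) (.node (nat_lit 0x1030109010141) (.leaf (nat_lit 0x1030109010101) (nat_lit 516))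
 (.leaf (nat_lit 0x1030109010141) (nat_lit 1284))
) (.node (nat_lit 0x1030109010551) (.leaf (nat_lit 0x1030109010511) (nat_lit 1284))
 (.leaf (nat_lit 0x1030109010551) (nat_lit 1799))
)) (.node (nat_lit 0x1030109010d11) (.node (nat_lit 0x1030109010941) (.leaf (nat_lit 0x1030109010901) (nat_lit 777))
 (.leaf (nat_lit 0x1030109010941) (nat_lit 1545))
) (.node (nat_lit 0x1030109010d51) (.leaf (nat_lit 0x1030109010d11) (nat_lit 1545))
 (.leaf (nat_lit 0x1030109010d51) (nat_lit 2057))
))) (.node (nat_lit 0x1030109012901) (.node (nat_lit 0x1030109012511) (.node (nat_lit 0x1030109012141) (.leaf (nat_lit 0x1030109012101) (nat_lit 772))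
 (.leaf (nat_lit 0x1030109012141) (nat_lit 1028))
) (.node (nat_lit 0x1030109012551) (.leaf (nat_lit 0x1030109012511) (nat_lit 1287))
 (.leaf (nat_lit 0x1030109012551) (nat_lit 1796))
)) (.node (nat_lit 0x1030109012d11) (.node (nat_lit 0x1030109012941) (.leaf (nat_lit 0x1030109012901) (nat_lit 1033))
 (.leaf (nat_lit 0x1030109012941) (nat_lit 1289))
) (.node (nat_lit 0x1030109012d51) (.leaf (nat_lit 0x1030109012d11) (nat_lit 1545))
 (.leaf (nat_lit 0x1030109012d51) (nat_lit 2057))
)))) (.node (nat_lit 0x1030109053101) (.node (nat_lit 0x1030109051901) (.node (nat_lit 0x1030109051511) (.node (nat_lit 0x1030109051141) (.leaf (nat_lit 0x1030109051101) (nat_lit 1033))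
 (.leaf (nat_lit 0x1030109051141) (nat_lit 1545))
) (.node (nat_lit 0x1030109051551) (.leaf (nat_lit 0x1030109051511) (nat_lit 1289))
 (.leaf (nat_lit 0x1030109051551) (nat_lit 1801))
)) (.node (nat_lit 0x1030109051d11) (.node (nat_lit 0x1030109051941) (.leaf (nat_lit 0x1030109051901) (nat_lit 770))
 (.leaf (nat_lit 0x1030109051941) (nat_lit 1285))
) (.node (nat_lit 0x1030109051d51) (.leaf (nat_lit 0x1030109051d11) (nat_lit 1031))
 (.leaf (nat_lit 0x1030109051d51) (nat_lit 1540))
))) (.node (nat_lit 0x1030109053901) (.node (nat_lit 0x1030109053511) (.node (nat_lit 0x1030109053141) (.leaf (nat_lit 0x1030109053101) (nat_lit 1033))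
 (.leaf (nat_lit 0x1030109053141) (nat_lit 1545))
) (.node (nat_lit 0x1030109053551) (.leaf (nat_lit 0x1030109053511) (nat_lit 1289))
 (.leaf (nat_lit 0x1030109053551) (nat_lit 1801))
)) (.node (nat_lit 0x1030109053d11) (.node (nat_lit 0x1030109053941) (.leaf (nat_lit 0x1030109053901) (nat_lit 773))
 (.leaf (nat_lit 0x1030109053941) (nat_lit 1282))
) (.node (nat_lit 0x1030109053d51) (.leaf (nat_lit 0x1030109053d11) (nat_lit 1028))
 (.leaf (nat_lit 0x1030109053d51) (nat_lit 1543))
))))) (.node (nat_lit 0x1030109151101) (.node (nat_lit 0x1030109112101) (.node (nat_lit 0x1030109110901) (.node (nat_lit 0x1030109110511) (.node (nat_lit 0x1030109110141) (.leaf (nat_lit 0x1030109110101) (nat_lit 1028))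
 (.leaf (nat_lit 0x1030109110141) (nat_lit 772))
) (.node (nat_lit 0x1030109110551) (.leaf (nat_lit 0x1030109110511) (nat_lit 1543))
 (.leaf (nat_lit 0x1030109110551) (nat_lit 1540))
)) (.node (nat_lit 0x1030109110d11) (.node (nat_lit 0x1030109110941) (.leaf (nat_lit 0x1030109110901) (nat_lit 1289))
 (.leaf (nat_lit 0x1030109110941) (nat_lit 1033))
) (.node (nat_lit 0x1030109110d51) (.leaf (nat_lit 0x1030109110d11) (nat_lit 1801))
 (.leaf (nat_lit 0x1030109110d51) (nat_lit 1801))
))) (.node (nat_lit 0x1030109112901) (.node (nat_lit 0x1030109112511) (.node (nat_lit 0x1030109112141) (.leaf (nat_lit 0x1030109112101) (nat_lit 772))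
 (.leaf (nat_lit 0x1030109112141) (nat_lit 1028))
) (.node (nat_lit 0x1030109112551) (.leaf (nat_lit 0x1030109112511) (nat_lit 1540))
 (.leaf (nat_lit 0x1030109112551) (nat_lit 1543))
)) (.node (nat_lit 0x1030109112d11) (.node (nat_lit 0x1030109112941) (.leaf (nat_lit 0x1030109112901) (nat_lit 1033))
 (.leaf (nat_lit 0x1030109112941) (nat_lit 1289))
) (.node (nat_lit 0x1030109112d51) (.leaf (nat_lit 0x1030109112d11) (nat_lit 1801))
 (.leaf (nat_lit 0x1030109112d51) (nat_lit 1801))
)))) (.node (nat_lit 0x1030109153101) (.node (nat_lit 0x1030109151901) (.node (nat_lit 0x1030109151511) (.node (nat_lit 0x1030109151141) (.leaf (nat_lit 0x1030109151101) (nat_lit 1289))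
 (.leaf (nat_lit 0x1030109151141) (nat_lit 1289))
) (.node (nat_lit 0x1030109151551) (.leaf (nat_lit 0x1030109151511) (nat_lit 1545))
 (.leaf (nat_lit 0x1030109151551) (nat_lit 1545))
)) (.node (nat_lit 0x1030109151d11) (.node (nat_lit 0x1030109151941) (.leaf (nat_lit 0x1030109151901) (nat_lit 1029))
 (.leaf (nat_lit 0x1030109151941) (nat_lit 1026))
) (.node (nat_lit 0x1030109151d51) (.leaf (nat_lit 0x1030109151d11) (nat_lit 1284))
 (.leaf (nat_lit 0x1030109151d51) (nat_lit 1287))
))) (.node (nat_lit 0x1030109153901) (.node (nat_lit 0x1030109153511) (.node (nat_lit 0x1030109153141) (.leaf (nat_lit 0x1030109153101) (nat_lit 1289))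
 (.leaf (nat_lit 0x1030109153141) (nat_lit 1289))
) (.node (nat_lit 0x1030109153551) (.leaf (nat_lit 0x1030109153511) (nat_lit 1545))
 (.leaf (nat_lit 0x1030109153551) (nat_lit 1545))
)) (.node (nat_lit 0x1030109153d11) (.node (nat_lit 0x1030109153941) (.leaf (nat_lit 0x1030109153901) (nat_lit 1026))
 (.leaf (nat_lit 0x1030109153941) (nat_lit 1029))
) (.node (nat_lit 0x1030109153d51) (.leaf (nat_lit 0x1030109153d11) (nat_lit 1287))
 (.leaf (nat_lit 0x1030109153d51) (nat_lit 1284))
)))))) (.node (nat_lit 0x103010b110181) (.node (nat_lit 0x103010b051181) (.node (nat_lit 0x103010b012181) (.node (nat_lit 0x103010b010981) (.node (nat_lit 0x103010b010591) (.node (nat_lit 0x103010b0101c1) (.leaf (nat_lit 0x103010b010181) (nat_lit 1289))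
 (.leaf (nat_lit 0x103010b0101c1) (nat_lit 1801))
) (.node (nat_lit 0x103010b0105d1) (.leaf (nat_lit 0x103010b010591) (nat_lit 1284))
 (.leaf (nat_lit 0x103010b0105d1) (nat_lit 1796))
)) (.node (nat_lit 0x103010b010d91) (.node (nat_lit 0x103010b0109c1) (.leaf (nat_lit 0x103010b010981) (nat_lit 1032))
 (.leaf (nat_lit 0x103010b0109c1) (nat_lit 1544))
) (.node (nat_lit 0x103010b010dd1) (.leaf (nat_lit 0x103010b010d91) (nat_lit 1545))
 (.leaf (nat_lit 0x103010b010dd1) (nat_lit 2057))
))) (.node (nat_lit 0x103010b012981) (.node (nat_lit 0x103010b012591) (.node (nat_lit 0x103010b0121c1) (.leaf (nat_lit 0x103010b012181) (nat_lit 1289))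
 (.leaf (nat_lit 0x103010b0121c1) (nat_lit 1801))
) (.node (nat_lit 0x103010b0125d1) (.leaf (nat_lit 0x103010b012591) (nat_lit 1288))
 (.leaf (nat_lit 0x103010b0125d1) (nat_lit 1800))
)) (.node (nat_lit 0x103010b012d91) (.node (nat_lit 0x103010b0129c1) (.leaf (nat_lit 0x103010b012981) (nat_lit 1032))
 (.leaf (nat_lit 0x103010b0129c1) (nat_lit 1544))
) (.node (nat_lit 0x103010b012dd1) (.leaf (nat_lit 0x103010b012d91) (nat_lit 1545))
 (.leaf (nat_lit 0x103010b012dd1) (nat_lit 2057))
)))) (.node (nat_lit 0x103010b053181) (.node (nat_lit 0x103010b051981) (.node (nat_lit 0x103010b051591) (.node (nat_lit 0x103010b0511c1) (.leaf (nat_lit 0x103010b051181) (nat_lit 1288))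
 (.leaf (nat_lit 0x103010b0511c1) (nat_lit 1800))
) (.node (nat_lit 0x103010b0515d1) (.leaf (nat_lit 0x103010b051591) (nat_lit 1289))
 (.leaf (nat_lit 0x103010b0515d1) (nat_lit 1801))
)) (.node (nat_lit 0x103010b051d91) (.node (nat_lit 0x103010b0519c1) (.leaf (nat_lit 0x103010b051981) (nat_lit 1545))
 (.leaf (nat_lit 0x103010b0519c1) (nat_lit 2057))
) (.node (nat_lit 0x103010b051dd1) (.leaf (nat_lit 0x103010b051d91) (nat_lit 1032))
 (.leaf (nat_lit 0x103010b051dd1) (nat_lit 1544))
))) (.node (nat_lit 0x103010b053981) (.node (nat_lit 0x103010b053591) (.node (nat_lit 0x103010b0531c1) (.leaf (nat_lit 0x103010b053181) (nat_lit 1288))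
 (.leaf (nat_lit 0x103010b0531c1) (nat_lit 1800))
) (.node (nat_lit 0x103010b0535d1) (.leaf (nat_lit 0x103010b053591) (nat_lit 1289))
 (.leaf (nat_lit 0x103010b0535d1) (nat_lit 1801))
)) (.node (nat_lit 0x103010b053d91) (.node (nat_lit 0x103010b0539c1) (.leaf (nat_lit 0x103010b053981) (nat_lit 1545))
 (.leaf (nat_lit 0x103010b0539c1) (nat_lit 2057))
) (.node (nat_lit 0x103010b053dd1) (.leaf (nat_lit 0x103010b053d91) (nat_lit 1028))
 (.leaf (nat_lit 0x103010b053dd1) (nat_lit 1540))
))))) (.node (nat_lit 0x103010b151181) (.node (nat_lit 0x103010b112181) (.node (nat_lit 0x103010b110981) (.node (nat_lit 0x103010b110591) (.node (nat_lit 0x103010b1101c1) (.leaf (nat_lit 0x103010b110181) (nat_lit 1545))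
 (.leaf (nat_lit 0x103010b1101c1) (nat_lit 1545))
) (.node (nat_lit 0x103010b1105d1) (.leaf (nat_lit 0x103010b110591) (nat_lit 1544))
 (.leaf (nat_lit 0x103010b1105d1) (nat_lit 1544))
)) (.node (nat_lit 0x103010b110d91) (.node (nat_lit 0x103010b1109c1) (.leaf (nat_lit 0x103010b110981) (nat_lit 1288))
 (.leaf (nat_lit 0x103010b1109c1) (nat_lit 1288))
) (.node (nat_lit 0x103010b110dd1) (.leaf (nat_lit 0x103010b110d91) (nat_lit 1801))
 (.leaf (nat_lit 0x103010b110dd1) (nat_lit 1801))
))) (.node (nat_lit 0x103010b112981) (.node (nat_lit 0x103010b112591) (.node (nat_lit 0x103010b1121c1) (.leaf (nat_lit 0x103010b112181) (nat_lit 1545))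
 (.leaf (nat_lit 0x103010b1121c1) (nat_lit 1545))
) (.node (nat_lit 0x103010b1125d1) (.leaf (nat_lit 0x103010b112591) (nat_lit 1540))
 (.leaf (nat_lit 0x103010b1125d1) (nat_lit 1540))
)) (.node (nat_lit 0x103010b112d91) (.node (nat_lit 0x103010b1129c1) (.leaf (nat_lit 0x103010b112981) (nat_lit 1288))
 (.leaf (nat_lit 0x103010b1129c1) (nat_lit 1288))
) (.node (nat_lit 0x103010b112dd1) (.leaf (nat_lit 0x103010b112d91) (nat_lit 1801))
 (.leaf (nat_lit 0x103010b112dd1) (nat_lit 1801))
)))) (.node (nat_lit 0x103010b153181) (.node (nat_lit 0x103010b151981) (.node (nat_lit 0x103010b151591) (.node (nat_lit 0x103010b1511c1) (.leaf (nat_lit 0x103010b151181) (nat_lit 1544))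
 (.leaf (nat_lit 0x103010b1511c1) (nat_lit 1544))
) (.node (nat_lit 0x103010b1515d1) (.leaf (nat_lit 0x103010b151591) (nat_lit 1545))
 (.leaf (nat_lit 0x103010b1515d1) (nat_lit 1545))
)) (.node (nat_lit 0x103010b151d91) (.node (nat_lit 0x103010b1519c1) (.leaf (nat_lit 0x103010b151981) (nat_lit 1801))
 (.leaf (nat_lit 0x103010b1519c1) (nat_lit 1801))
) (.node (nat_lit 0x103010b151dd1) (.leaf (nat_lit 0x103010b151d91) (nat_lit 1284))
 (.leaf (nat_lit 0x103010b151dd1) (nat_lit 1284))
))) (.node (nat_lit 0x103010b153981) (.node (nat_lit 0x103010b153591) (.node (nat_lit 0x103010b1531c1) (.leaf (nat_lit 0x103010b153181) (nat_lit 1544))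
 (.leaf (nat_lit 0x103010b1531c1) (nat_lit 1544))
) (.node (nat_lit 0x103010b1535d1) (.leaf (nat_lit 0x103010b153591) (nat_lit 1545))
 (.leaf (nat_lit 0x103010b1535d1) (nat_lit 1545))
)) (.node (nat_lit 0x103010b153d91) (.node (nat_lit 0x103010b1539c1) (.leaf (nat_lit 0x103010b153981) (nat_lit 1801))
 (.leaf (nat_lit 0x103010b1539c1) (nat_lit 1801))
) (.node (nat_lit 0x103010b153dd1) (.leaf (nat_lit 0x103010b153d91) (nat_lit 1288))
 (.leaf (nat_lit 0x103010b153dd1) (nat_lit 1288))
)))))))) (.node (nat_lit 0x1038109010301) (.node (nat_lit 0x1038103010381) (.node (nat_lit 0x1038101110301) (.node (nat_lit 0x1038101051301) (.node (nat_lit 0x1038101012301) (.node (nat_lit 0x1038101010b01) (.node (nat_lit 0x1038101010711) (.node (nat_lit 0x1038101010341) (.leaf (nat_lit 0x1038101010301) (nat_lit 1033))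
 (.leaf (nat_lit 0x1038101010341) (nat_lit 1545))
) (.node (nat_lit 0x1038101010751) (.leaf (nat_lit 0x1038101010711) (nat_lit 777))
 (.leaf (nat_lit 0x1038101010751) (nat_lit 1289))
)) (.node (nat_lit 0x1038101010f11) (.node (nat_lit 0x1038101010b41) (.leaf (nat_lit 0x1038101010b01) (nat_lit 774))
 (.leaf (nat_lit 0x1038101010b41) (nat_lit 1283))
) (.node (nat_lit 0x1038101010f51) (.leaf (nat_lit 0x1038101010f11) (nat_lit 519))
 (.leaf (nat_lit 0x1038101010f51) (nat_lit 1027))
))) (.node (nat_lit 0x1038101012b01) (.node (nat_lit 0x1038101012711) (.node (nat_lit 0x1038101012341) (.leaf (nat_lit 0x1038101012301) (nat_lit 1033))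
 (.leaf (nat_lit 0x1038101012341) (nat_lit 1545))
) (.node (nat_lit 0x1038101012751) (.leaf (nat_lit 0x1038101012711) (nat_lit 1033))
 (.leaf (nat_lit 0x1038101012751) (nat_lit 1289))
)) (.node (nat_lit 0x1038101012f11) (.node (nat_lit 0x1038101012b41) (.leaf (nat_lit 0x1038101012b01) (nat_lit 774))
 (.leaf (nat_lit 0x1038101012b41) (nat_lit 1286))
) (.node (nat_lit 0x1038101012f51) (.leaf (nat_lit 0x1038101012f11) (nat_lit 775))
 (.leaf (nat_lit 0x1038101012f51) (nat_lit 1031))
)))) (.node (nat_lit 0x1038101053301) (.node (nat_lit 0x1038101051b01) (.node (nat_lit 0x1038101051711) (.node (nat_lit 0x1038101051341) (.leaf (nat_lit 0x1038101051301) (nat_lit 777))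
 (.leaf (nat_lit 0x1038101051341) (nat_lit 1289))
) (.node (nat_lit 0x1038101051751) (.leaf (nat_lit 0x1038101051711) (nat_lit 1033))
 (.leaf (nat_lit 0x1038101051751) (nat_lit 1545))
)) (.node (nat_lit 0x1038101051f11) (.node (nat_lit 0x1038101051b41) (.leaf (nat_lit 0x1038101051b01) (nat_lit 514))
 (.leaf (nat_lit 0x1038101051b41) (nat_lit 1030))
) (.node (nat_lit 0x1038101051f51) (.leaf (nat_lit 0x1038101051f11) (nat_lit 775))
 (.leaf (nat_lit 0x1038101051f51) (nat_lit 1287))
))) (.node (nat_lit 0x1038101053b01) (.node (nat_lit 0x1038101053711) (.node (nat_lit 0x1038101053341) (.leaf (nat_lit 0x1038101053301) (nat_lit 777))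
 (.leaf (nat_lit 0x1038101053341) (nat_lit 1289))
) (.node (nat_lit 0x1038101053751) (.leaf (nat_lit 0x1038101053711) (nat_lit 1033))
 (.leaf (nat_lit 0x1038101053751) (nat_lit 1545))
)) (.node (nat_lit 0x1038101053f11) (.node (nat_lit 0x1038101053b41) (.leaf (nat_lit 0x1038101053b01) (nat_lit 518))
 (.leaf (nat_lit 0x1038101053b41) (nat_lit 1027))
) (.node (nat_lit 0x1038101053f51) (.leaf (nat_lit 0x1038101053f11) (nat_lit 775))
 (.leaf (nat_lit 0x1038101053f51) (nat_lit 1283))
))))) (.node (nat_lit 0x1038101151301) (.node (nat_lit 0x1038101112301) (.node (nat_lit 0x1038101110b01) (.node (nat_lit 0x1038101110711) (.node (nat_lit 0x1038101110341) (.leaf (nat_lit 0x1038101110301) (nat_lit 1289))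
 (.leaf (nat_lit 0x1038101110341) (nat_lit 1289))
) (.node (nat_lit 0x1038101110751) (.leaf (nat_lit 0x1038101110711) (nat_lit 1033))
 (.leaf (nat_lit 0x1038101110751) (nat_lit 1033))
)) (.node (nat_lit 0x1038101110f11) (.node (nat_lit 0x1038101110b41) (.leaf (nat_lit 0x1038101110b01) (nat_lit 1030))
 (.leaf (nat_lit 0x1038101110b41) (nat_lit 1027))
) (.node (nat_lit 0x1038101110f51) (.leaf (nat_lit 0x1038101110f11) (nat_lit 775))
 (.leaf (nat_lit 0x1038101110f51) (nat_lit 771))
))) (.node (nat_lit 0x1038101112b01) (.node (nat_lit 0x1038101112711) (.node (nat_lit 0x1038101112341) (.leaf (nat_lit 0x1038101112301) (nat_lit 1289))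
 (.leaf (nat_lit 0x1038101112341) (nat_lit 1289))
) (.node (nat_lit 0x1038101112751) (.leaf (nat_lit 0x1038101112711) (nat_lit 1033))
 (.leaf (nat_lit 0x1038101112751) (nat_lit 1033))
)) (.node (nat_lit 0x1038101112f11) (.node (nat_lit 0x1038101112b41) (.leaf (nat_lit 0x1038101112b01) (nat_lit 1030))
 (.leaf (nat_lit 0x1038101112b41) (nat_lit 1030))
) (.node (nat_lit 0x1038101112f51) (.leaf (nat_lit 0x1038101112f11) (nat_lit 769))
 (.leaf (nat_lit 0x1038101112f51) (nat_lit 775))
)))) (.node (nat_lit 0x1038101153301) (.node (nat_lit 0x1038101151b01) (.node (nat_lit 0x1038101151711) (.node (nat_lit 0x1038101151341) (.leaf (nat_lit 0x1038101151301) (nat_lit 1033))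
 (.leaf (nat_lit 0x1038101151341) (nat_lit 1033))
) (.node (nat_lit 0x1038101151751) (.leaf (nat_lit 0x1038101151711) (nat_lit 1289))
 (.leaf (nat_lit 0x1038101151751) (nat_lit 1289))
)) (.node (nat_lit 0x1038101151f11) (.node (nat_lit 0x1038101151b41) (.leaf (nat_lit 0x1038101151b01) (nat_lit 770))
 (.leaf (nat_lit 0x1038101151b41) (nat_lit 774))
) (.node (nat_lit 0x1038101151f51) (.leaf (nat_lit 0x1038101151f11) (nat_lit 1031))
 (.leaf (nat_lit 0x1038101151f51) (nat_lit 1031))
))) (.node (nat_lit 0x1038101153b01) (.node (nat_lit 0x1038101153711) (.node (nat_lit 0x1038101153341) (.leaf (nat_lit 0x1038101153301) (nat_lit 1033))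
 (.leaf (nat_lit 0x1038101153341) (nat_lit 1033))
) (.node (nat_lit 0x1038101153751) (.leaf (nat_lit 0x1038101153711) (nat_lit 1289))
 (.leaf (nat_lit 0x1038101153751) (nat_lit 1289))
)) (.node (nat_lit 0x1038101153f11) (.node (nat_lit 0x1038101153b41) (.leaf (nat_lit 0x1038101153b01) (nat_lit 774))
 (.leaf (nat_lit 0x1038101153b41) (nat_lit 771))
) (.node (nat_lit 0x1038101153f51) (.leaf (nat_lit 0x1038101153f11) (nat_lit 1031))
 (.leaf (nat_lit 0x1038101153f51) (nat_lit 1027))
)))))) (.node (nat_lit 0x1038103110381) (.node (nat_lit 0x1038103051381) (.node (nat_lit 0x1038103012381) (.node (nat_lit 0x1038103010b81) (.node (nat_lit 0x1038103010791) (.node (nat_lit 0x10381030103c1) (.leaf (nat_lit 0x1038103010381) (nat_lit 1288))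
 (.leaf (nat_lit 0x10381030103c1) (nat_lit 1800))
) (.node (nat_lit 0x10381030107d1) (.leaf (nat_lit 0x1038103010791) (nat_lit 777))
 (.leaf (nat_lit 0x10381030107d1) (nat_lit 1289))
)) (.node (nat_lit 0x1038103010f91) (.node (nat_lit 0x1038103010bc1) (.leaf (nat_lit 0x1038103010b81) (nat_lit 1545))
 (.leaf (nat_lit 0x1038103010bc1) (nat_lit 2057))
) (.node (nat_lit 0x1038103010fd1) (.leaf (nat_lit 0x1038103010f91) (nat_lit 520))
 (.leaf (nat_lit 0x1038103010fd1) (nat_lit 1032))
))) (.node (nat_lit 0x1038103012b81) (.node (nat_lit 0x1038103012791) (.node (nat_lit 0x10381030123c1) (.leaf (nat_lit 0x1038103012381) (nat_lit 1288))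
 (.leaf (nat_lit 0x10381030123c1) (nat_lit 1800))
) (.node (nat_lit 0x10381030127d1) (.leaf (nat_lit 0x1038103012791) (nat_lit 1033))
 (.leaf (nat_lit 0x10381030127d1) (nat_lit 1289))
)) (.node (nat_lit 0x1038103012f91) (.node (nat_lit 0x1038103012bc1) (.leaf (nat_lit 0x1038103012b81) (nat_lit 1545))
 (.leaf (nat_lit 0x1038103012bc1) (nat_lit 2057))
) (.node (nat_lit 0x1038103012fd1) (.leaf (nat_lit 0x1038103012f91) (nat_lit 776))
 (.leaf (nat_lit 0x1038103012fd1) (nat_lit 1025))
)))) (.node (nat_lit 0x1038103053381) (.node (nat_lit 0x1038103051b81) (.node (nat_lit 0x1038103051791) (.node (nat_lit 0x10381030513c1) (.leaf (nat_lit 0x1038103051381) (nat_lit 1032))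
 (.leaf (nat_lit 0x10381030513c1) (nat_lit 1544))
) (.node (nat_lit 0x10381030517d1) (.leaf (nat_lit 0x1038103051791) (nat_lit 1033))
 (.leaf (nat_lit 0x10381030517d1) (nat_lit 1545))
)) (.node (nat_lit 0x1038103051f91) (.node (nat_lit 0x1038103051bc1) (.leaf (nat_lit 0x1038103051b81) (nat_lit 1289))
 (.leaf (nat_lit 0x1038103051bc1) (nat_lit 1801))
) (.node (nat_lit 0x1038103051fd1) (.leaf (nat_lit 0x1038103051f91) (nat_lit 776))
 (.leaf (nat_lit 0x1038103051fd1) (nat_lit 1288))
))) (.node (nat_lit 0x1038103053b81) (.node (nat_lit 0x1038103053791) (.node (nat_lit 0x10381030533c1) (.leaf (nat_lit 0x1038103053381) (nat_lit 1032))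
 (.leaf (nat_lit 0x10381030533c1) (nat_lit 1544))
) (.node (nat_lit 0x10381030537d1) (.leaf (nat_lit 0x1038103053791) (nat_lit 1033))
 (.leaf (nat_lit 0x10381030537d1) (nat_lit 1545))
)) (.node (nat_lit 0x1038103053f91) (.node (nat_lit 0x1038103053bc1) (.leaf (nat_lit 0x1038103053b81) (nat_lit 1289))
 (.leaf (nat_lit 0x1038103053bc1) (nat_lit 1801))
) (.node (nat_lit 0x1038103053fd1) (.leaf (nat_lit 0x1038103053f91) (nat_lit 776))
 (.leaf (nat_lit 0x1038103053fd1) (nat_lit 1288))
))))) (.node (nat_lit 0x1038103151381) (.node (nat_lit 0x1038103112381) (.node (nat_lit 0x1038103110b81) (.node (nat_lit 0x1038103110791) (.node (nat_lit 0x10381031103c1) (.leaf (nat_lit 0x1038103110381) (nat_lit 1544))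
 (.leaf (nat_lit 0x10381031103c1) (nat_lit 1544))
) (.node (nat_lit 0x10381031107d1) (.leaf (nat_lit 0x1038103110791) (nat_lit 1033))
 (.leaf (nat_lit 0x10381031107d1) (nat_lit 1033))
)) (.node (nat_lit 0x1038103110f91) (.node (nat_lit 0x1038103110bc1) (.leaf (nat_lit 0x1038103110b81) (nat_lit 1801))
 (.leaf (nat_lit 0x1038103110bc1) (nat_lit 1801))
) (.node (nat_lit 0x1038103110fd1) (.leaf (nat_lit 0x1038103110f91) (nat_lit 776))
 (.leaf (nat_lit 0x1038103110fd1) (nat_lit 776))
))) (.node (nat_lit 0x1038103112b81) (.node (nat_lit 0x1038103112791) (.node (nat_lit 0x10381031123c1) (.leaf (nat_lit 0x1038103112381) (nat_lit 1544))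
 (.leaf (nat_lit 0x10381031123c1) (nat_lit 1544))
) (.node (nat_lit 0x10381031127d1) (.leaf (nat_lit 0x1038103112791) (nat_lit 1033))
 (.leaf (nat_lit 0x10381031127d1) (nat_lit 1289))
)) (.node (nat_lit 0x1038103112f91) (.node (nat_lit 0x1038103112bc1) (.leaf (nat_lit 0x1038103112b81) (nat_lit 1801))
 (.leaf (nat_lit 0x1038103112bc1) (nat_lit 1801))
) (.node (nat_lit 0x1038103112fd1) (.leaf (nat_lit 0x1038103112f91) (nat_lit 769))
 (.leaf (nat_lit 0x1038103112fd1) (nat_lit 1032))
)))) (.node (nat_lit 0x1038103153381) (.node (nat_lit 0x1038103151b81) (.node (nat_lit 0x1038103151791) (.node (nat_lit 0x10381031513c1) (.leaf (nat_lit 0x1038103151381) (nat_lit 1288))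
 (.leaf (nat_lit 0x10381031513c1) (nat_lit 1288))
) (.node (nat_lit 0x10381031517d1) (.leaf (nat_lit 0x1038103151791) (nat_lit 1289))
 (.leaf (nat_lit 0x10381031517d1) (nat_lit 1289))
)) (.node (nat_lit 0x1038103151f91) (.node (nat_lit 0x1038103151bc1) (.leaf (nat_lit 0x1038103151b81) (nat_lit 1545))
 (.leaf (nat_lit 0x1038103151bc1) (nat_lit 1545))
) (.node (nat_lit 0x1038103151fd1) (.leaf (nat_lit 0x1038103151f91) (nat_lit 1032))
 (.leaf (nat_lit 0x1038103151fd1) (nat_lit 1032))
))) (.node (nat_lit 0x1038103153b81) (.node (nat_lit 0x1038103153791) (.node (nat_lit 0x10381031533c1) (.leaf (nat_lit 0x1038103153381) (nat_lit 1288))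
 (.leaf (nat_lit 0x10381031533c1) (nat_lit 1288))
) (.node (nat_lit 0x10381031537d1) (.leaf (nat_lit 0x1038103153791) (nat_lit 1289))
 (.leaf (nat_lit 0x10381031537d1) (nat_lit 1289))
)) (.node (nat_lit 0x1038103153f91) (.node (nat_lit 0x1038103153bc1) (.leaf (nat_lit 0x1038103153b81) (nat_lit 1545))
 (.leaf (nat_lit 0x1038103153bc1) (nat_lit 1545))
) (.node (nat_lit 0x1038103153fd1) (.leaf (nat_lit 0x1038103153f91) (nat_lit 1032))
 (.leaf (nat_lit 0x1038103153fd1) (nat_lit 1032))
))))))) (.node (nat_lit 0x103810b010381) (.node (nat_lit 0x1038109110301) (.node (nat_lit 0x1038109051301) (.node (nat_lit 0x1038109012301) (.node (nat_lit 0x1038109010b01) (.node (nat_lit 0x1038109010711) (.node (nat_lit 0x1038109010341) (.leaf (nat_lit 0x1038109010301) (nat_lit 1289))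
 (.leaf (nat_lit 0x1038109010341) (nat_lit 1801))
) (.node (nat_lit 0x1038109010751) (.leaf (nat_lit 0x1038109010711) (nat_lit 1033))
 (.leaf (nat_lit 0x1038109010751) (nat_lit 1545))
)) (.node (nat_lit 0x1038109010f11) (.node (nat_lit 0x1038109010b41) (.leaf (nat_lit 0x1038109010b01) (nat_lit 1030))
 (.leaf (nat_lit 0x1038109010b41) (nat_lit 1539))
) (.node (nat_lit 0x1038109010f51) (.leaf (nat_lit 0x1038109010f11) (nat_lit 772))
 (.leaf (nat_lit 0x1038109010f51) (nat_lit 1287))
))) (.node (nat_lit 0x1038109012b01) (.node (nat_lit 0x1038109012711) (.node (nat_lit 0x1038109012341) (.leaf (nat_lit 0x1038109012301) (nat_lit 1289))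
 (.leaf (nat_lit 0x1038109012341) (nat_lit 1801))
) (.node (nat_lit 0x1038109012751) (.leaf (nat_lit 0x1038109012711) (nat_lit 1033))
 (.leaf (nat_lit 0x1038109012751) (nat_lit 1545))
)) (.node (nat_lit 0x1038109012f11) (.node (nat_lit 0x1038109012b41) (.leaf (nat_lit 0x1038109012b01) (nat_lit 1030))
 (.leaf (nat_lit 0x1038109012b41) (nat_lit 1542))
) (.node (nat_lit 0x1038109012f51) (.leaf (nat_lit 0x1038109012f11) (nat_lit 775))
 (.leaf (nat_lit 0x1038109012f51) (nat_lit 1284))
)))) (.node (nat_lit 0x1038109053301) (.node (nat_lit 0x1038109051b01) (.node (nat_lit 0x1038109051711) (.node (nat_lit 0x1038109051341) (.leaf (nat_lit 0x1038109051301) (nat_lit 1033))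
 (.leaf (nat_lit 0x1038109051341) (nat_lit 1545))
) (.node (nat_lit 0x1038109051751) (.leaf (nat_lit 0x1038109051711) (nat_lit 1289))
 (.leaf (nat_lit 0x1038109051751) (nat_lit 1801))
)) (.node (nat_lit 0x1038109051f11) (.node (nat_lit 0x1038109051b41) (.leaf (nat_lit 0x1038109051b01) (nat_lit 770))
 (.leaf (nat_lit 0x1038109051b41) (nat_lit 1286))
) (.node (nat_lit 0x1038109051f51) (.leaf (nat_lit 0x1038109051f11) (nat_lit 1031))
 (.leaf (nat_lit 0x1038109051f51) (nat_lit 1540))
))) (.node (nat_lit 0x1038109053b01) (.node (nat_lit 0x1038109053711) (.node (nat_lit 0x1038109053341) (.leaf (nat_lit 0x1038109053301) (nat_lit 1033))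
 (.leaf (nat_lit 0x1038109053341) (nat_lit 1545))
) (.node (nat_lit 0x1038109053751) (.leaf (nat_lit 0x1038109053711) (nat_lit 1289))
 (.leaf (nat_lit 0x1038109053751) (nat_lit 1801))
)) (.node (nat_lit 0x1038109053f11) (.node (nat_lit 0x1038109053b41) (.leaf (nat_lit 0x1038109053b01) (nat_lit 774))
 (.leaf (nat_lit 0x1038109053b41) (nat_lit 1283))
) (.node (nat_lit 0x1038109053f51) (.leaf (nat_lit 0x1038109053f11) (nat_lit 1028))
 (.leaf (nat_lit 0x1038109053f51) (nat_lit 1543))
))))) (.node (nat_lit 0x1038109151301) (.node (nat_lit 0x1038109112301) (.node (nat_lit 0x1038109110b01) (.node (nat_lit 0x1038109110711) (.node (nat_lit 0x1038109110341) (.leaf (nat_lit 0x1038109110301) (nat_lit 1545))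
 (.leaf (nat_lit 0x1038109110341) (nat_lit 1545))
) (.node (nat_lit 0x1038109110751) (.leaf (nat_lit 0x1038109110711) (nat_lit 1289))
 (.leaf (nat_lit 0x1038109110751) (nat_lit 1289))
)) (.node (nat_lit 0x1038109110f11) (.node (nat_lit 0x1038109110b41) (.leaf (nat_lit 0x1038109110b01) (nat_lit 1286))
 (.leaf (nat_lit 0x1038109110b41) (nat_lit 1283))
) (.node (nat_lit 0x1038109110f51) (.leaf (nat_lit 0x1038109110f11) (nat_lit 1028))
 (.leaf (nat_lit 0x1038109110f51) (nat_lit 1031))
))) (.node (nat_lit 0x1038109112b01) (.node (nat_lit 0x1038109112711) (.node (nat_lit 0x1038109112341) (.leaf (nat_lit 0x1038109112301) (nat_lit 1545))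
 (.leaf (nat_lit 0x1038109112341) (nat_lit 1545))
) (.node (nat_lit 0x1038109112751) (.leaf (nat_lit 0x1038109112711) (nat_lit 1289))
 (.leaf (nat_lit 0x1038109112751) (nat_lit 1289))
)) (.node (nat_lit 0x1038109112f11) (.node (nat_lit 0x1038109112b41) (.leaf (nat_lit 0x1038109112b01) (nat_lit 1286))
 (.leaf (nat_lit 0x1038109112b41) (nat_lit 1286))
) (.node (nat_lit 0x1038109112f51) (.leaf (nat_lit 0x1038109112f11) (nat_lit 1031))
 (.leaf (nat_lit 0x1038109112f51) (nat_lit 1028))
)))) (.node (nat_lit 0x1038109153301) (.node (nat_lit 0x1038109151b01) (.node (nat_lit 0x1038109151711) (.node (nat_lit 0x1038109151341) (.leaf (nat_lit 0x1038109151301) (nat_lit 1289))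
 (.leaf (nat_lit 0x1038109151341) (nat_lit 1289))
) (.node (nat_lit 0x1038109151751) (.leaf (nat_lit 0x1038109151711) (nat_lit 1545))
 (.leaf (nat_lit 0x1038109151751) (nat_lit 1545))
)) (.node (nat_lit 0x1038109151f11) (.node (nat_lit 0x1038109151b41) (.leaf (nat_lit 0x1038109151b01) (nat_lit 1026))
 (.leaf (nat_lit 0x1038109151b41) (nat_lit 1030))
) (.node (nat_lit 0x1038109151f51) (.leaf (nat_lit 0x1038109151f11) (nat_lit 1287))
 (.leaf (nat_lit 0x1038109151f51) (nat_lit 1284))
))) (.node (nat_lit 0x1038109153b01) (.node (nat_lit 0x1038109153711) (.node (nat_lit 0x1038109153341) (.leaf (nat_lit 0x1038109153301) (nat_lit 1289))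
 (.leaf (nat_lit 0x1038109153341) (nat_lit 1289))
) (.node (nat_lit 0x1038109153751) (.leaf (nat_lit 0x1038109153711) (nat_lit 1545))
 (.leaf (nat_lit 0x1038109153751) (nat_lit 1545))
)) (.node (nat_lit 0x1038109153f11) (.node (nat_lit 0x1038109153b41) (.leaf (nat_lit 0x1038109153b01) (nat_lit 1030))
 (.leaf (nat_lit 0x1038109153b41) (nat_lit 1027))
) (.node (nat_lit 0x1038109153f51) (.leaf (nat_lit 0x1038109153f11) (nat_lit 1284))
 (.leaf (nat_lit 0x1038109153f51) (nat_lit 1287))
)))))) (.node (nat_lit 0x103810b110381) (.node (nat_lit 0x103810b051381) (.node (nat_lit 0x103810b012381) (.node (nat_lit 0x103810b010b81) (.node (nat_lit 0x103810b010791) (.node (nat_lit 0x103810b0103c1) (.leaf (nat_lit 0x103810b010381) (nat_lit 1544))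
 (.leaf (nat_lit 0x103810b0103c1) (nat_lit 2056))
) (.node (nat_lit 0x103810b0107d1) (.leaf (nat_lit 0x103810b010791) (nat_lit 1033))
 (.leaf (nat_lit 0x103810b0107d1) (nat_lit 1545))
)) (.node (nat_lit 0x103810b010f91) (.node (nat_lit 0x103810b010bc1) (.leaf (nat_lit 0x103810b010b81) (nat_lit 1801))
 (.leaf (nat_lit 0x103810b010bc1) (nat_lit 2313))
) (.node (nat_lit 0x103810b010fd1) (.leaf (nat_lit 0x103810b010f91) (nat_lit 772))
 (.leaf (nat_lit 0x103810b010fd1) (nat_lit 1284))
))) (.node (nat_lit 0x103810b012b81) (.node (nat_lit 0x103810b012791) (.node (nat_lit 0x103810b0123c1) (.leaf (nat_lit 0x103810b012381) (nat_lit 1544))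
 (.leaf (nat_lit 0x103810b0123c1) (nat_lit 2056))
) (.node (nat_lit 0x103810b0127d1) (.leaf (nat_lit 0x103810b012791) (nat_lit 1033))
 (.leaf (nat_lit 0x103810b0127d1) (nat_lit 1545))
)) (.node (nat_lit 0x103810b012f91) (.node (nat_lit 0x103810b012bc1) (.leaf (nat_lit 0x103810b012b81) (nat_lit 1801))
 (.leaf (nat_lit 0x103810b012bc1) (nat_lit 2313))
) (.node (nat_lit 0x103810b012fd1) (.leaf (nat_lit 0x103810b012f91) (nat_lit 776))
 (.leaf (nat_lit 0x103810b012fd1) (nat_lit 1288))
)))) (.node (nat_lit 0x103810b053381) (.node (nat_lit 0x103810b051b81) (.node (nat_lit 0x103810b051791) (.node (nat_lit 0x103810b0513c1) (.leaf (nat_lit 0x103810b051381) (nat_lit 1288))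
 (.leaf (nat_lit 0x103810b0513c1) (nat_lit 1800))
) (.node (nat_lit 0x103810b0517d1) (.leaf (nat_lit 0x103810b051791) (nat_lit 1289))
 (.leaf (nat_lit 0x103810b0517d1) (nat_lit 1801))
)) (.node (nat_lit 0x103810b051f91) (.node (nat_lit 0x103810b051bc1) (.leaf (nat_lit 0x103810b051b81) (nat_lit 1545))
 (.leaf (nat_lit 0x103810b051bc1) (nat_lit 2057))
) (.node (nat_lit 0x103810b051fd1) (.leaf (nat_lit 0x103810b051f91) (nat_lit 1032))
 (.leaf (nat_lit 0x103810b051fd1) (nat_lit 1544))
))) (.node (nat_lit 0x103810b053b81) (.node (nat_lit 0x103810b053791) (.node (nat_lit 0x103810b0533c1) (.leaf (nat_lit 0x103810b053381) (nat_lit 1288))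
 (.leaf (nat_lit 0x103810b0533c1) (nat_lit 1800))
) (.node (nat_lit 0x103810b0537d1) (.leaf (nat_lit 0x103810b053791) (nat_lit 1289))
 (.leaf (nat_lit 0x103810b0537d1) (nat_lit 1801))
)) (.node (nat_lit 0x103810b053f91) (.node (nat_lit 0x103810b053bc1) (.leaf (nat_lit 0x103810b053b81) (nat_lit 1545))
 (.leaf (nat_lit 0x103810b053bc1) (nat_lit 2057))
) (.node (nat_lit 0x103810b053fd1) (.leaf (nat_lit 0x103810b053f91) (nat_lit 1028))
 (.leaf (nat_lit 0x103810b053fd1) (nat_lit 1540))
))))) (.node (nat_lit 0x103810b151381) (.node (nat_lit 0x103810b112381) (.node (nat_lit 0x103810b110b81) (.node (nat_lit 0x103810b110791) (.node (nat_lit 0x103810b1103c1) (.leaf (nat_lit 0x103810b110381) (nat_lit 1800))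
 (.leaf (nat_lit 0x103810b1103c1) (nat_lit 1800))
) (.node (nat_lit 0x103810b1107d1) (.leaf (nat_lit 0x103810b110791) (nat_lit 1289))
 (.leaf (nat_lit 0x103810b1107d1) (nat_lit 1289))
)) (.node (nat_lit 0x103810b110f91) (.node (nat_lit 0x103810b110bc1) (.leaf (nat_lit 0x103810b110b81) (nat_lit 2057))
 (.leaf (nat_lit 0x103810b110bc1) (nat_lit 2057))
) (.node (nat_lit 0x103810b110fd1) (.leaf (nat_lit 0x103810b110f91) (nat_lit 1028))
 (.leaf (nat_lit 0x103810b110fd1) (nat_lit 1028))
))) (.node (nat_lit 0x103810b112b81) (.node (nat_lit 0x103810b112791) (.node (nat_lit 0x103810b1123c1) (.leaf (nat_lit 0x103810b112381) (nat_lit 1800))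
 (.leaf (nat_lit 0x103810b1123c1) (nat_lit 1800))
) (.node (nat_lit 0x103810b1127d1) (.leaf (nat_lit 0x103810b112791) (nat_lit 1289))
 (.leaf (nat_lit 0x103810b1127d1) (nat_lit 1289))
)) (.node (nat_lit 0x103810b112f91) (.node (nat_lit 0x103810b112bc1) (.leaf (nat_lit 0x103810b112b81) (nat_lit 2057))
 (.leaf (nat_lit 0x103810b112bc1) (nat_lit 2057))
) (.node (nat_lit 0x103810b112fd1) (.leaf (nat_lit 0x103810b112f91) (nat_lit 1032))
 (.leaf (nat_lit 0x103810b112fd1) (nat_lit 1032))
)))) (.node (nat_lit 0x103810b153381) (.node (nat_lit 0x103810b151b81) (.node (nat_lit 0x103810b151791) (.node (nat_lit 0x103810b1513c1) (.leaf (nat_lit 0x103810b151381) (nat_lit 1544))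
 (.leaf (nat_lit 0x103810b1513c1) (nat_lit 1544))
) (.node (nat_lit 0x103810b1517d1) (.leaf (nat_lit 0x103810b151791) (nat_lit 1545))
 (.leaf (nat_lit 0x103810b1517d1) (nat_lit 1545))
)) (.node (nat_lit 0x103810b151f91) (.node (nat_lit 0x103810b151bc1) (.leaf (nat_lit 0x103810b151b81) (nat_lit 1801))
 (.leaf (nat_lit 0x103810b151bc1) (nat_lit 1801))
) (.node (nat_lit 0x103810b151fd1) (.leaf (nat_lit 0x103810b151f91) (nat_lit 1288))
 (.leaf (nat_lit 0x103810b151fd1) (nat_lit 1288))
))) (.node (nat_lit 0x103810b153b81) (.node (nat_lit 0x103810b153791) (.node (nat_lit 0x103810b1533c1) (.leaf (nat_lit 0x103810b153381) (nat_lit 1544))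
 (.leaf (nat_lit 0x103810b1533c1) (nat_lit 1544))
) (.node (nat_lit 0x103810b1537d1) (.leaf (nat_lit 0x103810b153791) (nat_lit 1545))
 (.leaf (nat_lit 0x103810b1537d1) (nat_lit 1545))
)) (.node (nat_lit 0x103810b153f91) (.node (nat_lit 0x103810b153bc1) (.leaf (nat_lit 0x103810b153b81) (nat_lit 1801))
 (.leaf (nat_lit 0x103810b153bc1) (nat_lit 1801))
) (.node (nat_lit 0x103810b153fd1) (.leaf (nat_lit 0x103810b153f91) (nat_lit 1284))
 (.leaf (nat_lit 0x103810b153fd1) (nat_lit 1284))
))))))))))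

theorem Q0_ok : genOK B7.A [(nat_lit 0x1010101012101), (nat_lit 0x1010101112101), (nat_lit 0x1030101010101), (nat_lit 0x1010101110141), (nat_lit 0x1010109010101), (nat_lit 0x1010101051901), (nat_lit 0x1018101051b01), (nat_lit 0x1018101010f11), (nat_lit 0x1018103010f91), (nat_lit 0x1010101010901)] Q0_t (nat_lit 1024) = true := by decide +kernel

noncomputable def J0_t : ST :=
(.node (nat_lit 0x1030101010101) (.node (nat_lit 0x1018101010301) (.node (nat_lit 0x1010501010101) (.node (nat_lit 0x1010109010101) (.node (nat_lit 0x1010103010181) (.node (nat_lit 0x1010101110101) (.node (nat_lit 0x1010101051101) (.node (nat_lit 0x1010101012101) (.node (nat_lit 0x1010101010901) (.node (nat_lit 0x1010101010511) (.node (nat_lit 0x1010101010141) (.leaf (nat_lit 0x1010101010101) (nat_lit 0))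
 (.leaf (nat_lit 0x1010101010141) (nat_lit 772))
) (.node (nat_lit 0x1010101010551) (.leaf (nat_lit 0x1010101010511) (nat_lit 776))
 (.leaf (nat_lit 0x1010101010551) (nat_lit 1280))
)) (.node (nat_lit 0x1010101010d11) (.node (nat_lit 0x1010101010941) (.leaf (nat_lit 0x1010101010901) (nat_lit 266))
 (.leaf (nat_lit 0x1010101010941) (nat_lit 1034))
) (.node (nat_lit 0x1010101010d51) (.leaf (nat_lit 0x1010101010d11) (nat_lit 1034))
 (.leaf (nat_lit 0x1010101010d51) (nat_lit 1546))
))) (.node (nat_lit 0x1010101012901) (.node (nat_lit 0x1010101012511) (.node (nat_lit 0x1010101012141) (.leaf (nat_lit 0x1010101012101) (nat_lit 257))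
 (.leaf (nat_lit 0x1010101012141) (nat_lit 516))
) (.node (nat_lit 0x1010101012551) (.leaf (nat_lit 0x1010101012511) (nat_lit 1032))
 (.leaf (nat_lit 0x1010101012551) (nat_lit 1288))
)) (.node (nat_lit 0x1010101012d11) (.node (nat_lit 0x1010101012941) (.leaf (nat_lit 0x1010101012901) (nat_lit 522))
 (.leaf (nat_lit 0x1010101012941) (nat_lit 778))
) (.node (nat_lit 0x1010101012d51) (.leaf (nat_lit 0x1010101012d11) (nat_lit 1290))
 (.leaf (nat_lit 0x1010101012d51) (nat_lit 1536))
)))) (.node (nat_lit 0x1010101053101) (.node (nat_lit 0x1010101051901) (.node (nat_lit 0x1010101051511) (.node (nat_lit 0x1010101051141) (.leaf (nat_lit 0x1010101051101) (nat_lit 522))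
 (.leaf (nat_lit 0x1010101051141) (nat_lit 1280))
) (.node (nat_lit 0x1010101051551) (.leaf (nat_lit 0x1010101051511) (nat_lit 778))
 (.leaf (nat_lit 0x1010101051551) (nat_lit 1290))
)) (.node (nat_lit 0x1010101051d11) (.node (nat_lit 0x1010101051941) (.leaf (nat_lit 0x1010101051901) (nat_lit 262))
 (.leaf (nat_lit 0x1010101051941) (nat_lit 1030))
) (.node (nat_lit 0x1010101051d51) (.leaf (nat_lit 0x1010101051d11) (nat_lit 520))
 (.leaf (nat_lit 0x1010101051d51) (nat_lit 1032))
))) (.node (nat_lit 0x1010101053901) (.node (nat_lit 0x1010101053511) (.node (nat_lit 0x1010101053141) (.leaf (nat_lit 0x1010101053101) (nat_lit 778))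
 (.leaf (nat_lit 0x1010101053141) (nat_lit 1034))
) (.node (nat_lit 0x1010101053551) (.leaf (nat_lit 0x1010101053511) (nat_lit 1034))
 (.leaf (nat_lit 0x1010101053551) (nat_lit 1290))
)) (.node (nat_lit 0x1010101053d11) (.node (nat_lit 0x1010101053941) (.leaf (nat_lit 0x1010101053901) (nat_lit 518))
 (.leaf (nat_lit 0x1010101053941) (nat_lit 774))
) (.node (nat_lit 0x1010101053d51) (.leaf (nat_lit 0x1010101053d11) (nat_lit 776))
 (.leaf (nat_lit 0x1010101053d51) (nat_lit 1032))
))))) (.node (nat_lit 0x1010101151101) (.node (nat_lit 0x1010101112101) (.node (nat_lit 0x1010101110901) (.node (nat_lit 0x1010101110511) (.node (nat_lit 0x1010101110141) (.leaf (nat_lit 0x1010101110101) (nat_lit 514))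
 (.leaf (nat_lit 0x1010101110141) (nat_lit 260))
) (.node (nat_lit 0x1010101110551) (.leaf (nat_lit 0x1010101110511) (nat_lit 1032))
 (.leaf (nat_lit 0x1010101110551) (nat_lit 1032))
)) (.node (nat_lit 0x1010101110d11) (.node (nat_lit 0x1010101110941) (.leaf (nat_lit 0x1010101110901) (nat_lit 778))
 (.leaf (nat_lit 0x1010101110941) (nat_lit 522))
) (.node (nat_lit 0x1010101110d51) (.leaf (nat_lit 0x1010101110d11) (nat_lit 1290))
 (.leaf (nat_lit 0x1010101110d51) (nat_lit 1290))
))) (.node (nat_lit 0x1010101112901) (.node (nat_lit 0x1010101112511) (.node (nat_lit 0x1010101112141) (.leaf (nat_lit 0x1010101112101) (nat_lit 258))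
 (.leaf (nat_lit 0x1010101112141) (nat_lit 516))
) (.node (nat_lit 0x1010101112551) (.leaf (nat_lit 0x1010101112511) (nat_lit 1032))
 (.leaf (nat_lit 0x1010101112551) (nat_lit 1032))
)) (.node (nat_lit 0x1010101112d11) (.node (nat_lit 0x1010101112941) (.leaf (nat_lit 0x1010101112901) (nat_lit 522))
 (.leaf (nat_lit 0x1010101112941) (nat_lit 778))
) (.node (nat_lit 0x1010101112d51) (.leaf (nat_lit 0x1010101112d11) (nat_lit 1290))
 (.leaf (nat_lit 0x1010101112d51) (nat_lit 1290))
)))) (.node (nat_lit 0x1010101153101) (.node (nat_lit 0x1010101151901) (.node (nat_lit 0x1010101151511) (.node (nat_lit 0x1010101151141) (.leaf (nat_lit 0x1010101151101) (nat_lit 1024))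
 (.leaf (nat_lit 0x1010101151141) (nat_lit 778))
) (.node (nat_lit 0x1010101151551) (.leaf (nat_lit 0x1010101151511) (nat_lit 1034))
 (.leaf (nat_lit 0x1010101151551) (nat_lit 1034))
)) (.node (nat_lit 0x1010101151d11) (.node (nat_lit 0x1010101151941) (.leaf (nat_lit 0x1010101151901) (nat_lit 774))
 (.leaf (nat_lit 0x1010101151941) (nat_lit 518))
) (.node (nat_lit 0x1010101151d51) (.leaf (nat_lit 0x1010101151d11) (nat_lit 776))
 (.leaf (nat_lit 0x1010101151d51) (nat_lit 776))
))) (.node (nat_lit 0x1010101153901) (.node (nat_lit 0x1010101153511) (.node (nat_lit 0x1010101153141) (.leaf (nat_lit 0x1010101153101) (nat_lit 778))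
 (.leaf (nat_lit 0x1010101153141) (nat_lit 1034))
) (.node (nat_lit 0x1010101153551) (.leaf (nat_lit 0x1010101153511) (nat_lit 1034))
 (.leaf (nat_lit 0x1010101153551) (nat_lit 1034))
)) (.node (nat_lit 0x1010101153d11) (.node (nat_lit 0x1010101153941) (.leaf (nat_lit 0x1010101153901) (nat_lit 518))
 (.leaf (nat_lit 0x1010101153941) (nat_lit 774))
) (.node (nat_lit 0x1010101153d51) (.leaf (nat_lit 0x1010101153d11) (nat_lit 776))
 (.leaf (nat_lit 0x1010101153d51) (nat_lit 776))
)))))) (.node (nat_lit 0x1010103110181) (.node (nat_lit 0x1010103051181) (.node (nat_lit 0x1010103012181) (.node (nat_lit 0x1010103010981) (.node (nat_lit 0x1010103010591) (.node (nat_lit 0x10101030101c1) (.leaf (nat_lit 0x1010103010181) (nat_lit 778))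
 (.leaf (nat_lit 0x10101030101c1) (nat_lit 1290))
) (.node (nat_lit 0x10101030105d1) (.leaf (nat_lit 0x1010103010591) (nat_lit 777))
 (.leaf (nat_lit 0x10101030105d1) (nat_lit 1289))
)) (.node (nat_lit 0x1010103010d91) (.node (nat_lit 0x10101030109c1) (.leaf (nat_lit 0x1010103010981) (nat_lit 521))
 (.leaf (nat_lit 0x10101030109c1) (nat_lit 1033))
) (.node (nat_lit 0x1010103010dd1) (.leaf (nat_lit 0x1010103010d91) (nat_lit 1034))
 (.leaf (nat_lit 0x1010103010dd1) (nat_lit 1546))
))) (.node (nat_lit 0x1010103012981) (.node (nat_lit 0x1010103012591) (.node (nat_lit 0x10101030121c1) (.leaf (nat_lit 0x1010103012181) (nat_lit 1034))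
 (.leaf (nat_lit 0x10101030121c1) (nat_lit 1290))
) (.node (nat_lit 0x10101030125d1) (.leaf (nat_lit 0x1010103012591) (nat_lit 1033))
 (.leaf (nat_lit 0x10101030125d1) (nat_lit 1289))
)) (.node (nat_lit 0x1010103012d91) (.node (nat_lit 0x10101030129c1) (.leaf (nat_lit 0x1010103012981) (nat_lit 777))
 (.leaf (nat_lit 0x10101030129c1) (nat_lit 1033))
) (.node (nat_lit 0x1010103012dd1) (.leaf (nat_lit 0x1010103012d91) (nat_lit 1290))
 (.leaf (nat_lit 0x1010103012dd1) (nat_lit 1546))
)))) (.node (nat_lit 0x1010103053181) (.node (nat_lit 0x1010103051981) (.node (nat_lit 0x1010103051591) (.node (nat_lit 0x10101030511c1) (.leaf (nat_lit 0x1010103051181) (nat_lit 777))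
 (.leaf (nat_lit 0x10101030511c1) (nat_lit 1289))
) (.node (nat_lit 0x10101030515d1) (.leaf (nat_lit 0x1010103051591) (nat_lit 778))
 (.leaf (nat_lit 0x10101030515d1) (nat_lit 1290))
)) (.node (nat_lit 0x1010103051d91) (.node (nat_lit 0x10101030519c1) (.leaf (nat_lit 0x1010103051981) (nat_lit 1034))
 (.leaf (nat_lit 0x10101030519c1) (nat_lit 1546))
) (.node (nat_lit 0x1010103051dd1) (.leaf (nat_lit 0x1010103051d91) (nat_lit 521))
 (.leaf (nat_lit 0x1010103051dd1) (nat_lit 1033))
))) (.node (nat_lit 0x1010103053981) (.node (nat_lit 0x1010103053591) (.node (nat_lit 0x10101030531c1) (.leaf (nat_lit 0x1010103053181) (nat_lit 1033))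
 (.leaf (nat_lit 0x10101030531c1) (nat_lit 1289))
) (.node (nat_lit 0x10101030535d1) (.leaf (nat_lit 0x1010103053591) (nat_lit 1034))
 (.leaf (nat_lit 0x10101030535d1) (nat_lit 1290))
)) (.node (nat_lit 0x1010103053d91) (.node (nat_lit 0x10101030539c1) (.leaf (nat_lit 0x1010103053981) (nat_lit 1290))
 (.leaf (nat_lit 0x10101030539c1) (nat_lit 1546))
) (.node (nat_lit 0x1010103053dd1) (.leaf (nat_lit 0x1010103053d91) (nat_lit 777))
 (.leaf (nat_lit 0x1010103053dd1) (nat_lit 1033))
))))) (.node (nat_lit 0x1010103151181) (.node (nat_lit 0x1010103112181) (.node (nat_lit 0x1010103110981) (.node (nat_lit 0x1010103110591) (.node (nat_lit 0x10101031101c1) (.leaf (nat_lit 0x1010103110181) (nat_lit 1034))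
 (.leaf (nat_lit 0x10101031101c1) (nat_lit 1034))
) (.node (nat_lit 0x10101031105d1) (.leaf (nat_lit 0x1010103110591) (nat_lit 1033))
 (.leaf (nat_lit 0x10101031105d1) (nat_lit 1033))
)) (.node (nat_lit 0x1010103110d91) (.node (nat_lit 0x10101031109c1) (.leaf (nat_lit 0x1010103110981) (nat_lit 777))
 (.leaf (nat_lit 0x10101031109c1) (nat_lit 777))
) (.node (nat_lit 0x1010103110dd1) (.leaf (nat_lit 0x1010103110d91) (nat_lit 1290))
 (.leaf (nat_lit 0x1010103110dd1) (nat_lit 1290))
))) (.node (nat_lit 0x1010103112981) (.node (nat_lit 0x1010103112591) (.node (nat_lit 0x10101031121c1) (.leaf (nat_lit 0x1010103112181) (nat_lit 1034))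
 (.leaf (nat_lit 0x10101031121c1) (nat_lit 1034))
) (.node (nat_lit 0x10101031125d1) (.leaf (nat_lit 0x1010103112591) (nat_lit 1033))
 (.leaf (nat_lit 0x10101031125d1) (nat_lit 1033))
)) (.node (nat_lit 0x1010103112d91) (.node (nat_lit 0x10101031129c1) (.leaf (nat_lit 0x1010103112981) (nat_lit 777))
 (.leaf (nat_lit 0x10101031129c1) (nat_lit 777))
) (.node (nat_lit 0x1010103112dd1) (.leaf (nat_lit 0x1010103112d91) (nat_lit 1290))
 (.leaf (nat_lit 0x1010103112dd1) (nat_lit 1290))
)))) (.node (nat_lit 0x1010103153181) (.node (nat_lit 0x1010103151981) (.node (nat_lit 0x1010103151591) (.node (nat_lit 0x10101031511c1) (.leaf (nat_lit 0x1010103151181) (nat_lit 1033))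
 (.leaf (nat_lit 0x10101031511c1) (nat_lit 1033))
) (.node (nat_lit 0x10101031515d1) (.leaf (nat_lit 0x1010103151591) (nat_lit 1034))
 (.leaf (nat_lit 0x10101031515d1) (nat_lit 1034))
)) (.node (nat_lit 0x1010103151d91) (.node (nat_lit 0x10101031519c1) (.leaf (nat_lit 0x1010103151981) (nat_lit 1290))
 (.leaf (nat_lit 0x10101031519c1) (nat_lit 1290))
) (.node (nat_lit 0x1010103151dd1) (.leaf (nat_lit 0x1010103151d91) (nat_lit 777))
 (.leaf (nat_lit 0x1010103151dd1) (nat_lit 777))
))) (.node (nat_lit 0x1010103153981) (.node (nat_lit 0x1010103153591) (.node (nat_lit 0x10101031531c1) (.leaf (nat_lit 0x1010103153181) (nat_lit 1033))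
 (.leaf (nat_lit 0x10101031531c1) (nat_lit 1033))
) (.node (nat_lit 0x10101031535d1) (.leaf (nat_lit 0x1010103153591) (nat_lit 1034))
 (.leaf (nat_lit 0x10101031535d1) (nat_lit 1034))
)) (.node (nat_lit 0x1010103153d91) (.node (nat_lit 0x10101031539c1) (.leaf (nat_lit 0x1010103153981) (nat_lit 1290))
 (.leaf (nat_lit 0x10101031539c1) (nat_lit 1290))
) (.node (nat_lit 0x1010103153dd1) (.leaf (nat_lit 0x1010103153d91) (nat_lit 777))
 (.leaf (nat_lit 0x1010103153dd1) (nat_lit 777))
))))))) (.node (nat_lit 0x101010b010181) (.node (nat_lit 0x1010109110101) (.node (nat_lit 0x1010109051101) (.node (nat_lit 0x1010109012101) (.node (nat_lit 0x1010109010901) (.node (nat_lit 0x1010109010511) (.node (nat_lit 0x1010109010141) (.leaf (nat_lit 0x1010109010101) (nat_lit 261))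
 (.leaf (nat_lit 0x1010109010141) (nat_lit 1029))
) (.node (nat_lit 0x1010109010551) (.leaf (nat_lit 0x1010109010511) (nat_lit 1029))
 (.leaf (nat_lit 0x1010109010551) (nat_lit 1541))
)) (.node (nat_lit 0x1010109010d11) (.node (nat_lit 0x1010109010941) (.leaf (nat_lit 0x1010109010901) (nat_lit 522))
 (.leaf (nat_lit 0x1010109010941) (nat_lit 1290))
) (.node (nat_lit 0x1010109010d51) (.leaf (nat_lit 0x1010109010d11) (nat_lit 1290))
 (.leaf (nat_lit 0x1010109010d51) (nat_lit 1792))
))) (.node (nat_lit 0x1010109012901) (.node (nat_lit 0x1010109012511) (.node (nat_lit 0x1010109012141) (.leaf (nat_lit 0x1010109012101) (nat_lit 517))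
 (.leaf (nat_lit 0x1010109012141) (nat_lit 773))
) (.node (nat_lit 0x1010109012551) (.leaf (nat_lit 0x1010109012511) (nat_lit 1032))
 (.leaf (nat_lit 0x1010109012551) (nat_lit 1536))
)) (.node (nat_lit 0x1010109012d11) (.node (nat_lit 0x1010109012941) (.leaf (nat_lit 0x1010109012901) (nat_lit 778))
 (.leaf (nat_lit 0x1010109012941) (nat_lit 1034))
) (.node (nat_lit 0x1010109012d51) (.leaf (nat_lit 0x1010109012d11) (nat_lit 1290))
 (.leaf (nat_lit 0x1010109012d51) (nat_lit 1802))
)))) (.node (nat_lit 0x1010109053101) (.node (nat_lit 0x1010109051901) (.node (nat_lit 0x1010109051511) (.node (nat_lit 0x1010109051141) (.leaf (nat_lit 0x1010109051101) (nat_lit 778))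
 (.leaf (nat_lit 0x1010109051141) (nat_lit 1536))
) (.node (nat_lit 0x1010109051551) (.leaf (nat_lit 0x1010109051511) (nat_lit 1034))
 (.leaf (nat_lit 0x1010109051551) (nat_lit 1546))
)) (.node (nat_lit 0x1010109051d11) (.node (nat_lit 0x1010109051941) (.leaf (nat_lit 0x1010109051901) (nat_lit 518))
 (.leaf (nat_lit 0x1010109051941) (nat_lit 1286))
) (.node (nat_lit 0x1010109051d51) (.leaf (nat_lit 0x1010109051d11) (nat_lit 773))
 (.leaf (nat_lit 0x1010109051d51) (nat_lit 1288))
))) (.node (nat_lit 0x1010109053901) (.node (nat_lit 0x1010109053511) (.node (nat_lit 0x1010109053141) (.leaf (nat_lit 0x1010109053101) (nat_lit 1034))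
 (.leaf (nat_lit 0x1010109053141) (nat_lit 1290))
) (.node (nat_lit 0x1010109053551) (.leaf (nat_lit 0x1010109053511) (nat_lit 1034))
 (.leaf (nat_lit 0x1010109053551) (nat_lit 1546))
)) (.node (nat_lit 0x1010109053d11) (.node (nat_lit 0x1010109053941) (.leaf (nat_lit 0x1010109053901) (nat_lit 774))
 (.leaf (nat_lit 0x1010109053941) (nat_lit 1030))
) (.node (nat_lit 0x1010109053d51) (.leaf (nat_lit 0x1010109053d11) (nat_lit 776))
 (.leaf (nat_lit 0x1010109053d51) (nat_lit 1285))
))))) (.node (nat_lit 0x1010109151101) (.node (nat_lit 0x1010109112101) (.node (nat_lit 0x1010109110901) (.node (nat_lit 0x1010109110511) (.node (nat_lit 0x1010109110141) (.leaf (nat_lit 0x1010109110101) (nat_lit 773))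
 (.leaf (nat_lit 0x1010109110141) (nat_lit 517))
) (.node (nat_lit 0x1010109110551) (.leaf (nat_lit 0x1010109110511) (nat_lit 1288))
 (.leaf (nat_lit 0x1010109110551) (nat_lit 1285))
)) (.node (nat_lit 0x1010109110d11) (.node (nat_lit 0x1010109110941) (.leaf (nat_lit 0x1010109110901) (nat_lit 1034))
 (.leaf (nat_lit 0x1010109110941) (nat_lit 778))
) (.node (nat_lit 0x1010109110d51) (.leaf (nat_lit 0x1010109110d11) (nat_lit 1546))
 (.leaf (nat_lit 0x1010109110d51) (nat_lit 1546))
))) (.node (nat_lit 0x1010109112901) (.node (nat_lit 0x1010109112511) (.node (nat_lit 0x1010109112141) (.leaf (nat_lit 0x1010109112101) (nat_lit 517))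
 (.leaf (nat_lit 0x1010109112141) (nat_lit 773))
) (.node (nat_lit 0x1010109112551) (.leaf (nat_lit 0x1010109112511) (nat_lit 1285))
 (.leaf (nat_lit 0x1010109112551) (nat_lit 1288))
)) (.node (nat_lit 0x1010109112d11) (.node (nat_lit 0x1010109112941) (.leaf (nat_lit 0x1010109112901) (nat_lit 778))
 (.leaf (nat_lit 0x1010109112941) (nat_lit 1034))
) (.node (nat_lit 0x1010109112d51) (.leaf (nat_lit 0x1010109112d11) (nat_lit 1546))
 (.leaf (nat_lit 0x1010109112d51) (nat_lit 1546))
)))) (.node (nat_lit 0x1010109153101) (.node (nat_lit 0x1010109151901) (.node (nat_lit 0x1010109151511) (.node (nat_lit 0x1010109151141) (.leaf (nat_lit 0x1010109151101) (nat_lit 1280))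
 (.leaf (nat_lit 0x1010109151141) (nat_lit 1034))
) (.node (nat_lit 0x1010109151551) (.leaf (nat_lit 0x1010109151511) (nat_lit 1290))
 (.leaf (nat_lit 0x1010109151551) (nat_lit 1290))
)) (.node (nat_lit 0x1010109151d11) (.node (nat_lit 0x1010109151941) (.leaf (nat_lit 0x1010109151901) (nat_lit 1030))
 (.leaf (nat_lit 0x1010109151941) (nat_lit 774))
) (.node (nat_lit 0x1010109151d51) (.leaf (nat_lit 0x1010109151d11) (nat_lit 1032))
 (.leaf (nat_lit 0x1010109151d51) (nat_lit 1029))
))) (.node (nat_lit 0x1010109153901) (.node (nat_lit 0x1010109153511) (.node (nat_lit 0x1010109153141) (.leaf (nat_lit 0x1010109153101) (nat_lit 1034))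
 (.leaf (nat_lit 0x1010109153141) (nat_lit 1290))
) (.node (nat_lit 0x1010109153551) (.leaf (nat_lit 0x1010109153511) (nat_lit 1290))
 (.leaf (nat_lit 0x1010109153551) (nat_lit 1290))
)) (.node (nat_lit 0x1010109153d11) (.node (nat_lit 0x1010109153941) (.leaf (nat_lit 0x1010109153901) (nat_lit 774))
 (.leaf (nat_lit 0x1010109153941) (nat_lit 1030))
) (.node (nat_lit 0x1010109153d51) (.leaf (nat_lit 0x1010109153d11) (nat_lit 1029))
 (.leaf (nat_lit 0x1010109153d51) (nat_lit 1032))
)))))) (.node (nat_lit 0x101010b110181) (.node (nat_lit 0x101010b051181) (.node (nat_lit 0x101010b012181) (.node (nat_lit 0x101010b010981) (.node (nat_lit 0x101010b010591) (.node (nat_lit 0x101010b0101c1) (.leaf (nat_lit 0x101010b010181) (nat_lit 1034))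
 (.leaf (nat_lit 0x101010b0101c1) (nat_lit 1546))
) (.node (nat_lit 0x101010b0105d1) (.leaf (nat_lit 0x101010b010591) (nat_lit 1029))
 (.leaf (nat_lit 0x101010b0105d1) (nat_lit 1280))
)) (.node (nat_lit 0x101010b010d91) (.node (nat_lit 0x101010b0109c1) (.leaf (nat_lit 0x101010b010981) (nat_lit 777))
 (.leaf (nat_lit 0x101010b0109c1) (nat_lit 1288))
) (.node (nat_lit 0x101010b010dd1) (.leaf (nat_lit 0x101010b010d91) (nat_lit 1290))
 (.leaf (nat_lit 0x101010b010dd1) (nat_lit 1546))
))) (.node (nat_lit 0x101010b012981) (.node (nat_lit 0x101010b012591) (.node (nat_lit 0x101010b0121c1) (.leaf (nat_lit 0x101010b012181) (nat_lit 1034))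
 (.leaf (nat_lit 0x101010b0121c1) (nat_lit 1544))
) (.node (nat_lit 0x101010b0125d1) (.leaf (nat_lit 0x101010b012591) (nat_lit 1033))
 (.leaf (nat_lit 0x101010b0125d1) (nat_lit 1536))
)) (.node (nat_lit 0x101010b012d91) (.node (nat_lit 0x101010b0129c1) (.leaf (nat_lit 0x101010b012981) (nat_lit 777))
 (.leaf (nat_lit 0x101010b0129c1) (nat_lit 1289))
) (.node (nat_lit 0x101010b012dd1) (.leaf (nat_lit 0x101010b012d91) (nat_lit 1290))
 (.leaf (nat_lit 0x101010b012dd1) (nat_lit 1536))
)))) (.node (nat_lit 0x101010b053181) (.node (nat_lit 0x101010b051981) (.node (nat_lit 0x101010b051591) (.node (nat_lit 0x101010b0511c1) (.leaf (nat_lit 0x101010b051181) (nat_lit 1033))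
 (.leaf (nat_lit 0x101010b0511c1) (nat_lit 1544))
) (.node (nat_lit 0x101010b0515d1) (.leaf (nat_lit 0x101010b051591) (nat_lit 1034))
 (.leaf (nat_lit 0x101010b0515d1) (nat_lit 1546))
)) (.node (nat_lit 0x101010b051d91) (.node (nat_lit 0x101010b0519c1) (.leaf (nat_lit 0x101010b051981) (nat_lit 1290))
 (.leaf (nat_lit 0x101010b0519c1) (nat_lit 1802))
) (.node (nat_lit 0x101010b051dd1) (.leaf (nat_lit 0x101010b051d91) (nat_lit 773))
 (.leaf (nat_lit 0x101010b051dd1) (nat_lit 1280))
))) (.node (nat_lit 0x101010b053981) (.node (nat_lit 0x101010b053591) (.node (nat_lit 0x101010b0531c1) (.leaf (nat_lit 0x101010b053181) (nat_lit 1033))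
 (.leaf (nat_lit 0x101010b0531c1) (nat_lit 1536))
) (.node (nat_lit 0x101010b0535d1) (.leaf (nat_lit 0x101010b053591) (nat_lit 1034))
 (.leaf (nat_lit 0x101010b0535d1) (nat_lit 1536))
)) (.node (nat_lit 0x101010b053d91) (.node (nat_lit 0x101010b0539c1) (.leaf (nat_lit 0x101010b053981) (nat_lit 1290))
 (.leaf (nat_lit 0x101010b0539c1) (nat_lit 1800))
) (.node (nat_lit 0x101010b053dd1) (.leaf (nat_lit 0x101010b053d91) (nat_lit 777))
 (.leaf (nat_lit 0x101010b053dd1) (nat_lit 1287))
))))) (.node (nat_lit 0x101010b151181) (.node (nat_lit 0x101010b112181) (.node (nat_lit 0x101010b110981) (.node (nat_lit 0x101010b110591) (.node (nat_lit 0x101010b1101c1) (.leaf (nat_lit 0x101010b110181) (nat_lit 1290))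
 (.leaf (nat_lit 0x101010b1101c1) (nat_lit 1290))
) (.node (nat_lit 0x101010b1105d1) (.leaf (nat_lit 0x101010b110591) (nat_lit 1289))
 (.leaf (nat_lit 0x101010b1105d1) (nat_lit 1289))
)) (.node (nat_lit 0x101010b110d91) (.node (nat_lit 0x101010b1109c1) (.leaf (nat_lit 0x101010b110981) (nat_lit 1033))
 (.leaf (nat_lit 0x101010b1109c1) (nat_lit 1033))
) (.node (nat_lit 0x101010b110dd1) (.leaf (nat_lit 0x101010b110d91) (nat_lit 1546))
 (.leaf (nat_lit 0x101010b110dd1) (nat_lit 1542))
))) (.node (nat_lit 0x101010b112981) (.node (nat_lit 0x101010b112591) (.node (nat_lit 0x101010b1121c1) (.leaf (nat_lit 0x101010b112181) (nat_lit 1290))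
 (.leaf (nat_lit 0x101010b1121c1) (nat_lit 1290))
) (.node (nat_lit 0x101010b1125d1) (.leaf (nat_lit 0x101010b112591) (nat_lit 1285))
 (.leaf (nat_lit 0x101010b1125d1) (nat_lit 1286))
)) (.node (nat_lit 0x101010b112d91) (.node (nat_lit 0x101010b1129c1) (.leaf (nat_lit 0x101010b112981) (nat_lit 1033))
 (.leaf (nat_lit 0x101010b1129c1) (nat_lit 1033))
) (.node (nat_lit 0x101010b112dd1) (.leaf (nat_lit 0x101010b112d91) (nat_lit 1546))
 (.leaf (nat_lit 0x101010b112dd1) (nat_lit 1546))
)))) (.node (nat_lit 0x101010b153181) (.node (nat_lit 0x101010b151981) (.node (nat_lit 0x101010b151591) (.node (nat_lit 0x101010b1511c1) (.leaf (nat_lit 0x101010b151181) (nat_lit 1280))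
 (.leaf (nat_lit 0x101010b1511c1) (nat_lit 1289))
) (.node (nat_lit 0x101010b1515d1) (.leaf (nat_lit 0x101010b151591) (nat_lit 1290))
 (.leaf (nat_lit 0x101010b1515d1) (nat_lit 1280))
)) (.node (nat_lit 0x101010b151d91) (.node (nat_lit 0x101010b1519c1) (.leaf (nat_lit 0x101010b151981) (nat_lit 1546))
 (.leaf (nat_lit 0x101010b1519c1) (nat_lit 1546))
) (.node (nat_lit 0x101010b151dd1) (.leaf (nat_lit 0x101010b151d91) (nat_lit 1033))
 (.leaf (nat_lit 0x101010b151dd1) (nat_lit 1033))
))) (.node (nat_lit 0x101010b153981) (.node (nat_lit 0x101010b153591) (.node (nat_lit 0x101010b1531c1) (.leaf (nat_lit 0x101010b153181) (nat_lit 1289))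
 (.leaf (nat_lit 0x101010b1531c1) (nat_lit 1289))
) (.node (nat_lit 0x101010b1535d1) (.leaf (nat_lit 0x101010b153591) (nat_lit 1290))
 (.leaf (nat_lit 0x101010b1535d1) (nat_lit 1290))
)) (.node (nat_lit 0x101010b153d91) (.node (nat_lit 0x101010b1539c1) (.leaf (nat_lit 0x101010b153981) (nat_lit 1536))
 (.leaf (nat_lit 0x101010b1539c1) (nat_lit 1546))
) (.node (nat_lit 0x101010b153dd1) (.leaf (nat_lit 0x101010b153d91) (nat_lit 1029))
 (.leaf (nat_lit 0x101010b153dd1) (nat_lit 1024))
)))))))) (.node (nat_lit 0x1010509010101) (.node (nat_lit 0x1010503010181) (.node (nat_lit 0x1010501110101) (.node (nat_lit 0x1010501051101) (.node (nat_lit 0x1010501012101) (.node (nat_lit 0x1010501010901) (.node (nat_lit 0x1010501010511) (.node (nat_lit 0x1010501010141) (.leaf (nat_lit 0x1010501010101) (nat_lit 256))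
 (.leaf (nat_lit 0x1010501010141) (nat_lit 1028))
) (.node (nat_lit 0x1010501010551) (.leaf (nat_lit 0x1010501010511) (nat_lit 1024))
 (.leaf (nat_lit 0x1010501010551) (nat_lit 1032))
)) (.node (nat_lit 0x1010501010d11) (.node (nat_lit 0x1010501010941) (.leaf (nat_lit 0x1010501010901) (nat_lit 512))
 (.leaf (nat_lit 0x1010501010941) (nat_lit 1034))
) (.node (nat_lit 0x1010501010d51) (.leaf (nat_lit 0x1010501010d11) (nat_lit 1280))
 (.leaf (nat_lit 0x1010501010d51) (nat_lit 1288))
))) (.node (nat_lit 0x1010501012901) (.node (nat_lit 0x1010501012511) (.node (nat_lit 0x1010501012141) (.leaf (nat_lit 0x1010501012101) (nat_lit 513))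
 (.leaf (nat_lit 0x1010501012141) (nat_lit 772))
) (.node (nat_lit 0x1010501012551) (.leaf (nat_lit 0x1010501012511) (nat_lit 1280))
 (.leaf (nat_lit 0x1010501012551) (nat_lit 1288))
)) (.node (nat_lit 0x1010501012d11) (.node (nat_lit 0x1010501012941) (.leaf (nat_lit 0x1010501012901) (nat_lit 522))
 (.leaf (nat_lit 0x1010501012941) (nat_lit 1024))
) (.node (nat_lit 0x1010501012d51) (.leaf (nat_lit 0x1010501012d11) (nat_lit 1290))
 (.leaf (nat_lit 0x1010501012d51) (nat_lit 1290))
)))) (.node (nat_lit 0x1010501053101) (.node (nat_lit 0x1010501051901) (.node (nat_lit 0x1010501051511) (.node (nat_lit 0x1010501051141) (.leaf (nat_lit 0x1010501051101) (nat_lit 768))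
 (.leaf (nat_lit 0x1010501051141) (nat_lit 1034))
) (.node (nat_lit 0x1010501051551) (.leaf (nat_lit 0x1010501051511) (nat_lit 1024))
 (.leaf (nat_lit 0x1010501051551) (nat_lit 1290))
)) (.node (nat_lit 0x1010501051d11) (.node (nat_lit 0x1010501051941) (.leaf (nat_lit 0x1010501051901) (nat_lit 512))
 (.leaf (nat_lit 0x1010501051941) (nat_lit 1030))
) (.node (nat_lit 0x1010501051d51) (.leaf (nat_lit 0x1010501051d11) (nat_lit 768))
 (.leaf (nat_lit 0x1010501051d51) (nat_lit 1032))
))) (.node (nat_lit 0x1010501053901) (.node (nat_lit 0x1010501053511) (.node (nat_lit 0x1010501053141) (.leaf (nat_lit 0x1010501053101) (nat_lit 778))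
 (.leaf (nat_lit 0x1010501053141) (nat_lit 1030))
) (.node (nat_lit 0x1010501053551) (.leaf (nat_lit 0x1010501053511) (nat_lit 1034))
 (.leaf (nat_lit 0x1010501053551) (nat_lit 1290))
)) (.node (nat_lit 0x1010501053d11) (.node (nat_lit 0x1010501053941) (.leaf (nat_lit 0x1010501053901) (nat_lit 768))
 (.leaf (nat_lit 0x1010501053941) (nat_lit 774))
) (.node (nat_lit 0x1010501053d51) (.leaf (nat_lit 0x1010501053d11) (nat_lit 1032))
 (.leaf (nat_lit 0x1010501053d51) (nat_lit 1032))
))))) (.node (nat_lit 0x1010501151101) (.node (nat_lit 0x1010501112101) (.node (nat_lit 0x1010501110901) (.node (nat_lit 0x1010501110511) (.node (nat_lit 0x1010501110141) (.leaf (nat_lit 0x1010501110101) (nat_lit 770))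
 (.leaf (nat_lit 0x1010501110141) (nat_lit 516))
) (.node (nat_lit 0x1010501110551) (.leaf (nat_lit 0x1010501110511) (nat_lit 1288))
 (.leaf (nat_lit 0x1010501110551) (nat_lit 1288))
)) (.node (nat_lit 0x1010501110d11) (.node (nat_lit 0x1010501110941) (.leaf (nat_lit 0x1010501110901) (nat_lit 778))
 (.leaf (nat_lit 0x1010501110941) (nat_lit 768))
) (.node (nat_lit 0x1010501110d51) (.leaf (nat_lit 0x1010501110d11) (nat_lit 1290))
 (.leaf (nat_lit 0x1010501110d51) (nat_lit 1290))
))) (.node (nat_lit 0x1010501112901) (.node (nat_lit 0x1010501112511) (.node (nat_lit 0x1010501112141) (.leaf (nat_lit 0x1010501112101) (nat_lit 514))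
 (.leaf (nat_lit 0x1010501112141) (nat_lit 772))
) (.node (nat_lit 0x1010501112551) (.leaf (nat_lit 0x1010501112511) (nat_lit 1030))
 (.leaf (nat_lit 0x1010501112551) (nat_lit 1032))
)) (.node (nat_lit 0x1010501112d11) (.node (nat_lit 0x1010501112941) (.leaf (nat_lit 0x1010501112901) (nat_lit 768))
 (.leaf (nat_lit 0x1010501112941) (nat_lit 778))
) (.node (nat_lit 0x1010501112d51) (.leaf (nat_lit 0x1010501112d11) (nat_lit 1286))
 (.leaf (nat_lit 0x1010501112d51) (nat_lit 1288))
)))) (.node (nat_lit 0x1010501153101) (.node (nat_lit 0x1010501151901) (.node (nat_lit 0x1010501151511) (.node (nat_lit 0x1010501151141) (.leaf (nat_lit 0x1010501151101) (nat_lit 778))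
 (.leaf (nat_lit 0x1010501151141) (nat_lit 1024))
) (.node (nat_lit 0x1010501151551) (.leaf (nat_lit 0x1010501151511) (nat_lit 1290))
 (.leaf (nat_lit 0x1010501151551) (nat_lit 1034))
)) (.node (nat_lit 0x1010501151d11) (.node (nat_lit 0x1010501151941) (.leaf (nat_lit 0x1010501151901) (nat_lit 774))
 (.leaf (nat_lit 0x1010501151941) (nat_lit 768))
) (.node (nat_lit 0x1010501151d51) (.leaf (nat_lit 0x1010501151d11) (nat_lit 1031))
 (.leaf (nat_lit 0x1010501151d51) (nat_lit 1032))
))) (.node (nat_lit 0x1010501153901) (.node (nat_lit 0x1010501153511) (.node (nat_lit 0x1010501153141) (.leaf (nat_lit 0x1010501153101) (nat_lit 774))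
 (.leaf (nat_lit 0x1010501153141) (nat_lit 1034))
) (.node (nat_lit 0x1010501153551) (.leaf (nat_lit 0x1010501153511) (nat_lit 1280))
 (.leaf (nat_lit 0x1010501153551) (nat_lit 1032))
)) (.node (nat_lit 0x1010501153d11) (.node (nat_lit 0x1010501153941) (.leaf (nat_lit 0x1010501153901) (nat_lit 518))
 (.leaf (nat_lit 0x1010501153941) (nat_lit 1024))
) (.node (nat_lit 0x1010501153d51) (.leaf (nat_lit 0x1010501153d11) (nat_lit 1024))
 (.leaf (nat_lit 0x1010501153d51) (nat_lit 776))
)))))) (.node (nat_lit 0x1010503110181) (.node (nat_lit 0x1010503051181) (.node (nat_lit 0x1010503012181) (.node (nat_lit 0x1010503010981) (.node (nat_lit 0x1010503010591) (.node (nat_lit 0x10105030101c1) (.leaf (nat_lit 0x1010503010181) (nat_lit 1024))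
 (.leaf (nat_lit 0x10105030101c1) (nat_lit 1290))
) (.node (nat_lit 0x10105030105d1) (.leaf (nat_lit 0x1010503010591) (nat_lit 1024))
 (.leaf (nat_lit 0x10105030105d1) (nat_lit 1285))
)) (.node (nat_lit 0x1010503010d91) (.node (nat_lit 0x10105030109c1) (.leaf (nat_lit 0x1010503010981) (nat_lit 768))
 (.leaf (nat_lit 0x10105030109c1) (nat_lit 1288))
) (.node (nat_lit 0x1010503010dd1) (.leaf (nat_lit 0x1010503010d91) (nat_lit 1280))
 (.leaf (nat_lit 0x1010503010dd1) (nat_lit 1546))
))) (.node (nat_lit 0x1010503012981) (.node (nat_lit 0x1010503012591) (.node (nat_lit 0x10105030121c1) (.leaf (nat_lit 0x1010503012181) (nat_lit 1034))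
 (.leaf (nat_lit 0x10105030121c1) (nat_lit 1288))
) (.node (nat_lit 0x10105030125d1) (.leaf (nat_lit 0x1010503012591) (nat_lit 1280))
 (.leaf (nat_lit 0x10105030125d1) (nat_lit 1289))
)) (.node (nat_lit 0x1010503012d91) (.node (nat_lit 0x10105030129c1) (.leaf (nat_lit 0x1010503012981) (nat_lit 1033))
 (.leaf (nat_lit 0x10105030129c1) (nat_lit 1032))
) (.node (nat_lit 0x1010503012dd1) (.leaf (nat_lit 0x1010503012d91) (nat_lit 1290))
 (.leaf (nat_lit 0x1010503012dd1) (nat_lit 1546))
)))) (.node (nat_lit 0x1010503053181) (.node (nat_lit 0x1010503051981) (.node (nat_lit 0x1010503051591) (.node (nat_lit 0x10105030511c1) (.leaf (nat_lit 0x1010503051181) (nat_lit 1024))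
 (.leaf (nat_lit 0x10105030511c1) (nat_lit 1288))
) (.node (nat_lit 0x10105030515d1) (.leaf (nat_lit 0x1010503051591) (nat_lit 1024))
 (.leaf (nat_lit 0x10105030515d1) (nat_lit 1546))
)) (.node (nat_lit 0x1010503051d91) (.node (nat_lit 0x10105030519c1) (.leaf (nat_lit 0x1010503051981) (nat_lit 1280))
 (.leaf (nat_lit 0x10105030519c1) (nat_lit 1544))
) (.node (nat_lit 0x1010503051dd1) (.leaf (nat_lit 0x1010503051d91) (nat_lit 768))
 (.leaf (nat_lit 0x1010503051dd1) (nat_lit 1285))
))) (.node (nat_lit 0x1010503053981) (.node (nat_lit 0x1010503053591) (.node (nat_lit 0x10105030531c1) (.leaf (nat_lit 0x1010503053181) (nat_lit 1280))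
 (.leaf (nat_lit 0x10105030531c1) (nat_lit 1288))
) (.node (nat_lit 0x10105030535d1) (.leaf (nat_lit 0x1010503053591) (nat_lit 1034))
 (.leaf (nat_lit 0x10105030535d1) (nat_lit 1546))
)) (.node (nat_lit 0x1010503053d91) (.node (nat_lit 0x10105030539c1) (.leaf (nat_lit 0x1010503053981) (nat_lit 1290))
 (.leaf (nat_lit 0x10105030539c1) (nat_lit 1546))
) (.node (nat_lit 0x1010503053dd1) (.leaf (nat_lit 0x1010503053d91) (nat_lit 1024))
 (.leaf (nat_lit 0x1010503053dd1) (nat_lit 1289))
))))) (.node (nat_lit 0x1010503151181) (.node (nat_lit 0x1010503112181) (.node (nat_lit 0x1010503110981) (.node (nat_lit 0x1010503110591) (.node (nat_lit 0x10105031101c1) (.leaf (nat_lit 0x1010503110181) (nat_lit 1290))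
 (.leaf (nat_lit 0x10105031101c1) (nat_lit 1290))
) (.node (nat_lit 0x10105031105d1) (.leaf (nat_lit 0x1010503110591) (nat_lit 1286))
 (.leaf (nat_lit 0x10105031105d1) (nat_lit 1289))
)) (.node (nat_lit 0x1010503110d91) (.node (nat_lit 0x10105031109c1) (.leaf (nat_lit 0x1010503110981) (nat_lit 1024))
 (.leaf (nat_lit 0x10105031109c1) (nat_lit 1024))
) (.node (nat_lit 0x1010503110dd1) (.leaf (nat_lit 0x1010503110d91) (nat_lit 1290))
 (.leaf (nat_lit 0x1010503110dd1) (nat_lit 1546))
))) (.node (nat_lit 0x1010503112981) (.node (nat_lit 0x1010503112591) (.node (nat_lit 0x10105031121c1) (.leaf (nat_lit 0x1010503112181) (nat_lit 1280))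
 (.leaf (nat_lit 0x10105031121c1) (nat_lit 1280))
) (.node (nat_lit 0x10105031125d1) (.leaf (nat_lit 0x1010503112591) (nat_lit 1030))
 (.leaf (nat_lit 0x10105031125d1) (nat_lit 1280))
)) (.node (nat_lit 0x1010503112d91) (.node (nat_lit 0x10105031129c1) (.leaf (nat_lit 0x1010503112981) (nat_lit 1024))
 (.leaf (nat_lit 0x10105031129c1) (nat_lit 1024))
) (.node (nat_lit 0x1010503112dd1) (.leaf (nat_lit 0x1010503112d91) (nat_lit 1286))
 (.leaf (nat_lit 0x1010503112dd1) (nat_lit 1536))
)))) (.node (nat_lit 0x1010503153181) (.node (nat_lit 0x1010503151981) (.node (nat_lit 0x1010503151591) (.node (nat_lit 0x10105031511c1) (.leaf (nat_lit 0x1010503151181) (nat_lit 1289))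
 (.leaf (nat_lit 0x10105031511c1) (nat_lit 1288))
) (.node (nat_lit 0x10105031515d1) (.leaf (nat_lit 0x1010503151591) (nat_lit 1290))
 (.leaf (nat_lit 0x10105031515d1) (nat_lit 1290))
)) (.node (nat_lit 0x1010503151d91) (.node (nat_lit 0x10105031519c1) (.leaf (nat_lit 0x1010503151981) (nat_lit 1290))
 (.leaf (nat_lit 0x10105031519c1) (nat_lit 1544))
) (.node (nat_lit 0x1010503151dd1) (.leaf (nat_lit 0x1010503151d91) (nat_lit 1031))
 (.leaf (nat_lit 0x1010503151dd1) (nat_lit 1033))
))) (.node (nat_lit 0x1010503153981) (.node (nat_lit 0x1010503153591) (.node (nat_lit 0x10105031531c1) (.leaf (nat_lit 0x1010503153181) (nat_lit 1030))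
 (.leaf (nat_lit 0x10105031531c1) (nat_lit 1280))
) (.node (nat_lit 0x10105031535d1) (.leaf (nat_lit 0x1010503153591) (nat_lit 1280))
 (.leaf (nat_lit 0x10105031535d1) (nat_lit 1290))
)) (.node (nat_lit 0x1010503153d91) (.node (nat_lit 0x10105031539c1) (.leaf (nat_lit 0x1010503153981) (nat_lit 1286))
 (.leaf (nat_lit 0x10105031539c1) (nat_lit 1546))
) (.node (nat_lit 0x1010503153dd1) (.leaf (nat_lit 0x1010503153d91) (nat_lit 1024))
 (.leaf (nat_lit 0x1010503153dd1) (nat_lit 1029))
))))))) (.node (nat_lit 0x101050b010181) (.node (nat_lit 0x1010509110101) (.node (nat_lit 0x1010509051101) (.node (nat_lit 0x1010509012101) (.node (nat_lit 0x1010509010901) (.node (nat_lit 0x1010509010511) (.node (nat_lit 0x1010509010141) (.leaf (nat_lit 0x1010509010101) (nat_lit 517))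
 (.leaf (nat_lit 0x1010509010141) (nat_lit 1285))
) (.node (nat_lit 0x1010509010551) (.leaf (nat_lit 0x1010509010511) (nat_lit 1285))
 (.leaf (nat_lit 0x1010509010551) (nat_lit 1285))
)) (.node (nat_lit 0x1010509010d11) (.node (nat_lit 0x1010509010941) (.leaf (nat_lit 0x1010509010901) (nat_lit 768))
 (.leaf (nat_lit 0x1010509010941) (nat_lit 1290))
) (.node (nat_lit 0x1010509010d51) (.leaf (nat_lit 0x1010509010d11) (nat_lit 1546))
 (.leaf (nat_lit 0x1010509010d51) (nat_lit 1546))
))) (.node (nat_lit 0x1010509012901) (.node (nat_lit 0x1010509012511) (.node (nat_lit 0x1010509012141) (.leaf (nat_lit 0x1010509012101) (nat_lit 773))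
 (.leaf (nat_lit 0x1010509012141) (nat_lit 1029))
) (.node (nat_lit 0x1010509012551) (.leaf (nat_lit 0x1010509012511) (nat_lit 1280))
 (.leaf (nat_lit 0x1010509012551) (nat_lit 1288))
)) (.node (nat_lit 0x1010509012d11) (.node (nat_lit 0x1010509012941) (.leaf (nat_lit 0x1010509012901) (nat_lit 778))
 (.leaf (nat_lit 0x1010509012941) (nat_lit 1280))
) (.node (nat_lit 0x1010509012d51) (.leaf (nat_lit 0x1010509012d11) (nat_lit 1536))
 (.leaf (nat_lit 0x1010509012d51) (nat_lit 1546))
)))) (.node (nat_lit 0x1010509053101) (.node (nat_lit 0x1010509051901) (.node (nat_lit 0x1010509051511) (.node (nat_lit 0x1010509051141) (.leaf (nat_lit 0x1010509051101) (nat_lit 1024))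
 (.leaf (nat_lit 0x1010509051141) (nat_lit 1290))
) (.node (nat_lit 0x1010509051551) (.leaf (nat_lit 0x1010509051511) (nat_lit 1290))
 (.leaf (nat_lit 0x1010509051551) (nat_lit 1546))
)) (.node (nat_lit 0x1010509051d11) (.node (nat_lit 0x1010509051941) (.leaf (nat_lit 0x1010509051901) (nat_lit 768))
 (.leaf (nat_lit 0x1010509051941) (nat_lit 1286))
) (.node (nat_lit 0x1010509051d51) (.leaf (nat_lit 0x1010509051d11) (nat_lit 1029))
 (.leaf (nat_lit 0x1010509051d51) (nat_lit 1285))
))) (.node (nat_lit 0x1010509053901) (.node (nat_lit 0x1010509053511) (.node (nat_lit 0x1010509053141) (.leaf (nat_lit 0x1010509053101) (nat_lit 1034))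
 (.leaf (nat_lit 0x1010509053141) (nat_lit 1286))
) (.node (nat_lit 0x1010509053551) (.leaf (nat_lit 0x1010509053511) (nat_lit 1280))
 (.leaf (nat_lit 0x1010509053551) (nat_lit 1546))
)) (.node (nat_lit 0x1010509053d11) (.node (nat_lit 0x1010509053941) (.leaf (nat_lit 0x1010509053901) (nat_lit 1024))
 (.leaf (nat_lit 0x1010509053941) (nat_lit 1030))
) (.node (nat_lit 0x1010509053d51) (.leaf (nat_lit 0x1010509053d11) (nat_lit 1024))
 (.leaf (nat_lit 0x1010509053d51) (nat_lit 1288))
))))) (.node (nat_lit 0x1010509151101) (.node (nat_lit 0x1010509112101) (.node (nat_lit 0x1010509110901) (.node (nat_lit 0x1010509110511) (.node (nat_lit 0x1010509110141) (.leaf (nat_lit 0x1010509110101) (nat_lit 1029))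
 (.leaf (nat_lit 0x1010509110141) (nat_lit 773))
) (.node (nat_lit 0x1010509110551) (.leaf (nat_lit 0x1010509110511) (nat_lit 1286))
 (.leaf (nat_lit 0x1010509110551) (nat_lit 1288))
)) (.node (nat_lit 0x1010509110d11) (.node (nat_lit 0x1010509110941) (.leaf (nat_lit 0x1010509110901) (nat_lit 1034))
 (.leaf (nat_lit 0x1010509110941) (nat_lit 1024))
) (.node (nat_lit 0x1010509110d51) (.leaf (nat_lit 0x1010509110d11) (nat_lit 1542))
 (.leaf (nat_lit 0x1010509110d51) (nat_lit 1544))
))) (.node (nat_lit 0x1010509112901) (.node (nat_lit 0x1010509112511) (.node (nat_lit 0x1010509112141) (.leaf (nat_lit 0x1010509112101) (nat_lit 773))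
 (.leaf (nat_lit 0x1010509112141) (nat_lit 1029))
) (.node (nat_lit 0x1010509112551) (.leaf (nat_lit 0x1010509112511) (nat_lit 1286))
 (.leaf (nat_lit 0x1010509112551) (nat_lit 1285))
)) (.node (nat_lit 0x1010509112d11) (.node (nat_lit 0x1010509112941) (.leaf (nat_lit 0x1010509112901) (nat_lit 1024))
 (.leaf (nat_lit 0x1010509112941) (nat_lit 1034))
) (.node (nat_lit 0x1010509112d51) (.leaf (nat_lit 0x1010509112d11) (nat_lit 1546))
 (.leaf (nat_lit 0x1010509112d51) (nat_lit 1546))
)))) (.node (nat_lit 0x1010509153101) (.node (nat_lit 0x1010509151901) (.node (nat_lit 0x1010509151511) (.node (nat_lit 0x1010509151141) (.leaf (nat_lit 0x1010509151101) (nat_lit 1034))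
 (.leaf (nat_lit 0x1010509151141) (nat_lit 1280))
) (.node (nat_lit 0x1010509151551) (.leaf (nat_lit 0x1010509151511) (nat_lit 1536))
 (.leaf (nat_lit 0x1010509151551) (nat_lit 1290))
)) (.node (nat_lit 0x1010509151d11) (.node (nat_lit 0x1010509151941) (.leaf (nat_lit 0x1010509151901) (nat_lit 1030))
 (.leaf (nat_lit 0x1010509151941) (nat_lit 1024))
) (.node (nat_lit 0x1010509151d51) (.leaf (nat_lit 0x1010509151d11) (nat_lit 1280))
 (.leaf (nat_lit 0x1010509151d51) (nat_lit 1032))
))) (.node (nat_lit 0x1010509153901) (.node (nat_lit 0x1010509153511) (.node (nat_lit 0x1010509153141) (.leaf (nat_lit 0x1010509153101) (nat_lit 1030))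
 (.leaf (nat_lit 0x1010509153141) (nat_lit 1290))
) (.node (nat_lit 0x1010509153551) (.leaf (nat_lit 0x1010509153511) (nat_lit 1546))
 (.leaf (nat_lit 0x1010509153551) (nat_lit 1290))
)) (.node (nat_lit 0x1010509153d11) (.node (nat_lit 0x1010509153941) (.leaf (nat_lit 0x1010509153901) (nat_lit 774))
 (.leaf (nat_lit 0x1010509153941) (nat_lit 1280))
) (.node (nat_lit 0x1010509153d51) (.leaf (nat_lit 0x1010509153d11) (nat_lit 1285))
 (.leaf (nat_lit 0x1010509153d51) (nat_lit 1029))
)))))) (.node (nat_lit 0x101050b110181) (.node (nat_lit 0x101050b051181) (.node (nat_lit 0x101050b012181) (.node (nat_lit 0x101050b010981) (.node (nat_lit 0x101050b010591) (.node (nat_lit 0x101050b0101c1) (.leaf (nat_lit 0x101050b010181) (nat_lit 1034))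
 (.leaf (nat_lit 0x101050b0101c1) (nat_lit 1290))
) (.node (nat_lit 0x101050b0105d1) (.leaf (nat_lit 0x101050b010591) (nat_lit 1289))
 (.leaf (nat_lit 0x101050b0105d1) (nat_lit 1033))
)) (.node (nat_lit 0x101050b010d91) (.node (nat_lit 0x101050b0109c1) (.leaf (nat_lit 0x101050b010981) (nat_lit 1033))
 (.leaf (nat_lit 0x101050b0109c1) (nat_lit 1289))
) (.node (nat_lit 0x101050b010dd1) (.leaf (nat_lit 0x101050b010d91) (nat_lit 1545))
 (.leaf (nat_lit 0x101050b010dd1) (nat_lit 1289))
))) (.node (nat_lit 0x101050b012981) (.node (nat_lit 0x101050b012591) (.node (nat_lit 0x101050b0121c1) (.leaf (nat_lit 0x101050b012181) (nat_lit 1033))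
 (.leaf (nat_lit 0x101050b0121c1) (nat_lit 1289))
) (.node (nat_lit 0x101050b0125d1) (.leaf (nat_lit 0x101050b012591) (nat_lit 1280))
 (.leaf (nat_lit 0x101050b0125d1) (nat_lit 1289))
)) (.node (nat_lit 0x101050b012d91) (.node (nat_lit 0x101050b0129c1) (.leaf (nat_lit 0x101050b012981) (nat_lit 777))
 (.leaf (nat_lit 0x101050b0129c1) (nat_lit 1033))
) (.node (nat_lit 0x101050b012dd1) (.leaf (nat_lit 0x101050b012d91) (nat_lit 1546))
 (.leaf (nat_lit 0x101050b012dd1) (nat_lit 1290))
)))) (.node (nat_lit 0x101050b053181) (.node (nat_lit 0x101050b051981) (.node (nat_lit 0x101050b051591) (.node (nat_lit 0x101050b0511c1) (.leaf (nat_lit 0x101050b051181) (nat_lit 1289))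
 (.leaf (nat_lit 0x101050b0511c1) (nat_lit 1289))
) (.node (nat_lit 0x101050b0515d1) (.leaf (nat_lit 0x101050b051591) (nat_lit 1290))
 (.leaf (nat_lit 0x101050b0515d1) (nat_lit 1290))
)) (.node (nat_lit 0x101050b051d91) (.node (nat_lit 0x101050b0519c1) (.leaf (nat_lit 0x101050b051981) (nat_lit 1290))
 (.leaf (nat_lit 0x101050b0519c1) (nat_lit 1546))
) (.node (nat_lit 0x101050b051dd1) (.leaf (nat_lit 0x101050b051d91) (nat_lit 1033))
 (.leaf (nat_lit 0x101050b051dd1) (nat_lit 1033))
))) (.node (nat_lit 0x101050b053981) (.node (nat_lit 0x101050b053591) (.node (nat_lit 0x101050b0531c1) (.leaf (nat_lit 0x101050b053181) (nat_lit 1033))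
 (.leaf (nat_lit 0x101050b0531c1) (nat_lit 1289))
) (.node (nat_lit 0x101050b0535d1) (.leaf (nat_lit 0x101050b053591) (nat_lit 1290))
 (.leaf (nat_lit 0x101050b0535d1) (nat_lit 1290))
)) (.node (nat_lit 0x101050b053d91) (.node (nat_lit 0x101050b0539c1) (.leaf (nat_lit 0x101050b053981) (nat_lit 1289))
 (.leaf (nat_lit 0x101050b0539c1) (nat_lit 1546))
) (.node (nat_lit 0x101050b053dd1) (.leaf (nat_lit 0x101050b053d91) (nat_lit 1033))
 (.leaf (nat_lit 0x101050b053dd1) (nat_lit 1033))
))))) (.node (nat_lit 0x101050b151181) (.node (nat_lit 0x101050b112181) (.node (nat_lit 0x101050b110981) (.node (nat_lit 0x101050b110591) (.node (nat_lit 0x101050b1101c1) (.leaf (nat_lit 0x101050b110181) (nat_lit 1290))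
 (.leaf (nat_lit 0x101050b1101c1) (nat_lit 1290))
) (.node (nat_lit 0x101050b1105d1) (.leaf (nat_lit 0x101050b110591) (nat_lit 1289))
 (.leaf (nat_lit 0x101050b1105d1) (nat_lit 1289))
)) (.node (nat_lit 0x101050b110d91) (.node (nat_lit 0x101050b1109c1) (.leaf (nat_lit 0x101050b110981) (nat_lit 1033))
 (.leaf (nat_lit 0x101050b1109c1) (nat_lit 1033))
) (.node (nat_lit 0x101050b110dd1) (.leaf (nat_lit 0x101050b110d91) (nat_lit 1546))
 (.leaf (nat_lit 0x101050b110dd1) (nat_lit 1290))
))) (.node (nat_lit 0x101050b112981) (.node (nat_lit 0x101050b112591) (.node (nat_lit 0x101050b1121c1) (.leaf (nat_lit 0x101050b112181) (nat_lit 1290))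
 (.leaf (nat_lit 0x101050b1121c1) (nat_lit 1290))
) (.node (nat_lit 0x101050b1125d1) (.leaf (nat_lit 0x101050b112591) (nat_lit 1289))
 (.leaf (nat_lit 0x101050b1125d1) (nat_lit 1033))
)) (.node (nat_lit 0x101050b112d91) (.node (nat_lit 0x101050b1129c1) (.leaf (nat_lit 0x101050b112981) (nat_lit 1033))
 (.leaf (nat_lit 0x101050b1129c1) (nat_lit 1033))
) (.node (nat_lit 0x101050b112dd1) (.leaf (nat_lit 0x101050b112d91) (nat_lit 1546))
 (.leaf (nat_lit 0x101050b112dd1) (nat_lit 1289))
)))) (.node (nat_lit 0x101050b153181) (.node (nat_lit 0x101050b151981) (.node (nat_lit 0x101050b151591) (.node (nat_lit 0x101050b1511c1) (.leaf (nat_lit 0x101050b151181) (nat_lit 1033))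
 (.leaf (nat_lit 0x101050b1511c1) (nat_lit 1289))
) (.node (nat_lit 0x101050b1515d1) (.leaf (nat_lit 0x101050b151591) (nat_lit 1546))
 (.leaf (nat_lit 0x101050b1515d1) (nat_lit 1034))
)) (.node (nat_lit 0x101050b151d91) (.node (nat_lit 0x101050b1519c1) (.leaf (nat_lit 0x101050b151981) (nat_lit 1289))
 (.leaf (nat_lit 0x101050b1519c1) (nat_lit 1545))
) (.node (nat_lit 0x101050b151dd1) (.leaf (nat_lit 0x101050b151d91) (nat_lit 1289))
 (.leaf (nat_lit 0x101050b151dd1) (nat_lit 1033))
))) (.node (nat_lit 0x101050b153981) (.node (nat_lit 0x101050b153591) (.node (nat_lit 0x101050b1531c1) (.leaf (nat_lit 0x101050b153181) (nat_lit 1289))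
 (.leaf (nat_lit 0x101050b1531c1) (nat_lit 1289))
) (.node (nat_lit 0x101050b1535d1) (.leaf (nat_lit 0x101050b153591) (nat_lit 1546))
 (.leaf (nat_lit 0x101050b1535d1) (nat_lit 1033))
)) (.node (nat_lit 0x101050b153d91) (.node (nat_lit 0x101050b1539c1) (.leaf (nat_lit 0x101050b153981) (nat_lit 1290))
 (.leaf (nat_lit 0x101050b1539c1) (nat_lit 1546))
) (.node (nat_lit 0x101050b153dd1) (.leaf (nat_lit 0x101050b153d91) (nat_lit 1289))
 (.leaf (nat_lit 0x101050b153dd1) (nat_lit 777))
))))))))) (.node (nat_lit 0x1018501010301) (.node (nat_lit 0x1018109010301) (.node (nat_lit 0x1018103010381) (.node (nat_lit 0x1018101110301) (.node (nat_lit 0x1018101051301) (.node (nat_lit 0x1018101012301) (.node (nat_lit 0x1018101010b01) (.node (nat_lit 0x1018101010711) (.node (nat_lit 0x1018101010341) (.leaf (nat_lit 0x1018101010301) (nat_lit 778))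
 (.leaf (nat_lit 0x1018101010341) (nat_lit 1290))
) (.node (nat_lit 0x1018101010751) (.leaf (nat_lit 0x1018101010711) (nat_lit 522))
 (.leaf (nat_lit 0x1018101010751) (nat_lit 1034))
)) (.node (nat_lit 0x1018101010f11) (.node (nat_lit 0x1018101010b41) (.leaf (nat_lit 0x1018101010b01) (nat_lit 519))
 (.leaf (nat_lit 0x1018101010b41) (nat_lit 1028))
) (.node (nat_lit 0x1018101010f51) (.leaf (nat_lit 0x1018101010f11) (nat_lit 264))
 (.leaf (nat_lit 0x1018101010f51) (nat_lit 772))
))) (.node (nat_lit 0x1018101012b01) (.node (nat_lit 0x1018101012711) (.node (nat_lit 0x1018101012341) (.leaf (nat_lit 0x1018101012301) (nat_lit 1034))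
 (.leaf (nat_lit 0x1018101012341) (nat_lit 1290))
) (.node (nat_lit 0x1018101012751) (.leaf (nat_lit 0x1018101012711) (nat_lit 778))
 (.leaf (nat_lit 0x1018101012751) (nat_lit 1034))
)) (.node (nat_lit 0x1018101012f11) (.node (nat_lit 0x1018101012b41) (.leaf (nat_lit 0x1018101012b01) (nat_lit 775))
 (.leaf (nat_lit 0x1018101012b41) (nat_lit 1031))
) (.node (nat_lit 0x1018101012f51) (.leaf (nat_lit 0x1018101012f11) (nat_lit 520))
 (.leaf (nat_lit 0x1018101012f51) (nat_lit 776))
)))) (.node (nat_lit 0x1018101053301) (.node (nat_lit 0x1018101051b01) (.node (nat_lit 0x1018101051711) (.node (nat_lit 0x1018101051341) (.leaf (nat_lit 0x1018101051301) (nat_lit 522))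
 (.leaf (nat_lit 0x1018101051341) (nat_lit 1034))
) (.node (nat_lit 0x1018101051751) (.leaf (nat_lit 0x1018101051711) (nat_lit 778))
 (.leaf (nat_lit 0x1018101051751) (nat_lit 1290))
)) (.node (nat_lit 0x1018101051f11) (.node (nat_lit 0x1018101051b41) (.leaf (nat_lit 0x1018101051b01) (nat_lit 263))
 (.leaf (nat_lit 0x1018101051b41) (nat_lit 772))
) (.node (nat_lit 0x1018101051f51) (.leaf (nat_lit 0x1018101051f11) (nat_lit 520))
 (.leaf (nat_lit 0x1018101051f51) (nat_lit 1028))
))) (.node (nat_lit 0x1018101053b01) (.node (nat_lit 0x1018101053711) (.node (nat_lit 0x1018101053341) (.leaf (nat_lit 0x1018101053301) (nat_lit 778))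
 (.leaf (nat_lit 0x1018101053341) (nat_lit 1034))
) (.node (nat_lit 0x1018101053751) (.leaf (nat_lit 0x1018101053711) (nat_lit 1034))
 (.leaf (nat_lit 0x1018101053751) (nat_lit 1290))
)) (.node (nat_lit 0x1018101053f11) (.node (nat_lit 0x1018101053b41) (.leaf (nat_lit 0x1018101053b01) (nat_lit 519))
 (.leaf (nat_lit 0x1018101053b41) (nat_lit 775))
) (.node (nat_lit 0x1018101053f51) (.leaf (nat_lit 0x1018101053f11) (nat_lit 776))
 (.leaf (nat_lit 0x1018101053f51) (nat_lit 1032))
))))) (.node (nat_lit 0x1018101151301) (.node (nat_lit 0x1018101112301) (.node (nat_lit 0x1018101110b01) (.node (nat_lit 0x1018101110711) (.node (nat_lit 0x1018101110341) (.leaf (nat_lit 0x1018101110301) (nat_lit 1034))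
 (.leaf (nat_lit 0x1018101110341) (nat_lit 1034))
) (.node (nat_lit 0x1018101110751) (.leaf (nat_lit 0x1018101110711) (nat_lit 778))
 (.leaf (nat_lit 0x1018101110751) (nat_lit 778))
)) (.node (nat_lit 0x1018101110f11) (.node (nat_lit 0x1018101110b41) (.leaf (nat_lit 0x1018101110b01) (nat_lit 775))
 (.leaf (nat_lit 0x1018101110b41) (nat_lit 772))
) (.node (nat_lit 0x1018101110f51) (.leaf (nat_lit 0x1018101110f11) (nat_lit 520))
 (.leaf (nat_lit 0x1018101110f51) (nat_lit 516))
))) (.node (nat_lit 0x1018101112b01) (.node (nat_lit 0x1018101112711) (.node (nat_lit 0x1018101112341) (.leaf (nat_lit 0x1018101112301) (nat_lit 1034))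
 (.leaf (nat_lit 0x1018101112341) (nat_lit 1034))
) (.node (nat_lit 0x1018101112751) (.leaf (nat_lit 0x1018101112711) (nat_lit 778))
 (.leaf (nat_lit 0x1018101112751) (nat_lit 778))
)) (.node (nat_lit 0x1018101112f11) (.node (nat_lit 0x1018101112b41) (.leaf (nat_lit 0x1018101112b01) (nat_lit 770))
 (.leaf (nat_lit 0x1018101112b41) (nat_lit 775))
) (.node (nat_lit 0x1018101112f51) (.leaf (nat_lit 0x1018101112f11) (nat_lit 514))
 (.leaf (nat_lit 0x1018101112f51) (nat_lit 520))
)))) (.node (nat_lit 0x1018101153301) (.node (nat_lit 0x1018101151b01) (.node (nat_lit 0x1018101151711) (.node (nat_lit 0x1018101151341) (.leaf (nat_lit 0x1018101151301) (nat_lit 778))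
 (.leaf (nat_lit 0x1018101151341) (nat_lit 778))
) (.node (nat_lit 0x1018101151751) (.leaf (nat_lit 0x1018101151711) (nat_lit 1034))
 (.leaf (nat_lit 0x1018101151751) (nat_lit 1034))
)) (.node (nat_lit 0x1018101151f11) (.node (nat_lit 0x1018101151b41) (.leaf (nat_lit 0x1018101151b01) (nat_lit 519))
 (.leaf (nat_lit 0x1018101151b41) (nat_lit 516))
) (.node (nat_lit 0x1018101151f51) (.leaf (nat_lit 0x1018101151f11) (nat_lit 776))
 (.leaf (nat_lit 0x1018101151f51) (nat_lit 772))
))) (.node (nat_lit 0x1018101153b01) (.node (nat_lit 0x1018101153711) (.node (nat_lit 0x1018101153341) (.leaf (nat_lit 0x1018101153301) (nat_lit 778))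
 (.leaf (nat_lit 0x1018101153341) (nat_lit 778))
) (.node (nat_lit 0x1018101153751) (.leaf (nat_lit 0x1018101153711) (nat_lit 1034))
 (.leaf (nat_lit 0x1018101153751) (nat_lit 1034))
)) (.node (nat_lit 0x1018101153f11) (.node (nat_lit 0x1018101153b41) (.leaf (nat_lit 0x1018101153b01) (nat_lit 514))
 (.leaf (nat_lit 0x1018101153b41) (nat_lit 519))
) (.node (nat_lit 0x1018101153f51) (.leaf (nat_lit 0x1018101153f11) (nat_lit 770))
 (.leaf (nat_lit 0x1018101153f51) (nat_lit 776))
)))))) (.node (nat_lit 0x1018103110381) (.node (nat_lit 0x1018103051381) (.node (nat_lit 0x1018103012381) (.node (nat_lit 0x1018103010b81) (.node (nat_lit 0x1018103010791) (.node (nat_lit 0x10181030103c1) (.leaf (nat_lit 0x1018103010381) (nat_lit 1033))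
 (.leaf (nat_lit 0x10181030103c1) (nat_lit 1545))
) (.node (nat_lit 0x10181030107d1) (.leaf (nat_lit 0x1018103010791) (nat_lit 522))
 (.leaf (nat_lit 0x10181030107d1) (nat_lit 1034))
)) (.node (nat_lit 0x1018103010f91) (.node (nat_lit 0x1018103010bc1) (.leaf (nat_lit 0x1018103010b81) (nat_lit 1290))
 (.leaf (nat_lit 0x1018103010bc1) (nat_lit 1801))
) (.node (nat_lit 0x1018103010fd1) (.leaf (nat_lit 0x1018103010f91) (nat_lit 265))
 (.leaf (nat_lit 0x1018103010fd1) (nat_lit 777))
))) (.node (nat_lit 0x1018103012b81) (.node (nat_lit 0x1018103012791) (.node (nat_lit 0x10181030123c1) (.leaf (nat_lit 0x1018103012381) (nat_lit 1289))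
 (.leaf (nat_lit 0x10181030123c1) (nat_lit 1545))
) (.node (nat_lit 0x10181030127d1) (.leaf (nat_lit 0x1018103012791) (nat_lit 778))
 (.leaf (nat_lit 0x10181030127d1) (nat_lit 1034))
)) (.node (nat_lit 0x1018103012f91) (.node (nat_lit 0x1018103012bc1) (.leaf (nat_lit 0x1018103012b81) (nat_lit 1546))
 (.leaf (nat_lit 0x1018103012bc1) (nat_lit 1802))
) (.node (nat_lit 0x1018103012fd1) (.leaf (nat_lit 0x1018103012f91) (nat_lit 521))
 (.leaf (nat_lit 0x1018103012fd1) (nat_lit 770))
)))) (.node (nat_lit 0x1018103053381) (.node (nat_lit 0x1018103051b81) (.node (nat_lit 0x1018103051791) (.node (nat_lit 0x10181030513c1) (.leaf (nat_lit 0x1018103051381) (nat_lit 777))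
 (.leaf (nat_lit 0x10181030513c1) (nat_lit 1289))
) (.node (nat_lit 0x10181030517d1) (.leaf (nat_lit 0x1018103051791) (nat_lit 778))
 (.leaf (nat_lit 0x10181030517d1) (nat_lit 1290))
)) (.node (nat_lit 0x1018103051f91) (.node (nat_lit 0x1018103051bc1) (.leaf (nat_lit 0x1018103051b81) (nat_lit 1034))
 (.leaf (nat_lit 0x1018103051bc1) (nat_lit 1546))
) (.node (nat_lit 0x1018103051fd1) (.leaf (nat_lit 0x1018103051f91) (nat_lit 521))
 (.leaf (nat_lit 0x1018103051fd1) (nat_lit 1033))
))) (.node (nat_lit 0x1018103053b81) (.node (nat_lit 0x1018103053791) (.node (nat_lit 0x10181030533c1) (.leaf (nat_lit 0x1018103053381) (nat_lit 1033))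
 (.leaf (nat_lit 0x10181030533c1) (nat_lit 1289))
) (.node (nat_lit 0x10181030537d1) (.leaf (nat_lit 0x1018103053791) (nat_lit 1034))
 (.leaf (nat_lit 0x10181030537d1) (nat_lit 1290))
)) (.node (nat_lit 0x1018103053f91) (.node (nat_lit 0x1018103053bc1) (.leaf (nat_lit 0x1018103053b81) (nat_lit 1290))
 (.leaf (nat_lit 0x1018103053bc1) (nat_lit 1546))
) (.node (nat_lit 0x1018103053fd1) (.leaf (nat_lit 0x1018103053f91) (nat_lit 777))
 (.leaf (nat_lit 0x1018103053fd1) (nat_lit 1026))
))))) (.node (nat_lit 0x1018103151381) (.node (nat_lit 0x1018103112381) (.node (nat_lit 0x1018103110b81) (.node (nat_lit 0x1018103110791) (.node (nat_lit 0x10181031103c1) (.leaf (nat_lit 0x1018103110381) (nat_lit 1289))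
 (.leaf (nat_lit 0x10181031103c1) (nat_lit 1289))
) (.node (nat_lit 0x10181031107d1) (.leaf (nat_lit 0x1018103110791) (nat_lit 778))
 (.leaf (nat_lit 0x10181031107d1) (nat_lit 778))
)) (.node (nat_lit 0x1018103110f91) (.node (nat_lit 0x1018103110bc1) (.leaf (nat_lit 0x1018103110b81) (nat_lit 1546))
 (.leaf (nat_lit 0x1018103110bc1) (nat_lit 1546))
) (.node (nat_lit 0x1018103110fd1) (.leaf (nat_lit 0x1018103110f91) (nat_lit 521))
 (.leaf (nat_lit 0x1018103110fd1) (nat_lit 521))
))) (.node (nat_lit 0x1018103112b81) (.node (nat_lit 0x1018103112791) (.node (nat_lit 0x10181031123c1) (.leaf (nat_lit 0x1018103112381) (nat_lit 1289))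
 (.leaf (nat_lit 0x10181031123c1) (nat_lit 1289))
) (.node (nat_lit 0x10181031127d1) (.leaf (nat_lit 0x1018103112791) (nat_lit 778))
 (.leaf (nat_lit 0x10181031127d1) (nat_lit 1034))
)) (.node (nat_lit 0x1018103112f91) (.node (nat_lit 0x1018103112bc1) (.leaf (nat_lit 0x1018103112b81) (nat_lit 1546))
 (.leaf (nat_lit 0x1018103112bc1) (nat_lit 1546))
) (.node (nat_lit 0x1018103112fd1) (.leaf (nat_lit 0x1018103112f91) (nat_lit 514))
 (.leaf (nat_lit 0x1018103112fd1) (nat_lit 777))
)))) (.node (nat_lit 0x1018103153381) (.node (nat_lit 0x1018103151b81) (.node (nat_lit 0x1018103151791) (.node (nat_lit 0x10181031513c1) (.leaf (nat_lit 0x1018103151381) (nat_lit 1033))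
 (.leaf (nat_lit 0x10181031513c1) (nat_lit 1033))
) (.node (nat_lit 0x10181031517d1) (.leaf (nat_lit 0x1018103151791) (nat_lit 1034))
 (.leaf (nat_lit 0x10181031517d1) (nat_lit 1034))
)) (.node (nat_lit 0x1018103151f91) (.node (nat_lit 0x1018103151bc1) (.leaf (nat_lit 0x1018103151b81) (nat_lit 1290))
 (.leaf (nat_lit 0x1018103151bc1) (nat_lit 1290))
) (.node (nat_lit 0x1018103151fd1) (.leaf (nat_lit 0x1018103151f91) (nat_lit 777))
 (.leaf (nat_lit 0x1018103151fd1) (nat_lit 777))
))) (.node (nat_lit 0x1018103153b81) (.node (nat_lit 0x1018103153791) (.node (nat_lit 0x10181031533c1) (.leaf (nat_lit 0x1018103153381) (nat_lit 1033))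
 (.leaf (nat_lit 0x10181031533c1) (nat_lit 1033))
) (.node (nat_lit 0x10181031537d1) (.leaf (nat_lit 0x1018103153791) (nat_lit 1034))
 (.leaf (nat_lit 0x10181031537d1) (nat_lit 1290))
)) (.node (nat_lit 0x1018103153f91) (.node (nat_lit 0x1018103153bc1) (.leaf (nat_lit 0x1018103153b81) (nat_lit 1290))
 (.leaf (nat_lit 0x1018103153bc1) (nat_lit 1290))
) (.node (nat_lit 0x1018103153fd1) (.leaf (nat_lit 0x1018103153f91) (nat_lit 770))
 (.leaf (nat_lit 0x1018103153fd1) (nat_lit 1033))
))))))) (.node (nat_lit 0x101810b010381) (.node (nat_lit 0x1018109110301) (.node (nat_lit 0x1018109051301) (.node (nat_lit 0x1018109012301) (.node (nat_lit 0x1018109010b01) (.node (nat_lit 0x1018109010711) (.node (nat_lit 0x1018109010341) (.leaf (nat_lit 0x1018109010301) (nat_lit 1034))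
 (.leaf (nat_lit 0x1018109010341) (nat_lit 1546))
) (.node (nat_lit 0x1018109010751) (.leaf (nat_lit 0x1018109010711) (nat_lit 778))
 (.leaf (nat_lit 0x1018109010751) (nat_lit 1290))
)) (.node (nat_lit 0x1018109010f11) (.node (nat_lit 0x1018109010b41) (.leaf (nat_lit 0x1018109010b01) (nat_lit 775))
 (.leaf (nat_lit 0x1018109010b41) (nat_lit 1284))
) (.node (nat_lit 0x1018109010f51) (.leaf (nat_lit 0x1018109010f11) (nat_lit 517))
 (.leaf (nat_lit 0x1018109010f51) (nat_lit 1032))
))) (.node (nat_lit 0x1018109012b01) (.node (nat_lit 0x1018109012711) (.node (nat_lit 0x1018109012341) (.leaf (nat_lit 0x1018109012301) (nat_lit 1290))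
 (.leaf (nat_lit 0x1018109012341) (nat_lit 1546))
) (.node (nat_lit 0x1018109012751) (.leaf (nat_lit 0x1018109012711) (nat_lit 778))
 (.leaf (nat_lit 0x1018109012751) (nat_lit 1290))
)) (.node (nat_lit 0x1018109012f11) (.node (nat_lit 0x1018109012b41) (.leaf (nat_lit 0x1018109012b01) (nat_lit 1031))
 (.leaf (nat_lit 0x1018109012b41) (nat_lit 1287))
) (.node (nat_lit 0x1018109012f51) (.leaf (nat_lit 0x1018109012f11) (nat_lit 520))
 (.leaf (nat_lit 0x1018109012f51) (nat_lit 1029))
)))) (.node (nat_lit 0x1018109053301) (.node (nat_lit 0x1018109051b01) (.node (nat_lit 0x1018109051711) (.node (nat_lit 0x1018109051341) (.leaf (nat_lit 0x1018109051301) (nat_lit 778))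
 (.leaf (nat_lit 0x1018109051341) (nat_lit 1290))
) (.node (nat_lit 0x1018109051751) (.leaf (nat_lit 0x1018109051711) (nat_lit 1034))
 (.leaf (nat_lit 0x1018109051751) (nat_lit 1546))
)) (.node (nat_lit 0x1018109051f11) (.node (nat_lit 0x1018109051b41) (.leaf (nat_lit 0x1018109051b01) (nat_lit 519))
 (.leaf (nat_lit 0x1018109051b41) (nat_lit 1028))
) (.node (nat_lit 0x1018109051f51) (.leaf (nat_lit 0x1018109051f11) (nat_lit 773))
 (.leaf (nat_lit 0x1018109051f51) (nat_lit 1288))
))) (.node (nat_lit 0x1018109053b01) (.node (nat_lit 0x1018109053711) (.node (nat_lit 0x1018109053341) (.leaf (nat_lit 0x1018109053301) (nat_lit 1034))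
 (.leaf (nat_lit 0x1018109053341) (nat_lit 1290))
) (.node (nat_lit 0x1018109053751) (.leaf (nat_lit 0x1018109053711) (nat_lit 1034))
 (.leaf (nat_lit 0x1018109053751) (nat_lit 1546))
)) (.node (nat_lit 0x1018109053f11) (.node (nat_lit 0x1018109053b41) (.leaf (nat_lit 0x1018109053b01) (nat_lit 775))
 (.leaf (nat_lit 0x1018109053b41) (nat_lit 1031))
) (.node (nat_lit 0x1018109053f51) (.leaf (nat_lit 0x1018109053f11) (nat_lit 776))
 (.leaf (nat_lit 0x1018109053f51) (nat_lit 1285))
))))) (.node (nat_lit 0x1018109151301) (.node (nat_lit 0x1018109112301) (.node (nat_lit 0x1018109110b01) (.node (nat_lit 0x1018109110711) (.node (nat_lit 0x1018109110341) (.leaf (nat_lit 0x1018109110301) (nat_lit 1290))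
 (.leaf (nat_lit 0x1018109110341) (nat_lit 1290))
) (.node (nat_lit 0x1018109110751) (.leaf (nat_lit 0x1018109110711) (nat_lit 1034))
 (.leaf (nat_lit 0x1018109110751) (nat_lit 1034))
)) (.node (nat_lit 0x1018109110f11) (.node (nat_lit 0x1018109110b41) (.leaf (nat_lit 0x1018109110b01) (nat_lit 1031))
 (.leaf (nat_lit 0x1018109110b41) (nat_lit 1028))
) (.node (nat_lit 0x1018109110f51) (.leaf (nat_lit 0x1018109110f11) (nat_lit 773))
 (.leaf (nat_lit 0x1018109110f51) (nat_lit 776))
))) (.node (nat_lit 0x1018109112b01) (.node (nat_lit 0x1018109112711) (.node (nat_lit 0x1018109112341) (.leaf (nat_lit 0x1018109112301) (nat_lit 1290))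
 (.leaf (nat_lit 0x1018109112341) (nat_lit 1290))
) (.node (nat_lit 0x1018109112751) (.leaf (nat_lit 0x1018109112711) (nat_lit 1034))
 (.leaf (nat_lit 0x1018109112751) (nat_lit 1034))
)) (.node (nat_lit 0x1018109112f11) (.node (nat_lit 0x1018109112b41) (.leaf (nat_lit 0x1018109112b01) (nat_lit 1026))
 (.leaf (nat_lit 0x1018109112b41) (nat_lit 1031))
) (.node (nat_lit 0x1018109112f51) (.leaf (nat_lit 0x1018109112f11) (nat_lit 776))
 (.leaf (nat_lit 0x1018109112f51) (nat_lit 773))
)))) (.node (nat_lit 0x1018109153301) (.node (nat_lit 0x1018109151b01) (.node (nat_lit 0x1018109151711) (.node (nat_lit 0x1018109151341) (.leaf (nat_lit 0x1018109151301) (nat_lit 1034))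
 (.leaf (nat_lit 0x1018109151341) (nat_lit 1034))
) (.node (nat_lit 0x1018109151751) (.leaf (nat_lit 0x1018109151711) (nat_lit 1290))
 (.leaf (nat_lit 0x1018109151751) (nat_lit 1290))
)) (.node (nat_lit 0x1018109151f11) (.node (nat_lit 0x1018109151b41) (.leaf (nat_lit 0x1018109151b01) (nat_lit 775))
 (.leaf (nat_lit 0x1018109151b41) (nat_lit 772))
) (.node (nat_lit 0x1018109151f51) (.leaf (nat_lit 0x1018109151f11) (nat_lit 1029))
 (.leaf (nat_lit 0x1018109151f51) (nat_lit 1032))
))) (.node (nat_lit 0x1018109153b01) (.node (nat_lit 0x1018109153711) (.node (nat_lit 0x1018109153341) (.leaf (nat_lit 0x1018109153301) (nat_lit 1034))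
 (.leaf (nat_lit 0x1018109153341) (nat_lit 1034))
) (.node (nat_lit 0x1018109153751) (.leaf (nat_lit 0x1018109153711) (nat_lit 1290))
 (.leaf (nat_lit 0x1018109153751) (nat_lit 1290))
)) (.node (nat_lit 0x1018109153f11) (.node (nat_lit 0x1018109153b41) (.leaf (nat_lit 0x1018109153b01) (nat_lit 770))
 (.leaf (nat_lit 0x1018109153b41) (nat_lit 775))
) (.node (nat_lit 0x1018109153f51) (.leaf (nat_lit 0x1018109153f11) (nat_lit 1032))
 (.leaf (nat_lit 0x1018109153f51) (nat_lit 1029))
)))))) (.node (nat_lit 0x101810b110381) (.node (nat_lit 0x101810b051381) (.node (nat_lit 0x101810b012381) (.node (nat_lit 0x101810b010b81) (.node (nat_lit 0x101810b010791) (.node (nat_lit 0x101810b0103c1) (.leaf (nat_lit 0x101810b010381) (nat_lit 1289))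
 (.leaf (nat_lit 0x101810b0103c1) (nat_lit 1536))
) (.node (nat_lit 0x101810b0107d1) (.leaf (nat_lit 0x101810b010791) (nat_lit 778))
 (.leaf (nat_lit 0x101810b0107d1) (nat_lit 1280))
)) (.node (nat_lit 0x101810b010f91) (.node (nat_lit 0x101810b010bc1) (.leaf (nat_lit 0x101810b010b81) (nat_lit 1546))
 (.leaf (nat_lit 0x101810b010bc1) (nat_lit 1800))
) (.node (nat_lit 0x101810b010fd1) (.leaf (nat_lit 0x101810b010f91) (nat_lit 517))
 (.leaf (nat_lit 0x101810b010fd1) (nat_lit 1029))
))) (.node (nat_lit 0x101810b012b81) (.node (nat_lit 0x101810b012791) (.node (nat_lit 0x101810b0123c1) (.leaf (nat_lit 0x101810b012381) (nat_lit 1289))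
 (.leaf (nat_lit 0x101810b0123c1) (nat_lit 1544))
) (.node (nat_lit 0x101810b0127d1) (.leaf (nat_lit 0x101810b012791) (nat_lit 778))
 (.leaf (nat_lit 0x101810b0127d1) (nat_lit 1290))
)) (.node (nat_lit 0x101810b012f91) (.node (nat_lit 0x101810b012bc1) (.leaf (nat_lit 0x101810b012b81) (nat_lit 1546))
 (.leaf (nat_lit 0x101810b012bc1) (nat_lit 1802))
) (.node (nat_lit 0x101810b012fd1) (.leaf (nat_lit 0x101810b012f91) (nat_lit 521))
 (.leaf (nat_lit 0x101810b012fd1) (nat_lit 1024))
)))) (.node (nat_lit 0x101810b053381) (.node (nat_lit 0x101810b051b81) (.node (nat_lit 0x101810b051791) (.node (nat_lit 0x101810b0513c1) (.leaf (nat_lit 0x101810b051381) (nat_lit 1033))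
 (.leaf (nat_lit 0x101810b0513c1) (nat_lit 1544))
) (.node (nat_lit 0x101810b0517d1) (.leaf (nat_lit 0x101810b051791) (nat_lit 1034))
 (.leaf (nat_lit 0x101810b0517d1) (nat_lit 1542))
)) (.node (nat_lit 0x101810b051f91) (.node (nat_lit 0x101810b051bc1) (.leaf (nat_lit 0x101810b051b81) (nat_lit 1290))
 (.leaf (nat_lit 0x101810b051bc1) (nat_lit 1800))
) (.node (nat_lit 0x101810b051fd1) (.leaf (nat_lit 0x101810b051f91) (nat_lit 773))
 (.leaf (nat_lit 0x101810b051fd1) (nat_lit 1283))
))) (.node (nat_lit 0x101810b053b81) (.node (nat_lit 0x101810b053791) (.node (nat_lit 0x101810b0533c1) (.leaf (nat_lit 0x101810b053381) (nat_lit 1033))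
 (.leaf (nat_lit 0x101810b0533c1) (nat_lit 1544))
) (.node (nat_lit 0x101810b0537d1) (.leaf (nat_lit 0x101810b053791) (nat_lit 1034))
 (.leaf (nat_lit 0x101810b0537d1) (nat_lit 1546))
)) (.node (nat_lit 0x101810b053f91) (.node (nat_lit 0x101810b053bc1) (.leaf (nat_lit 0x101810b053b81) (nat_lit 1290))
 (.leaf (nat_lit 0x101810b053bc1) (nat_lit 1802))
) (.node (nat_lit 0x101810b053fd1) (.leaf (nat_lit 0x101810b053f91) (nat_lit 777))
 (.leaf (nat_lit 0x101810b053fd1) (nat_lit 1286))
))))) (.node (nat_lit 0x101810b151381) (.node (nat_lit 0x101810b112381) (.node (nat_lit 0x101810b110b81) (.node (nat_lit 0x101810b110791) (.node (nat_lit 0x101810b1103c1) (.leaf (nat_lit 0x101810b110381) (nat_lit 1545))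
 (.leaf (nat_lit 0x101810b1103c1) (nat_lit 1545))
) (.node (nat_lit 0x101810b1107d1) (.leaf (nat_lit 0x101810b110791) (nat_lit 1034))
 (.leaf (nat_lit 0x101810b1107d1) (nat_lit 1034))
)) (.node (nat_lit 0x101810b110f91) (.node (nat_lit 0x101810b110bc1) (.leaf (nat_lit 0x101810b110b81) (nat_lit 1799))
 (.leaf (nat_lit 0x101810b110bc1) (nat_lit 1800))
) (.node (nat_lit 0x101810b110fd1) (.leaf (nat_lit 0x101810b110f91) (nat_lit 773))
 (.leaf (nat_lit 0x101810b110fd1) (nat_lit 773))
))) (.node (nat_lit 0x101810b112b81) (.node (nat_lit 0x101810b112791) (.node (nat_lit 0x101810b1123c1) (.leaf (nat_lit 0x101810b112381) (nat_lit 1543))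
 (.leaf (nat_lit 0x101810b1123c1) (nat_lit 1544))
) (.node (nat_lit 0x101810b1127d1) (.leaf (nat_lit 0x101810b112791) (nat_lit 1034))
 (.leaf (nat_lit 0x101810b1127d1) (nat_lit 1034))
)) (.node (nat_lit 0x101810b112f91) (.node (nat_lit 0x101810b112bc1) (.leaf (nat_lit 0x101810b112b81) (nat_lit 1802))
 (.leaf (nat_lit 0x101810b112bc1) (nat_lit 1802))
) (.node (nat_lit 0x101810b112fd1) (.leaf (nat_lit 0x101810b112f91) (nat_lit 777))
 (.leaf (nat_lit 0x101810b112fd1) (nat_lit 777))
)))) (.node (nat_lit 0x101810b153381) (.node (nat_lit 0x101810b151b81) (.node (nat_lit 0x101810b151791) (.node (nat_lit 0x101810b1513c1) (.leaf (nat_lit 0x101810b151381) (nat_lit 1289))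
 (.leaf (nat_lit 0x101810b1513c1) (nat_lit 1289))
) (.node (nat_lit 0x101810b1517d1) (.leaf (nat_lit 0x101810b151791) (nat_lit 1290))
 (.leaf (nat_lit 0x101810b1517d1) (nat_lit 1290))
)) (.node (nat_lit 0x101810b151f91) (.node (nat_lit 0x101810b151bc1) (.leaf (nat_lit 0x101810b151b81) (nat_lit 1546))
 (.leaf (nat_lit 0x101810b151bc1) (nat_lit 1544))
) (.node (nat_lit 0x101810b151fd1) (.leaf (nat_lit 0x101810b151f91) (nat_lit 1029))
 (.leaf (nat_lit 0x101810b151fd1) (nat_lit 1029))
))) (.node (nat_lit 0x101810b153b81) (.node (nat_lit 0x101810b153791) (.node (nat_lit 0x101810b1533c1) (.leaf (nat_lit 0x101810b153381) (nat_lit 1289))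
 (.leaf (nat_lit 0x101810b1533c1) (nat_lit 1288))
) (.node (nat_lit 0x101810b1537d1) (.leaf (nat_lit 0x101810b153791) (nat_lit 1290))
 (.leaf (nat_lit 0x101810b1537d1) (nat_lit 1290))
)) (.node (nat_lit 0x101810b153f91) (.node (nat_lit 0x101810b153bc1) (.leaf (nat_lit 0x101810b153b81) (nat_lit 1546))
 (.leaf (nat_lit 0x101810b153bc1) (nat_lit 1546))
) (.node (nat_lit 0x101810b153fd1) (.leaf (nat_lit 0x101810b153f91) (nat_lit 1033))
 (.leaf (nat_lit 0x101810b153fd1) (nat_lit 1033))
)))))))) (.node (nat_lit 0x1018509010301) (.node (nat_lit 0x1018503010381) (.node (nat_lit 0x1018501110301) (.node (nat_lit 0x1018501051301) (.node (nat_lit 0x1018501012301) (.node (nat_lit 0x1018501010b01) (.node (nat_lit 0x1018501010711) (.node (nat_lit 0x1018501010341) (.leaf (nat_lit 0x1018501010301) (nat_lit 1024))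
 (.leaf (nat_lit 0x1018501010341) (nat_lit 1286))
) (.node (nat_lit 0x1018501010751) (.leaf (nat_lit 0x1018501010711) (nat_lit 768))
 (.leaf (nat_lit 0x1018501010751) (nat_lit 1034))
)) (.node (nat_lit 0x1018501010f11) (.node (nat_lit 0x1018501010b41) (.leaf (nat_lit 0x1018501010b01) (nat_lit 768))
 (.leaf (nat_lit 0x1018501010b41) (nat_lit 1030))
) (.node (nat_lit 0x1018501010f51) (.leaf (nat_lit 0x1018501010f11) (nat_lit 512))
 (.leaf (nat_lit 0x1018501010f51) (nat_lit 1032))
))) (.node (nat_lit 0x1018501012b01) (.node (nat_lit 0x1018501012711) (.node (nat_lit 0x1018501012341) (.leaf (nat_lit 0x1018501012301) (nat_lit 1034))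
 (.leaf (nat_lit 0x1018501012341) (nat_lit 1290))
) (.node (nat_lit 0x1018501012751) (.leaf (nat_lit 0x1018501012711) (nat_lit 778))
 (.leaf (nat_lit 0x1018501012751) (nat_lit 1032))
)) (.node (nat_lit 0x1018501012f11) (.node (nat_lit 0x1018501012b41) (.leaf (nat_lit 0x1018501012b01) (nat_lit 1031))
 (.leaf (nat_lit 0x1018501012b41) (nat_lit 1030))
) (.node (nat_lit 0x1018501012f51) (.leaf (nat_lit 0x1018501012f11) (nat_lit 768))
 (.leaf (nat_lit 0x1018501012f51) (nat_lit 776))
)))) (.node (nat_lit 0x1018501053301) (.node (nat_lit 0x1018501051b01) (.node (nat_lit 0x1018501051711) (.node (nat_lit 0x1018501051341) (.leaf (nat_lit 0x1018501051301) (nat_lit 768))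
 (.leaf (nat_lit 0x1018501051341) (nat_lit 1290))
) (.node (nat_lit 0x1018501051751) (.leaf (nat_lit 0x1018501051711) (nat_lit 1024))
 (.leaf (nat_lit 0x1018501051751) (nat_lit 1288))
)) (.node (nat_lit 0x1018501051f11) (.node (nat_lit 0x1018501051b41) (.leaf (nat_lit 0x1018501051b01) (nat_lit 512))
 (.leaf (nat_lit 0x1018501051b41) (nat_lit 1028))
) (.node (nat_lit 0x1018501051f51) (.leaf (nat_lit 0x1018501051f11) (nat_lit 768))
 (.leaf (nat_lit 0x1018501051f51) (nat_lit 1032))
))) (.node (nat_lit 0x1018501053b01) (.node (nat_lit 0x1018501053711) (.node (nat_lit 0x1018501053341) (.leaf (nat_lit 0x1018501053301) (nat_lit 778))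
 (.leaf (nat_lit 0x1018501053341) (nat_lit 1290))
) (.node (nat_lit 0x1018501053751) (.leaf (nat_lit 0x1018501053711) (nat_lit 1034))
 (.leaf (nat_lit 0x1018501053751) (nat_lit 1290))
)) (.node (nat_lit 0x1018501053f11) (.node (nat_lit 0x1018501053b41) (.leaf (nat_lit 0x1018501053b01) (nat_lit 768))
 (.leaf (nat_lit 0x1018501053b41) (nat_lit 1031))
) (.node (nat_lit 0x1018501053f51) (.leaf (nat_lit 0x1018501053f11) (nat_lit 1024))
 (.leaf (nat_lit 0x1018501053f51) (nat_lit 1032))
))))) (.node (nat_lit 0x1018501151301) (.node (nat_lit 0x1018501112301) (.node (nat_lit 0x1018501110b01) (.node (nat_lit 0x1018501110711) (.node (nat_lit 0x1018501110341) (.leaf (nat_lit 0x1018501110301) (nat_lit 1034))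
 (.leaf (nat_lit 0x1018501110341) (nat_lit 1290))
) (.node (nat_lit 0x1018501110751) (.leaf (nat_lit 0x1018501110711) (nat_lit 1024))
 (.leaf (nat_lit 0x1018501110751) (nat_lit 1034))
)) (.node (nat_lit 0x1018501110f11) (.node (nat_lit 0x1018501110b41) (.leaf (nat_lit 0x1018501110b01) (nat_lit 1030))
 (.leaf (nat_lit 0x1018501110b41) (nat_lit 1028))
) (.node (nat_lit 0x1018501110f51) (.leaf (nat_lit 0x1018501110f11) (nat_lit 768))
 (.leaf (nat_lit 0x1018501110f51) (nat_lit 772))
))) (.node (nat_lit 0x1018501112b01) (.node (nat_lit 0x1018501112711) (.node (nat_lit 0x1018501112341) (.leaf (nat_lit 0x1018501112301) (nat_lit 1030))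
 (.leaf (nat_lit 0x1018501112341) (nat_lit 1280))
) (.node (nat_lit 0x1018501112751) (.leaf (nat_lit 0x1018501112711) (nat_lit 1034))
 (.leaf (nat_lit 0x1018501112751) (nat_lit 1024))
)) (.node (nat_lit 0x1018501112f11) (.node (nat_lit 0x1018501112b41) (.leaf (nat_lit 0x1018501112b01) (nat_lit 774))
 (.leaf (nat_lit 0x1018501112b41) (nat_lit 1024))
) (.node (nat_lit 0x1018501112f51) (.leaf (nat_lit 0x1018501112f11) (nat_lit 770))
 (.leaf (nat_lit 0x1018501112f51) (nat_lit 768))
)))) (.node (nat_lit 0x1018501153301) (.node (nat_lit 0x1018501151b01) (.node (nat_lit 0x1018501151711) (.node (nat_lit 0x1018501151341) (.leaf (nat_lit 0x1018501151301) (nat_lit 1034))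
 (.leaf (nat_lit 0x1018501151341) (nat_lit 1034))
) (.node (nat_lit 0x1018501151751) (.leaf (nat_lit 0x1018501151711) (nat_lit 1034))
 (.leaf (nat_lit 0x1018501151751) (nat_lit 1290))
)) (.node (nat_lit 0x1018501151f11) (.node (nat_lit 0x1018501151b41) (.leaf (nat_lit 0x1018501151b01) (nat_lit 775))
 (.leaf (nat_lit 0x1018501151b41) (nat_lit 772))
) (.node (nat_lit 0x1018501151f51) (.leaf (nat_lit 0x1018501151f11) (nat_lit 1030))
 (.leaf (nat_lit 0x1018501151f51) (nat_lit 1032))
))) (.node (nat_lit 0x1018501153b01) (.node (nat_lit 0x1018501153711) (.node (nat_lit 0x1018501153341) (.leaf (nat_lit 0x1018501153301) (nat_lit 1034))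
 (.leaf (nat_lit 0x1018501153341) (nat_lit 1024))
) (.node (nat_lit 0x1018501153751) (.leaf (nat_lit 0x1018501153711) (nat_lit 1030))
 (.leaf (nat_lit 0x1018501153751) (nat_lit 1290))
)) (.node (nat_lit 0x1018501153f11) (.node (nat_lit 0x1018501153b41) (.leaf (nat_lit 0x1018501153b01) (nat_lit 771))
 (.leaf (nat_lit 0x1018501153b41) (nat_lit 768))
) (.node (nat_lit 0x1018501153f51) (.leaf (nat_lit 0x1018501153f11) (nat_lit 774))
 (.leaf (nat_lit 0x1018501153f51) (nat_lit 1032))
)))))) (.node (nat_lit 0x1018503110381) (.node (nat_lit 0x1018503051381) (.node (nat_lit 0x1018503012381) (.node (nat_lit 0x1018503010b81) (.node (nat_lit 0x1018503010791) (.node (nat_lit 0x10185030103c1) (.leaf (nat_lit 0x1018503010381) (nat_lit 1280))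
 (.leaf (nat_lit 0x10185030103c1) (nat_lit 1288))
) (.node (nat_lit 0x10185030107d1) (.leaf (nat_lit 0x1018503010791) (nat_lit 768))
 (.leaf (nat_lit 0x10185030107d1) (nat_lit 1290))
)) (.node (nat_lit 0x1018503010f91) (.node (nat_lit 0x1018503010bc1) (.leaf (nat_lit 0x1018503010b81) (nat_lit 1536))
 (.leaf (nat_lit 0x1018503010bc1) (nat_lit 1544))
) (.node (nat_lit 0x1018503010fd1) (.leaf (nat_lit 0x1018503010f91) (nat_lit 512))
 (.leaf (nat_lit 0x1018503010fd1) (nat_lit 1033))
))) (.node (nat_lit 0x1018503012b81) (.node (nat_lit 0x1018503012791) (.node (nat_lit 0x10185030123c1) (.leaf (nat_lit 0x1018503012381) (nat_lit 1536))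
 (.leaf (nat_lit 0x10185030123c1) (nat_lit 1544))
) (.node (nat_lit 0x10185030127d1) (.leaf (nat_lit 0x1018503012791) (nat_lit 778))
 (.leaf (nat_lit 0x10185030127d1) (nat_lit 1290))
)) (.node (nat_lit 0x1018503012f91) (.node (nat_lit 0x1018503012bc1) (.leaf (nat_lit 0x1018503012b81) (nat_lit 1546))
 (.leaf (nat_lit 0x1018503012bc1) (nat_lit 1546))
) (.node (nat_lit 0x1018503012fd1) (.leaf (nat_lit 0x1018503012f91) (nat_lit 768))
 (.leaf (nat_lit 0x1018503012fd1) (nat_lit 1029))
)))) (.node (nat_lit 0x1018503053381) (.node (nat_lit 0x1018503051b81) (.node (nat_lit 0x1018503051791) (.node (nat_lit 0x10185030513c1) (.leaf (nat_lit 0x1018503051381) (nat_lit 1024))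
 (.leaf (nat_lit 0x10185030513c1) (nat_lit 1288))
) (.node (nat_lit 0x10185030517d1) (.leaf (nat_lit 0x1018503051791) (nat_lit 1024))
 (.leaf (nat_lit 0x10185030517d1) (nat_lit 1290))
)) (.node (nat_lit 0x1018503051f91) (.node (nat_lit 0x1018503051bc1) (.leaf (nat_lit 0x1018503051b81) (nat_lit 1280))
 (.leaf (nat_lit 0x1018503051bc1) (nat_lit 1546))
) (.node (nat_lit 0x1018503051fd1) (.leaf (nat_lit 0x1018503051f91) (nat_lit 768))
 (.leaf (nat_lit 0x1018503051fd1) (nat_lit 1286))
))) (.node (nat_lit 0x1018503053b81) (.node (nat_lit 0x1018503053791) (.node (nat_lit 0x10185030533c1) (.leaf (nat_lit 0x1018503053381) (nat_lit 1280))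
 (.leaf (nat_lit 0x10185030533c1) (nat_lit 1288))
) (.node (nat_lit 0x10185030537d1) (.leaf (nat_lit 0x1018503053791) (nat_lit 1034))
 (.leaf (nat_lit 0x10185030537d1) (nat_lit 1286))
)) (.node (nat_lit 0x1018503053f91) (.node (nat_lit 0x1018503053bc1) (.leaf (nat_lit 0x1018503053b81) (nat_lit 1290))
 (.leaf (nat_lit 0x1018503053bc1) (nat_lit 1544))
) (.node (nat_lit 0x1018503053fd1) (.leaf (nat_lit 0x1018503053f91) (nat_lit 1024))
 (.leaf (nat_lit 0x1018503053fd1) (nat_lit 1030))
))))) (.node (nat_lit 0x1018503151381) (.node (nat_lit 0x1018503112381) (.node (nat_lit 0x1018503110b81) (.node (nat_lit 0x1018503110791) (.node (nat_lit 0x10185031103c1) (.leaf (nat_lit 0x1018503110381) (nat_lit 1542))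
 (.leaf (nat_lit 0x10185031103c1) (nat_lit 1544))
) (.node (nat_lit 0x10185031107d1) (.leaf (nat_lit 0x1018503110791) (nat_lit 1024))
 (.leaf (nat_lit 0x10185031107d1) (nat_lit 1024))
)) (.node (nat_lit 0x1018503110f91) (.node (nat_lit 0x1018503110bc1) (.leaf (nat_lit 0x1018503110b81) (nat_lit 1546))
 (.leaf (nat_lit 0x1018503110bc1) (nat_lit 1546))
) (.node (nat_lit 0x1018503110fd1) (.leaf (nat_lit 0x1018503110f91) (nat_lit 768))
 (.leaf (nat_lit 0x1018503110fd1) (nat_lit 768))
))) (.node (nat_lit 0x1018503112b81) (.node (nat_lit 0x1018503112791) (.node (nat_lit 0x10185031123c1) (.leaf (nat_lit 0x1018503112381) (nat_lit 1286))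
 (.leaf (nat_lit 0x10185031123c1) (nat_lit 1288))
) (.node (nat_lit 0x10185031127d1) (.leaf (nat_lit 0x1018503112791) (nat_lit 1034))
 (.leaf (nat_lit 0x10185031127d1) (nat_lit 1034))
)) (.node (nat_lit 0x1018503112f91) (.node (nat_lit 0x1018503112bc1) (.leaf (nat_lit 0x1018503112b81) (nat_lit 1542))
 (.leaf (nat_lit 0x1018503112bc1) (nat_lit 1544))
) (.node (nat_lit 0x1018503112fd1) (.leaf (nat_lit 0x1018503112f91) (nat_lit 770))
 (.leaf (nat_lit 0x1018503112fd1) (nat_lit 1024))
)))) (.node (nat_lit 0x1018503153381) (.node (nat_lit 0x1018503151b81) (.node (nat_lit 0x1018503151791) (.node (nat_lit 0x10185031513c1) (.leaf (nat_lit 0x1018503151381) (nat_lit 1280))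
 (.leaf (nat_lit 0x10185031513c1) (nat_lit 1288))
) (.node (nat_lit 0x10185031517d1) (.leaf (nat_lit 0x1018503151791) (nat_lit 1034))
 (.leaf (nat_lit 0x10185031517d1) (nat_lit 1280))
)) (.node (nat_lit 0x1018503151f91) (.node (nat_lit 0x1018503151bc1) (.leaf (nat_lit 0x1018503151b81) (nat_lit 1536))
 (.leaf (nat_lit 0x1018503151bc1) (nat_lit 1290))
) (.node (nat_lit 0x1018503151fd1) (.leaf (nat_lit 0x1018503151f91) (nat_lit 1030))
 (.leaf (nat_lit 0x1018503151fd1) (nat_lit 1024))
))) (.node (nat_lit 0x1018503153b81) (.node (nat_lit 0x1018503153791) (.node (nat_lit 0x10185031533c1) (.leaf (nat_lit 0x1018503153381) (nat_lit 1280))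
 (.leaf (nat_lit 0x10185031533c1) (nat_lit 1032))
) (.node (nat_lit 0x10185031537d1) (.leaf (nat_lit 0x1018503153791) (nat_lit 1030))
 (.leaf (nat_lit 0x10185031537d1) (nat_lit 1290))
)) (.node (nat_lit 0x1018503153f91) (.node (nat_lit 0x1018503153bc1) (.leaf (nat_lit 0x1018503153b81) (nat_lit 1546))
 (.leaf (nat_lit 0x1018503153bc1) (nat_lit 1288))
) (.node (nat_lit 0x1018503153fd1) (.leaf (nat_lit 0x1018503153f91) (nat_lit 774))
 (.leaf (nat_lit 0x1018503153fd1) (nat_lit 1289))
))))))) (.node (nat_lit 0x101850b010381) (.node (nat_lit 0x1018509110301) (.node (nat_lit 0x1018509051301) (.node (nat_lit 0x1018509012301) (.node (nat_lit 0x1018509010b01) (.node (nat_lit 0x1018509010711) (.node (nat_lit 0x1018509010341) (.leaf (nat_lit 0x1018509010301) (nat_lit 1280))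
 (.leaf (nat_lit 0x1018509010341) (nat_lit 1542))
) (.node (nat_lit 0x1018509010751) (.leaf (nat_lit 0x1018509010711) (nat_lit 1034))
 (.leaf (nat_lit 0x1018509010751) (nat_lit 1290))
)) (.node (nat_lit 0x1018509010f11) (.node (nat_lit 0x1018509010b41) (.leaf (nat_lit 0x1018509010b01) (nat_lit 1024))
 (.leaf (nat_lit 0x1018509010b41) (nat_lit 1286))
) (.node (nat_lit 0x1018509010f51) (.leaf (nat_lit 0x1018509010f11) (nat_lit 773))
 (.leaf (nat_lit 0x1018509010f51) (nat_lit 1032))
))) (.node (nat_lit 0x1018509012b01) (.node (nat_lit 0x1018509012711) (.node (nat_lit 0x1018509012341) (.leaf (nat_lit 0x1018509012301) (nat_lit 1290))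
 (.leaf (nat_lit 0x1018509012341) (nat_lit 1546))
) (.node (nat_lit 0x1018509012751) (.leaf (nat_lit 0x1018509012711) (nat_lit 1024))
 (.leaf (nat_lit 0x1018509012751) (nat_lit 1290))
)) (.node (nat_lit 0x1018509012f11) (.node (nat_lit 0x1018509012b41) (.leaf (nat_lit 0x1018509012b01) (nat_lit 1287))
 (.leaf (nat_lit 0x1018509012b41) (nat_lit 1286))
) (.node (nat_lit 0x1018509012f51) (.leaf (nat_lit 0x1018509012f11) (nat_lit 768))
 (.leaf (nat_lit 0x1018509012f51) (nat_lit 1029))
)))) (.node (nat_lit 0x1018509053301) (.node (nat_lit 0x1018509051b01) (.node (nat_lit 0x1018509051711) (.node (nat_lit 0x1018509051341) (.leaf (nat_lit 0x1018509051301) (nat_lit 1024))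
 (.leaf (nat_lit 0x1018509051341) (nat_lit 1546))
) (.node (nat_lit 0x1018509051751) (.leaf (nat_lit 0x1018509051711) (nat_lit 1290))
 (.leaf (nat_lit 0x1018509051751) (nat_lit 1546))
)) (.node (nat_lit 0x1018509051f11) (.node (nat_lit 0x1018509051b41) (.leaf (nat_lit 0x1018509051b01) (nat_lit 768))
 (.leaf (nat_lit 0x1018509051b41) (nat_lit 1284))
) (.node (nat_lit 0x1018509051f51) (.leaf (nat_lit 0x1018509051f11) (nat_lit 1029))
 (.leaf (nat_lit 0x1018509051f51) (nat_lit 1285))
))) (.node (nat_lit 0x1018509053b01) (.node (nat_lit 0x1018509053711) (.node (nat_lit 0x1018509053341) (.leaf (nat_lit 0x1018509053301) (nat_lit 1034))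
 (.leaf (nat_lit 0x1018509053341) (nat_lit 1546))
) (.node (nat_lit 0x1018509053751) (.leaf (nat_lit 0x1018509053711) (nat_lit 1280))
 (.leaf (nat_lit 0x1018509053751) (nat_lit 1544))
)) (.node (nat_lit 0x1018509053f11) (.node (nat_lit 0x1018509053b41) (.leaf (nat_lit 0x1018509053b01) (nat_lit 1024))
 (.leaf (nat_lit 0x1018509053b41) (nat_lit 1287))
) (.node (nat_lit 0x1018509053f51) (.leaf (nat_lit 0x1018509053f11) (nat_lit 1024))
 (.leaf (nat_lit 0x1018509053f51) (nat_lit 1288))
))))) (.node (nat_lit 0x1018509151301) (.node (nat_lit 0x1018509112301) (.node (nat_lit 0x1018509110b01) (.node (nat_lit 0x1018509110711) (.node (nat_lit 0x1018509110341) (.leaf (nat_lit 0x1018509110301) (nat_lit 1290))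
 (.leaf (nat_lit 0x1018509110341) (nat_lit 1546))
) (.node (nat_lit 0x1018509110751) (.leaf (nat_lit 0x1018509110711) (nat_lit 1290))
 (.leaf (nat_lit 0x1018509110751) (nat_lit 1280))
)) (.node (nat_lit 0x1018509110f11) (.node (nat_lit 0x1018509110b41) (.leaf (nat_lit 0x1018509110b01) (nat_lit 1286))
 (.leaf (nat_lit 0x1018509110b41) (nat_lit 1284))
) (.node (nat_lit 0x1018509110f51) (.leaf (nat_lit 0x1018509110f11) (nat_lit 1029))
 (.leaf (nat_lit 0x1018509110f51) (nat_lit 1024))
))) (.node (nat_lit 0x1018509112b01) (.node (nat_lit 0x1018509112711) (.node (nat_lit 0x1018509112341) (.leaf (nat_lit 0x1018509112301) (nat_lit 1286))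
 (.leaf (nat_lit 0x1018509112341) (nat_lit 1536))
) (.node (nat_lit 0x1018509112751) (.leaf (nat_lit 0x1018509112711) (nat_lit 1280))
 (.leaf (nat_lit 0x1018509112751) (nat_lit 1290))
)) (.node (nat_lit 0x1018509112f11) (.node (nat_lit 0x1018509112b41) (.leaf (nat_lit 0x1018509112b01) (nat_lit 1030))
 (.leaf (nat_lit 0x1018509112b41) (nat_lit 1280))
) (.node (nat_lit 0x1018509112f51) (.leaf (nat_lit 0x1018509112f11) (nat_lit 1024))
 (.leaf (nat_lit 0x1018509112f51) (nat_lit 1029))
)))) (.node (nat_lit 0x1018509153301) (.node (nat_lit 0x1018509151b01) (.node (nat_lit 0x1018509151711) (.node (nat_lit 0x1018509151341) (.leaf (nat_lit 0x1018509151301) (nat_lit 1290))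
 (.leaf (nat_lit 0x1018509151341) (nat_lit 1290))
) (.node (nat_lit 0x1018509151751) (.leaf (nat_lit 0x1018509151711) (nat_lit 1286))
 (.leaf (nat_lit 0x1018509151751) (nat_lit 1546))
)) (.node (nat_lit 0x1018509151f11) (.node (nat_lit 0x1018509151b41) (.leaf (nat_lit 0x1018509151b01) (nat_lit 1031))
 (.leaf (nat_lit 0x1018509151b41) (nat_lit 1028))
) (.node (nat_lit 0x1018509151f51) (.leaf (nat_lit 0x1018509151f11) (nat_lit 1030))
 (.leaf (nat_lit 0x1018509151f51) (nat_lit 1285))
))) (.node (nat_lit 0x1018509153b01) (.node (nat_lit 0x1018509153711) (.node (nat_lit 0x1018509153341) (.leaf (nat_lit 0x1018509153301) (nat_lit 1290))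
 (.leaf (nat_lit 0x1018509153341) (nat_lit 1280))
) (.node (nat_lit 0x1018509153751) (.leaf (nat_lit 0x1018509153711) (nat_lit 1290))
 (.leaf (nat_lit 0x1018509153751) (nat_lit 1546))
)) (.node (nat_lit 0x1018509153f11) (.node (nat_lit 0x1018509153b41) (.leaf (nat_lit 0x1018509153b01) (nat_lit 1027))
 (.leaf (nat_lit 0x1018509153b41) (nat_lit 1024))
) (.node (nat_lit 0x1018509153f51) (.leaf (nat_lit 0x1018509153f11) (nat_lit 1030))
 (.leaf (nat_lit 0x1018509153f51) (nat_lit 1288))
)))))) (.node (nat_lit 0x101850b110381) (.node (nat_lit 0x101850b051381) (.node (nat_lit 0x101850b012381) (.node (nat_lit 0x101850b010b81) (.node (nat_lit 0x101850b010791) (.node (nat_lit 0x101850b0103c1) (.leaf (nat_lit 0x101850b010381) (nat_lit 1545))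
 (.leaf (nat_lit 0x101850b0103c1) (nat_lit 1289))
) (.node (nat_lit 0x101850b0107d1) (.leaf (nat_lit 0x101850b010791) (nat_lit 1034))
 (.leaf (nat_lit 0x101850b0107d1) (nat_lit 1034))
)) (.node (nat_lit 0x101850b010f91) (.node (nat_lit 0x101850b010bc1) (.leaf (nat_lit 0x101850b010b81) (nat_lit 1546))
 (.leaf (nat_lit 0x101850b010bc1) (nat_lit 1545))
) (.node (nat_lit 0x101850b010fd1) (.leaf (nat_lit 0x101850b010f91) (nat_lit 773))
 (.leaf (nat_lit 0x101850b010fd1) (nat_lit 1033))
))) (.node (nat_lit 0x101850b012b81) (.node (nat_lit 0x101850b012791) (.node (nat_lit 0x101850b0123c1) (.leaf (nat_lit 0x101850b012381) (nat_lit 1289))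
 (.leaf (nat_lit 0x101850b0123c1) (nat_lit 1545))
) (.node (nat_lit 0x101850b0127d1) (.leaf (nat_lit 0x101850b012791) (nat_lit 1024))
 (.leaf (nat_lit 0x101850b0127d1) (nat_lit 1033))
)) (.node (nat_lit 0x101850b012f91) (.node (nat_lit 0x101850b012bc1) (.leaf (nat_lit 0x101850b012b81) (nat_lit 1545))
 (.leaf (nat_lit 0x101850b012bc1) (nat_lit 1546))
) (.node (nat_lit 0x101850b012fd1) (.leaf (nat_lit 0x101850b012f91) (nat_lit 768))
 (.leaf (nat_lit 0x101850b012fd1) (nat_lit 777))
)))) (.node (nat_lit 0x101850b053381) (.node (nat_lit 0x101850b051b81) (.node (nat_lit 0x101850b051791) (.node (nat_lit 0x101850b0513c1) (.leaf (nat_lit 0x101850b051381) (nat_lit 1289))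
 (.leaf (nat_lit 0x101850b0513c1) (nat_lit 1289))
) (.node (nat_lit 0x101850b0517d1) (.leaf (nat_lit 0x101850b051791) (nat_lit 1290))
 (.leaf (nat_lit 0x101850b0517d1) (nat_lit 1289))
)) (.node (nat_lit 0x101850b051f91) (.node (nat_lit 0x101850b051bc1) (.leaf (nat_lit 0x101850b051b81) (nat_lit 1290))
 (.leaf (nat_lit 0x101850b051bc1) (nat_lit 1546))
) (.node (nat_lit 0x101850b051fd1) (.leaf (nat_lit 0x101850b051f91) (nat_lit 1029))
 (.leaf (nat_lit 0x101850b051fd1) (nat_lit 1033))
))) (.node (nat_lit 0x101850b053b81) (.node (nat_lit 0x101850b053791) (.node (nat_lit 0x101850b0533c1) (.leaf (nat_lit 0x101850b053381) (nat_lit 1033))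
 (.leaf (nat_lit 0x101850b0533c1) (nat_lit 1289))
) (.node (nat_lit 0x101850b0537d1) (.leaf (nat_lit 0x101850b053791) (nat_lit 1280))
 (.leaf (nat_lit 0x101850b0537d1) (nat_lit 1290))
)) (.node (nat_lit 0x101850b053f91) (.node (nat_lit 0x101850b053bc1) (.leaf (nat_lit 0x101850b053b81) (nat_lit 1289))
 (.leaf (nat_lit 0x101850b053bc1) (nat_lit 1545))
) (.node (nat_lit 0x101850b053fd1) (.leaf (nat_lit 0x101850b053f91) (nat_lit 1024))
 (.leaf (nat_lit 0x101850b053fd1) (nat_lit 1033))
))))) (.node (nat_lit 0x101850b151381) (.node (nat_lit 0x101850b112381) (.node (nat_lit 0x101850b110b81) (.node (nat_lit 0x101850b110791) (.node (nat_lit 0x101850b1103c1) (.leaf (nat_lit 0x101850b110381) (nat_lit 1289))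
 (.leaf (nat_lit 0x101850b1103c1) (nat_lit 1545))
) (.node (nat_lit 0x101850b1107d1) (.leaf (nat_lit 0x101850b110791) (nat_lit 1290))
 (.leaf (nat_lit 0x101850b1107d1) (nat_lit 1290))
)) (.node (nat_lit 0x101850b110f91) (.node (nat_lit 0x101850b110bc1) (.leaf (nat_lit 0x101850b110b81) (nat_lit 1545))
 (.leaf (nat_lit 0x101850b110bc1) (nat_lit 1546))
) (.node (nat_lit 0x101850b110fd1) (.leaf (nat_lit 0x101850b110f91) (nat_lit 1029))
 (.leaf (nat_lit 0x101850b110fd1) (nat_lit 1026))
))) (.node (nat_lit 0x101850b112b81) (.node (nat_lit 0x101850b112791) (.node (nat_lit 0x101850b1123c1) (.leaf (nat_lit 0x101850b112381) (nat_lit 1545))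
 (.leaf (nat_lit 0x101850b1123c1) (nat_lit 1289))
) (.node (nat_lit 0x101850b1127d1) (.leaf (nat_lit 0x101850b112791) (nat_lit 1280))
 (.leaf (nat_lit 0x101850b1127d1) (nat_lit 1290))
)) (.node (nat_lit 0x101850b112f91) (.node (nat_lit 0x101850b112bc1) (.leaf (nat_lit 0x101850b112b81) (nat_lit 1546))
 (.leaf (nat_lit 0x101850b112bc1) (nat_lit 1545))
) (.node (nat_lit 0x101850b112fd1) (.leaf (nat_lit 0x101850b112f91) (nat_lit 1033))
 (.leaf (nat_lit 0x101850b112fd1) (nat_lit 1033))
)))) (.node (nat_lit 0x101850b153381) (.node (nat_lit 0x101850b151b81) (.node (nat_lit 0x101850b151791) (.node (nat_lit 0x101850b1513c1) (.leaf (nat_lit 0x101850b151381) (nat_lit 1289))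
 (.leaf (nat_lit 0x101850b1513c1) (nat_lit 1289))
) (.node (nat_lit 0x101850b1517d1) (.leaf (nat_lit 0x101850b151791) (nat_lit 1286))
 (.leaf (nat_lit 0x101850b1517d1) (nat_lit 1290))
)) (.node (nat_lit 0x101850b151f91) (.node (nat_lit 0x101850b151bc1) (.leaf (nat_lit 0x101850b151b81) (nat_lit 1546))
 (.leaf (nat_lit 0x101850b151bc1) (nat_lit 1290))
) (.node (nat_lit 0x101850b151fd1) (.leaf (nat_lit 0x101850b151f91) (nat_lit 1030))
 (.leaf (nat_lit 0x101850b151fd1) (nat_lit 1033))
))) (.node (nat_lit 0x101850b153b81) (.node (nat_lit 0x101850b153791) (.node (nat_lit 0x101850b1533c1) (.leaf (nat_lit 0x101850b153381) (nat_lit 1289))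
 (.leaf (nat_lit 0x101850b1533c1) (nat_lit 1033))
) (.node (nat_lit 0x101850b1537d1) (.leaf (nat_lit 0x101850b153791) (nat_lit 1290))
 (.leaf (nat_lit 0x101850b1537d1) (nat_lit 1290))
)) (.node (nat_lit 0x101850b153f91) (.node (nat_lit 0x101850b153bc1) (.leaf (nat_lit 0x101850b153b81) (nat_lit 1546))
 (.leaf (nat_lit 0x101850b153bc1) (nat_lit 1289))
) (.node (nat_lit 0x101850b153fd1) (.leaf (nat_lit 0x101850b153f91) (nat_lit 1030))
 (.leaf (nat_lit 0x101850b153fd1) (nat_lit 1033))
)))))))))) (.node (nat_lit 0x1038101010301) (.node (nat_lit 0x1030501010101) (.node (nat_lit 0x1030109010101) (.node (nat_lit 0x1030103010181) (.node (nat_lit 0x1030101110101) (.node (nat_lit 0x1030101051101) (.node (nat_lit 0x1030101012101) (.node (nat_lit 0x1030101010901) (.node (nat_lit 0x1030101010511) (.node (nat_lit 0x1030101010141) (.leaf (nat_lit 0x1030101010101) (nat_lit 259))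
 (.leaf (nat_lit 0x1030101010141) (nat_lit 1028))
) (.node (nat_lit 0x1030101010551) (.leaf (nat_lit 0x1030101010511) (nat_lit 1032))
 (.leaf (nat_lit 0x1030101010551) (nat_lit 1287))
)) (.node (nat_lit 0x1030101010d11) (.node (nat_lit 0x1030101010941) (.leaf (nat_lit 0x1030101010901) (nat_lit 522))
 (.leaf (nat_lit 0x1030101010941) (nat_lit 1288))
) (.node (nat_lit 0x1030101010d51) (.leaf (nat_lit 0x1030101010d11) (nat_lit 1290))
 (.leaf (nat_lit 0x1030101010d51) (nat_lit 1543))
))) (.node (nat_lit 0x1030101012901) (.node (nat_lit 0x1030101012511) (.node (nat_lit 0x1030101012141) (.leaf (nat_lit 0x1030101012101) (nat_lit 515))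
 (.leaf (nat_lit 0x1030101012141) (nat_lit 772))
) (.node (nat_lit 0x1030101012551) (.leaf (nat_lit 0x1030101012511) (nat_lit 1032))
 (.leaf (nat_lit 0x1030101012551) (nat_lit 1287))
)) (.node (nat_lit 0x1030101012d11) (.node (nat_lit 0x1030101012941) (.leaf (nat_lit 0x1030101012901) (nat_lit 778))
 (.leaf (nat_lit 0x1030101012941) (nat_lit 1034))
) (.node (nat_lit 0x1030101012d51) (.leaf (nat_lit 0x1030101012d11) (nat_lit 1290))
 (.leaf (nat_lit 0x1030101012d51) (nat_lit 1546))
)))) (.node (nat_lit 0x1030101053101) (.node (nat_lit 0x1030101051901) (.node (nat_lit 0x1030101051511) (.node (nat_lit 0x1030101051141) (.leaf (nat_lit 0x1030101051101) (nat_lit 778))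
 (.leaf (nat_lit 0x1030101051141) (nat_lit 1290))
) (.node (nat_lit 0x1030101051551) (.leaf (nat_lit 0x1030101051511) (nat_lit 1034))
 (.leaf (nat_lit 0x1030101051551) (nat_lit 1290))
)) (.node (nat_lit 0x1030101051d11) (.node (nat_lit 0x1030101051941) (.leaf (nat_lit 0x1030101051901) (nat_lit 515))
 (.leaf (nat_lit 0x1030101051941) (nat_lit 1030))
) (.node (nat_lit 0x1030101051d51) (.leaf (nat_lit 0x1030101051d11) (nat_lit 776))
 (.leaf (nat_lit 0x1030101051d51) (nat_lit 1031))
))) (.node (nat_lit 0x1030101053901) (.node (nat_lit 0x1030101053511) (.node (nat_lit 0x1030101053141) (.leaf (nat_lit 0x1030101053101) (nat_lit 778))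
 (.leaf (nat_lit 0x1030101053141) (nat_lit 1290))
) (.node (nat_lit 0x1030101053551) (.leaf (nat_lit 0x1030101053511) (nat_lit 1034))
 (.leaf (nat_lit 0x1030101053551) (nat_lit 1287))
)) (.node (nat_lit 0x1030101053d11) (.node (nat_lit 0x1030101053941) (.leaf (nat_lit 0x1030101053901) (nat_lit 518))
 (.leaf (nat_lit 0x1030101053941) (nat_lit 1027))
) (.node (nat_lit 0x1030101053d51) (.leaf (nat_lit 0x1030101053d11) (nat_lit 776))
 (.leaf (nat_lit 0x1030101053d51) (nat_lit 1024))
))))) (.node (nat_lit 0x1030101151101) (.node (nat_lit 0x1030101112101) (.node (nat_lit 0x1030101110901) (.node (nat_lit 0x1030101110511) (.node (nat_lit 0x1030101110141) (.leaf (nat_lit 0x1030101110101) (nat_lit 771))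
 (.leaf (nat_lit 0x1030101110141) (nat_lit 516))
) (.node (nat_lit 0x1030101110551) (.leaf (nat_lit 0x1030101110511) (nat_lit 1288))
 (.leaf (nat_lit 0x1030101110551) (nat_lit 1288))
)) (.node (nat_lit 0x1030101110d11) (.node (nat_lit 0x1030101110941) (.leaf (nat_lit 0x1030101110901) (nat_lit 1034))
 (.leaf (nat_lit 0x1030101110941) (nat_lit 778))
) (.node (nat_lit 0x1030101110d51) (.leaf (nat_lit 0x1030101110d11) (nat_lit 1544))
 (.leaf (nat_lit 0x1030101110d51) (nat_lit 1543))
))) (.node (nat_lit 0x1030101112901) (.node (nat_lit 0x1030101112511) (.node (nat_lit 0x1030101112141) (.leaf (nat_lit 0x1030101112101) (nat_lit 515))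
 (.leaf (nat_lit 0x1030101112141) (nat_lit 772))
) (.node (nat_lit 0x1030101112551) (.leaf (nat_lit 0x1030101112511) (nat_lit 1288))
 (.leaf (nat_lit 0x1030101112551) (nat_lit 1287))
)) (.node (nat_lit 0x1030101112d11) (.node (nat_lit 0x1030101112941) (.leaf (nat_lit 0x1030101112901) (nat_lit 778))
 (.leaf (nat_lit 0x1030101112941) (nat_lit 1034))
) (.node (nat_lit 0x1030101112d51) (.leaf (nat_lit 0x1030101112d11) (nat_lit 1546))
 (.leaf (nat_lit 0x1030101112d51) (nat_lit 1546))
)))) (.node (nat_lit 0x1030101153101) (.node (nat_lit 0x1030101151901) (.node (nat_lit 0x1030101151511) (.node (nat_lit 0x1030101151141) (.leaf (nat_lit 0x1030101151101) (nat_lit 1034))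
 (.leaf (nat_lit 0x1030101151141) (nat_lit 1034))
) (.node (nat_lit 0x1030101151551) (.leaf (nat_lit 0x1030101151511) (nat_lit 1290))
 (.leaf (nat_lit 0x1030101151551) (nat_lit 1290))
)) (.node (nat_lit 0x1030101151d11) (.node (nat_lit 0x1030101151941) (.leaf (nat_lit 0x1030101151901) (nat_lit 774))
 (.leaf (nat_lit 0x1030101151941) (nat_lit 771))
) (.node (nat_lit 0x1030101151d51) (.leaf (nat_lit 0x1030101151d11) (nat_lit 1032))
 (.leaf (nat_lit 0x1030101151d51) (nat_lit 1032))
))) (.node (nat_lit 0x1030101153901) (.node (nat_lit 0x1030101153511) (.node (nat_lit 0x1030101153141) (.leaf (nat_lit 0x1030101153101) (nat_lit 1034))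
 (.leaf (nat_lit 0x1030101153141) (nat_lit 1034))
) (.node (nat_lit 0x1030101153551) (.leaf (nat_lit 0x1030101153511) (nat_lit 1288))
 (.leaf (nat_lit 0x1030101153551) (nat_lit 1290))
)) (.node (nat_lit 0x1030101153d11) (.node (nat_lit 0x1030101153941) (.leaf (nat_lit 0x1030101153901) (nat_lit 771))
 (.leaf (nat_lit 0x1030101153941) (nat_lit 774))
) (.node (nat_lit 0x1030101153d51) (.leaf (nat_lit 0x1030101153d11) (nat_lit 1032))
 (.leaf (nat_lit 0x1030101153d51) (nat_lit 1032))
)))))) (.node (nat_lit 0x1030103110181) (.node (nat_lit 0x1030103051181) (.node (nat_lit 0x1030103012181) (.node (nat_lit 0x1030103010981) (.node (nat_lit 0x1030103010591) (.node (nat_lit 0x10301030101c1) (.leaf (nat_lit 0x1030103010181) (nat_lit 1034))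
 (.leaf (nat_lit 0x10301030101c1) (nat_lit 1290))
) (.node (nat_lit 0x10301030105d1) (.leaf (nat_lit 0x1030103010591) (nat_lit 1033))
 (.leaf (nat_lit 0x10301030105d1) (nat_lit 1545))
)) (.node (nat_lit 0x1030103010d91) (.node (nat_lit 0x10301030109c1) (.leaf (nat_lit 0x1030103010981) (nat_lit 777))
 (.leaf (nat_lit 0x10301030109c1) (nat_lit 1033))
) (.node (nat_lit 0x1030103010dd1) (.leaf (nat_lit 0x1030103010d91) (nat_lit 1290))
 (.leaf (nat_lit 0x1030103010dd1) (nat_lit 1802))
))) (.node (nat_lit 0x1030103012981) (.node (nat_lit 0x1030103012591) (.node (nat_lit 0x10301030121c1) (.leaf (nat_lit 0x1030103012181) (nat_lit 1290))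
 (.leaf (nat_lit 0x10301030121c1) (nat_lit 1289))
) (.node (nat_lit 0x10301030125d1) (.leaf (nat_lit 0x1030103012591) (nat_lit 1033))
 (.leaf (nat_lit 0x10301030125d1) (nat_lit 1545))
)) (.node (nat_lit 0x1030103012d91) (.node (nat_lit 0x10301030129c1) (.leaf (nat_lit 0x1030103012981) (nat_lit 1033))
 (.leaf (nat_lit 0x10301030129c1) (nat_lit 1024))
) (.node (nat_lit 0x1030103012dd1) (.leaf (nat_lit 0x1030103012d91) (nat_lit 1290))
 (.leaf (nat_lit 0x1030103012dd1) (nat_lit 1801))
)))) (.node (nat_lit 0x1030103053181) (.node (nat_lit 0x1030103051981) (.node (nat_lit 0x1030103051591) (.node (nat_lit 0x10301030511c1) (.leaf (nat_lit 0x1030103051181) (nat_lit 1033))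
 (.leaf (nat_lit 0x10301030511c1) (nat_lit 1289))
) (.node (nat_lit 0x10301030515d1) (.leaf (nat_lit 0x1030103051591) (nat_lit 1034))
 (.leaf (nat_lit 0x10301030515d1) (nat_lit 1545))
)) (.node (nat_lit 0x1030103051d91) (.node (nat_lit 0x10301030519c1) (.leaf (nat_lit 0x1030103051981) (nat_lit 1290))
 (.leaf (nat_lit 0x10301030519c1) (nat_lit 1545))
) (.node (nat_lit 0x1030103051dd1) (.leaf (nat_lit 0x1030103051d91) (nat_lit 777))
 (.leaf (nat_lit 0x1030103051dd1) (nat_lit 1289))
))) (.node (nat_lit 0x1030103053981) (.node (nat_lit 0x1030103053591) (.node (nat_lit 0x10301030531c1) (.leaf (nat_lit 0x1030103053181) (nat_lit 1033))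
 (.leaf (nat_lit 0x10301030531c1) (nat_lit 1289))
) (.node (nat_lit 0x10301030535d1) (.leaf (nat_lit 0x1030103053591) (nat_lit 1034))
 (.leaf (nat_lit 0x10301030535d1) (nat_lit 1546))
)) (.node (nat_lit 0x1030103053d91) (.node (nat_lit 0x10301030539c1) (.leaf (nat_lit 0x1030103053981) (nat_lit 1290))
 (.leaf (nat_lit 0x10301030539c1) (nat_lit 1546))
) (.node (nat_lit 0x1030103053dd1) (.leaf (nat_lit 0x1030103053d91) (nat_lit 777))
 (.leaf (nat_lit 0x1030103053dd1) (nat_lit 1289))
))))) (.node (nat_lit 0x1030103151181) (.node (nat_lit 0x1030103112181) (.node (nat_lit 0x1030103110981) (.node (nat_lit 0x1030103110591) (.node (nat_lit 0x10301031101c1) (.leaf (nat_lit 0x1030103110181) (nat_lit 1290))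
 (.leaf (nat_lit 0x10301031101c1) (nat_lit 1290))
) (.node (nat_lit 0x10301031105d1) (.leaf (nat_lit 0x1030103110591) (nat_lit 1289))
 (.leaf (nat_lit 0x10301031105d1) (nat_lit 1289))
)) (.node (nat_lit 0x1030103110d91) (.node (nat_lit 0x10301031109c1) (.leaf (nat_lit 0x1030103110981) (nat_lit 1033))
 (.leaf (nat_lit 0x10301031109c1) (nat_lit 1033))
) (.node (nat_lit 0x1030103110dd1) (.leaf (nat_lit 0x1030103110d91) (nat_lit 1545))
 (.leaf (nat_lit 0x1030103110dd1) (nat_lit 1546))
))) (.node (nat_lit 0x1030103112981) (.node (nat_lit 0x1030103112591) (.node (nat_lit 0x10301031121c1) (.leaf (nat_lit 0x1030103112181) (nat_lit 1290))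
 (.leaf (nat_lit 0x10301031121c1) (nat_lit 1290))
) (.node (nat_lit 0x10301031125d1) (.leaf (nat_lit 0x1030103112591) (nat_lit 1289))
 (.leaf (nat_lit 0x10301031125d1) (nat_lit 1289))
)) (.node (nat_lit 0x1030103112d91) (.node (nat_lit 0x10301031129c1) (.leaf (nat_lit 0x1030103112981) (nat_lit 1033))
 (.leaf (nat_lit 0x10301031129c1) (nat_lit 1033))
) (.node (nat_lit 0x1030103112dd1) (.leaf (nat_lit 0x1030103112d91) (nat_lit 1546))
 (.leaf (nat_lit 0x1030103112dd1) (nat_lit 1546))
)))) (.node (nat_lit 0x1030103153181) (.node (nat_lit 0x1030103151981) (.node (nat_lit 0x1030103151591) (.node (nat_lit 0x10301031511c1) (.leaf (nat_lit 0x1030103151181) (nat_lit 1289))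
 (.leaf (nat_lit 0x10301031511c1) (nat_lit 1289))
) (.node (nat_lit 0x10301031515d1) (.leaf (nat_lit 0x1030103151591) (nat_lit 1290))
 (.leaf (nat_lit 0x10301031515d1) (nat_lit 1290))
)) (.node (nat_lit 0x1030103151d91) (.node (nat_lit 0x10301031519c1) (.leaf (nat_lit 0x1030103151981) (nat_lit 1546))
 (.leaf (nat_lit 0x10301031519c1) (nat_lit 1545))
) (.node (nat_lit 0x1030103151dd1) (.leaf (nat_lit 0x1030103151d91) (nat_lit 1033))
 (.leaf (nat_lit 0x1030103151dd1) (nat_lit 1033))
))) (.node (nat_lit 0x1030103153981) (.node (nat_lit 0x1030103153591) (.node (nat_lit 0x10301031531c1) (.leaf (nat_lit 0x1030103153181) (nat_lit 1289))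
 (.leaf (nat_lit 0x10301031531c1) (nat_lit 1289))
) (.node (nat_lit 0x10301031535d1) (.leaf (nat_lit 0x1030103153591) (nat_lit 1289))
 (.leaf (nat_lit 0x10301031535d1) (nat_lit 1290))
)) (.node (nat_lit 0x1030103153d91) (.node (nat_lit 0x10301031539c1) (.leaf (nat_lit 0x1030103153981) (nat_lit 1546))
 (.leaf (nat_lit 0x10301031539c1) (nat_lit 1546))
) (.node (nat_lit 0x1030103153dd1) (.leaf (nat_lit 0x1030103153d91) (nat_lit 1033))
 (.leaf (nat_lit 0x1030103153dd1) (nat_lit 1033))
))))))) (.node (nat_lit 0x103010b010181) (.node (nat_lit 0x1030109110101) (.node (nat_lit 0x1030109051101) (.node (nat_lit 0x1030109012101) (.node (nat_lit 0x1030109010901) (.node (nat_lit 0x1030109010511) (.node (nat_lit 0x1030109010141) (.leaf (nat_lit 0x1030109010101) (nat_lit 517))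
 (.leaf (nat_lit 0x1030109010141) (nat_lit 1289))
) (.node (nat_lit 0x1030109010551) (.leaf (nat_lit 0x1030109010511) (nat_lit 1285))
 (.leaf (nat_lit 0x1030109010551) (nat_lit 1543))
)) (.node (nat_lit 0x1030109010d11) (.node (nat_lit 0x1030109010941) (.leaf (nat_lit 0x1030109010901) (nat_lit 778))
 (.leaf (nat_lit 0x1030109010941) (nat_lit 1289))
) (.node (nat_lit 0x1030109010d51) (.leaf (nat_lit 0x1030109010d11) (nat_lit 1546))
 (.leaf (nat_lit 0x1030109010d51) (nat_lit 1802))
))) (.node (nat_lit 0x1030109012901) (.node (nat_lit 0x1030109012511) (.node (nat_lit 0x1030109012141) (.leaf (nat_lit 0x1030109012101) (nat_lit 773))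
 (.leaf (nat_lit 0x1030109012141) (nat_lit 1033))
) (.node (nat_lit 0x1030109012551) (.leaf (nat_lit 0x1030109012511) (nat_lit 1288))
 (.leaf (nat_lit 0x1030109012551) (nat_lit 1543))
)) (.node (nat_lit 0x1030109012d11) (.node (nat_lit 0x1030109012941) (.leaf (nat_lit 0x1030109012901) (nat_lit 1034))
 (.leaf (nat_lit 0x1030109012941) (nat_lit 1290))
) (.node (nat_lit 0x1030109012d51) (.leaf (nat_lit 0x1030109012d11) (nat_lit 1546))
 (.leaf (nat_lit 0x1030109012d51) (nat_lit 1799))
)))) (.node (nat_lit 0x1030109053101) (.node (nat_lit 0x1030109051901) (.node (nat_lit 0x1030109051511) (.node (nat_lit 0x1030109051141) (.leaf (nat_lit 0x1030109051101) (nat_lit 1034))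
 (.leaf (nat_lit 0x1030109051141) (nat_lit 1546))
) (.node (nat_lit 0x1030109051551) (.leaf (nat_lit 0x1030109051511) (nat_lit 1290))
 (.leaf (nat_lit 0x1030109051551) (nat_lit 1543))
)) (.node (nat_lit 0x1030109051d11) (.node (nat_lit 0x1030109051941) (.leaf (nat_lit 0x1030109051901) (nat_lit 771))
 (.leaf (nat_lit 0x1030109051941) (nat_lit 1289))
) (.node (nat_lit 0x1030109051d51) (.leaf (nat_lit 0x1030109051d11) (nat_lit 1032))
 (.leaf (nat_lit 0x1030109051d51) (nat_lit 1287))
))) (.node (nat_lit 0x1030109053901) (.node (nat_lit 0x1030109053511) (.node (nat_lit 0x1030109053141) (.leaf (nat_lit 0x1030109053101) (nat_lit 1034))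
 (.leaf (nat_lit 0x1030109053141) (nat_lit 1545))
) (.node (nat_lit 0x1030109053551) (.leaf (nat_lit 0x1030109053511) (nat_lit 1290))
 (.leaf (nat_lit 0x1030109053551) (nat_lit 1546))
)) (.node (nat_lit 0x1030109053d11) (.node (nat_lit 0x1030109053941) (.leaf (nat_lit 0x1030109053901) (nat_lit 774))
 (.leaf (nat_lit 0x1030109053941) (nat_lit 1283))
) (.node (nat_lit 0x1030109053d51) (.leaf (nat_lit 0x1030109053d11) (nat_lit 1029))
 (.leaf (nat_lit 0x1030109053d51) (nat_lit 1287))
))))) (.node (nat_lit 0x1030109151101) (.node (nat_lit 0x1030109112101) (.node (nat_lit 0x1030109110901) (.node (nat_lit 0x1030109110511) (.node (nat_lit 0x1030109110141) (.leaf (nat_lit 0x1030109110101) (nat_lit 1029))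
 (.leaf (nat_lit 0x1030109110141) (nat_lit 773))
) (.node (nat_lit 0x1030109110551) (.leaf (nat_lit 0x1030109110511) (nat_lit 1544))
 (.leaf (nat_lit 0x1030109110551) (nat_lit 1543))
)) (.node (nat_lit 0x1030109110d11) (.node (nat_lit 0x1030109110941) (.leaf (nat_lit 0x1030109110901) (nat_lit 1290))
 (.leaf (nat_lit 0x1030109110941) (nat_lit 1034))
) (.node (nat_lit 0x1030109110d51) (.leaf (nat_lit 0x1030109110d11) (nat_lit 1802))
 (.leaf (nat_lit 0x1030109110d51) (nat_lit 1802))
))) (.node (nat_lit 0x1030109112901) (.node (nat_lit 0x1030109112511) (.node (nat_lit 0x1030109112141) (.leaf (nat_lit 0x1030109112101) (nat_lit 773))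
 (.leaf (nat_lit 0x1030109112141) (nat_lit 1029))
) (.node (nat_lit 0x1030109112551) (.leaf (nat_lit 0x1030109112511) (nat_lit 1541))
 (.leaf (nat_lit 0x1030109112551) (nat_lit 1543))
)) (.node (nat_lit 0x1030109112d11) (.node (nat_lit 0x1030109112941) (.leaf (nat_lit 0x1030109112901) (nat_lit 1034))
 (.leaf (nat_lit 0x1030109112941) (nat_lit 1290))
) (.node (nat_lit 0x1030109112d51) (.leaf (nat_lit 0x1030109112d11) (nat_lit 1800))
 (.leaf (nat_lit 0x1030109112d51) (nat_lit 1799))
)))) (.node (nat_lit 0x1030109153101) (.node (nat_lit 0x1030109151901) (.node (nat_lit 0x1030109151511) (.node (nat_lit 0x1030109151141) (.leaf (nat_lit 0x1030109151101) (nat_lit 1290))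
 (.leaf (nat_lit 0x1030109151141) (nat_lit 1290))
) (.node (nat_lit 0x1030109151551) (.leaf (nat_lit 0x1030109151511) (nat_lit 1544))
 (.leaf (nat_lit 0x1030109151551) (nat_lit 1546))
)) (.node (nat_lit 0x1030109151d11) (.node (nat_lit 0x1030109151941) (.leaf (nat_lit 0x1030109151901) (nat_lit 1030))
 (.leaf (nat_lit 0x1030109151941) (nat_lit 1027))
) (.node (nat_lit 0x1030109151d51) (.leaf (nat_lit 0x1030109151d11) (nat_lit 1285))
 (.leaf (nat_lit 0x1030109151d51) (nat_lit 1288))
))) (.node (nat_lit 0x1030109153901) (.node (nat_lit 0x1030109153511) (.node (nat_lit 0x1030109153141) (.leaf (nat_lit 0x1030109153101) (nat_lit 1290))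
 (.leaf (nat_lit 0x1030109153141) (nat_lit 1290))
) (.node (nat_lit 0x1030109153551) (.leaf (nat_lit 0x1030109153511) (nat_lit 1546))
 (.leaf (nat_lit 0x1030109153551) (nat_lit 1546))
)) (.node (nat_lit 0x1030109153d11) (.node (nat_lit 0x1030109153941) (.leaf (nat_lit 0x1030109153901) (nat_lit 1027))
 (.leaf (nat_lit 0x1030109153941) (nat_lit 1030))
) (.node (nat_lit 0x1030109153d51) (.leaf (nat_lit 0x1030109153d11) (nat_lit 1288))
 (.leaf (nat_lit 0x1030109153d51) (nat_lit 1285))
)))))) (.node (nat_lit 0x103010b110181) (.node (nat_lit 0x103010b051181) (.node (nat_lit 0x103010b012181) (.node (nat_lit 0x103010b010981) (.node (nat_lit 0x103010b010591) (.node (nat_lit 0x103010b0101c1) (.leaf (nat_lit 0x103010b010181) (nat_lit 1290))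
 (.leaf (nat_lit 0x103010b0101c1) (nat_lit 1290))
) (.node (nat_lit 0x103010b0105d1) (.leaf (nat_lit 0x103010b010591) (nat_lit 1285))
 (.leaf (nat_lit 0x103010b0105d1) (nat_lit 1287))
)) (.node (nat_lit 0x103010b010d91) (.node (nat_lit 0x103010b0109c1) (.leaf (nat_lit 0x103010b010981) (nat_lit 1033))
 (.leaf (nat_lit 0x103010b0109c1) (nat_lit 1032))
) (.node (nat_lit 0x103010b010dd1) (.leaf (nat_lit 0x103010b010d91) (nat_lit 1546))
 (.leaf (nat_lit 0x103010b010dd1) (nat_lit 1543))
))) (.node (nat_lit 0x103010b012981) (.node (nat_lit 0x103010b012591) (.node (nat_lit 0x103010b0121c1) (.leaf (nat_lit 0x103010b012181) (nat_lit 1290))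
 (.leaf (nat_lit 0x103010b0121c1) (nat_lit 1288))
) (.node (nat_lit 0x103010b0125d1) (.leaf (nat_lit 0x103010b012591) (nat_lit 1289))
 (.leaf (nat_lit 0x103010b0125d1) (nat_lit 1287))
)) (.node (nat_lit 0x103010b012d91) (.node (nat_lit 0x103010b0129c1) (.leaf (nat_lit 0x103010b012981) (nat_lit 1033))
 (.leaf (nat_lit 0x103010b0129c1) (nat_lit 1024))
) (.node (nat_lit 0x103010b012dd1) (.leaf (nat_lit 0x103010b012d91) (nat_lit 1546))
 (.leaf (nat_lit 0x103010b012dd1) (nat_lit 1546))
)))) (.node (nat_lit 0x103010b053181) (.node (nat_lit 0x103010b051981) (.node (nat_lit 0x103010b051591) (.node (nat_lit 0x103010b0511c1) (.leaf (nat_lit 0x103010b051181) (nat_lit 1289))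
 (.leaf (nat_lit 0x103010b0511c1) (nat_lit 1288))
) (.node (nat_lit 0x103010b0515d1) (.leaf (nat_lit 0x103010b051591) (nat_lit 1290))
 (.leaf (nat_lit 0x103010b0515d1) (nat_lit 1290))
)) (.node (nat_lit 0x103010b051d91) (.node (nat_lit 0x103010b0519c1) (.leaf (nat_lit 0x103010b051981) (nat_lit 1546))
 (.leaf (nat_lit 0x103010b0519c1) (nat_lit 1544))
) (.node (nat_lit 0x103010b051dd1) (.leaf (nat_lit 0x103010b051d91) (nat_lit 1033))
 (.leaf (nat_lit 0x103010b051dd1) (nat_lit 1031))
))) (.node (nat_lit 0x103010b053981) (.node (nat_lit 0x103010b053591) (.node (nat_lit 0x103010b0531c1) (.leaf (nat_lit 0x103010b053181) (nat_lit 1289))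
 (.leaf (nat_lit 0x103010b0531c1) (nat_lit 1288))
) (.node (nat_lit 0x103010b0535d1) (.leaf (nat_lit 0x103010b053591) (nat_lit 1290))
 (.leaf (nat_lit 0x103010b0535d1) (nat_lit 1287))
)) (.node (nat_lit 0x103010b053d91) (.node (nat_lit 0x103010b0539c1) (.leaf (nat_lit 0x103010b053981) (nat_lit 1546))
 (.leaf (nat_lit 0x103010b0539c1) (nat_lit 1546))
) (.node (nat_lit 0x103010b053dd1) (.leaf (nat_lit 0x103010b053d91) (nat_lit 1029))
 (.leaf (nat_lit 0x103010b053dd1) (nat_lit 1024))
))))) (.node (nat_lit 0x103010b151181) (.node (nat_lit 0x103010b112181) (.node (nat_lit 0x103010b110981) (.node (nat_lit 0x103010b110591) (.node (nat_lit 0x103010b1101c1) (.leaf (nat_lit 0x103010b110181) (nat_lit 1544))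
 (.leaf (nat_lit 0x103010b1101c1) (nat_lit 1544))
) (.node (nat_lit 0x103010b1105d1) (.leaf (nat_lit 0x103010b110591) (nat_lit 1543))
 (.leaf (nat_lit 0x103010b1105d1) (nat_lit 1543))
)) (.node (nat_lit 0x103010b110d91) (.node (nat_lit 0x103010b1109c1) (.leaf (nat_lit 0x103010b110981) (nat_lit 1284))
 (.leaf (nat_lit 0x103010b1109c1) (nat_lit 1288))
) (.node (nat_lit 0x103010b110dd1) (.leaf (nat_lit 0x103010b110d91) (nat_lit 1802))
 (.leaf (nat_lit 0x103010b110dd1) (nat_lit 1543))
))) (.node (nat_lit 0x103010b112981) (.node (nat_lit 0x103010b112591) (.node (nat_lit 0x103010b1121c1) (.leaf (nat_lit 0x103010b112181) (nat_lit 1546))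
 (.leaf (nat_lit 0x103010b1121c1) (nat_lit 1546))
) (.node (nat_lit 0x103010b1125d1) (.leaf (nat_lit 0x103010b112591) (nat_lit 1541))
 (.leaf (nat_lit 0x103010b1125d1) (nat_lit 1287))
)) (.node (nat_lit 0x103010b112d91) (.node (nat_lit 0x103010b1129c1) (.leaf (nat_lit 0x103010b112981) (nat_lit 1288))
 (.leaf (nat_lit 0x103010b1129c1) (nat_lit 1288))
) (.node (nat_lit 0x103010b112dd1) (.leaf (nat_lit 0x103010b112d91) (nat_lit 1799))
 (.leaf (nat_lit 0x103010b112dd1) (nat_lit 1546))
)))) (.node (nat_lit 0x103010b153181) (.node (nat_lit 0x103010b151981) (.node (nat_lit 0x103010b151591) (.node (nat_lit 0x103010b1511c1) (.leaf (nat_lit 0x103010b151181) (nat_lit 1544))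
 (.leaf (nat_lit 0x103010b1511c1) (nat_lit 1544))
) (.node (nat_lit 0x103010b1515d1) (.leaf (nat_lit 0x103010b151591) (nat_lit 1543))
 (.leaf (nat_lit 0x103010b1515d1) (nat_lit 1543))
)) (.node (nat_lit 0x103010b151d91) (.node (nat_lit 0x103010b1519c1) (.leaf (nat_lit 0x103010b151981) (nat_lit 1792))
 (.leaf (nat_lit 0x103010b1519c1) (nat_lit 1544))
) (.node (nat_lit 0x103010b151dd1) (.leaf (nat_lit 0x103010b151d91) (nat_lit 1285))
 (.leaf (nat_lit 0x103010b151dd1) (nat_lit 1280))
))) (.node (nat_lit 0x103010b153981) (.node (nat_lit 0x103010b153591) (.node (nat_lit 0x103010b1531c1) (.leaf (nat_lit 0x103010b153181) (nat_lit 1536))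
 (.leaf (nat_lit 0x103010b1531c1) (nat_lit 1288))
) (.node (nat_lit 0x103010b1535d1) (.leaf (nat_lit 0x103010b153591) (nat_lit 1546))
 (.leaf (nat_lit 0x103010b1535d1) (nat_lit 1546))
)) (.node (nat_lit 0x103010b153d91) (.node (nat_lit 0x103010b1539c1) (.leaf (nat_lit 0x103010b153981) (nat_lit 1802))
 (.leaf (nat_lit 0x103010b1539c1) (nat_lit 1546))
) (.node (nat_lit 0x103010b153dd1) (.leaf (nat_lit 0x103010b153d91) (nat_lit 1287))
 (.leaf (nat_lit 0x103010b153dd1) (nat_lit 1287))
)))))))) (.node (nat_lit 0x1030509010101) (.node (nat_lit 0x1030503010181) (.node (nat_lit 0x1030501110101) (.node (nat_lit 0x1030501051101) (.node (nat_lit 0x1030501012101) (.node (nat_lit 0x1030501010901) (.node (nat_lit 0x1030501010511) (.node (nat_lit 0x1030501010141) (.leaf (nat_lit 0x1030501010101) (nat_lit 515))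
 (.leaf (nat_lit 0x1030501010141) (nat_lit 1032))
) (.node (nat_lit 0x1030501010551) (.leaf (nat_lit 0x1030501010511) (nat_lit 1287))
 (.leaf (nat_lit 0x1030501010551) (nat_lit 1288))
)) (.node (nat_lit 0x1030501010d11) (.node (nat_lit 0x1030501010941) (.leaf (nat_lit 0x1030501010901) (nat_lit 768))
 (.leaf (nat_lit 0x1030501010941) (nat_lit 1034))
) (.node (nat_lit 0x1030501010d51) (.leaf (nat_lit 0x1030501010d11) (nat_lit 1290))
 (.leaf (nat_lit 0x1030501010d51) (nat_lit 1290))
))) (.node (nat_lit 0x1030501012901) (.node (nat_lit 0x1030501012511) (.node (nat_lit 0x1030501012141) (.leaf (nat_lit 0x1030501012101) (nat_lit 771))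
 (.leaf (nat_lit 0x1030501012141) (nat_lit 776))
) (.node (nat_lit 0x1030501012551) (.leaf (nat_lit 0x1030501012511) (nat_lit 1031))
 (.leaf (nat_lit 0x1030501012551) (nat_lit 1032))
)) (.node (nat_lit 0x1030501012d11) (.node (nat_lit 0x1030501012941) (.leaf (nat_lit 0x1030501012901) (nat_lit 778))
 (.leaf (nat_lit 0x1030501012941) (nat_lit 1032))
) (.node (nat_lit 0x1030501012d51) (.leaf (nat_lit 0x1030501012d11) (nat_lit 1287))
 (.leaf (nat_lit 0x1030501012d51) (nat_lit 1288))
)))) (.node (nat_lit 0x1030501053101) (.node (nat_lit 0x1030501051901) (.node (nat_lit 0x1030501051511) (.node (nat_lit 0x1030501051141) (.leaf (nat_lit 0x1030501051101) (nat_lit 1034))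
 (.leaf (nat_lit 0x1030501051141) (nat_lit 1290))
) (.node (nat_lit 0x1030501051551) (.leaf (nat_lit 0x1030501051511) (nat_lit 1287))
 (.leaf (nat_lit 0x1030501051551) (nat_lit 1034))
)) (.node (nat_lit 0x1030501051d11) (.node (nat_lit 0x1030501051941) (.leaf (nat_lit 0x1030501051901) (nat_lit 771))
 (.leaf (nat_lit 0x1030501051941) (nat_lit 1030))
) (.node (nat_lit 0x1030501051d51) (.leaf (nat_lit 0x1030501051d11) (nat_lit 1031))
 (.leaf (nat_lit 0x1030501051d51) (nat_lit 1032))
))) (.node (nat_lit 0x1030501053901) (.node (nat_lit 0x1030501053511) (.node (nat_lit 0x1030501053141) (.leaf (nat_lit 0x1030501053101) (nat_lit 1024))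
 (.leaf (nat_lit 0x1030501053141) (nat_lit 1290))
) (.node (nat_lit 0x1030501053551) (.leaf (nat_lit 0x1030501053511) (nat_lit 1290))
 (.leaf (nat_lit 0x1030501053551) (nat_lit 1032))
)) (.node (nat_lit 0x1030501053d11) (.node (nat_lit 0x1030501053941) (.leaf (nat_lit 0x1030501053901) (nat_lit 768))
 (.leaf (nat_lit 0x1030501053941) (nat_lit 1027))
) (.node (nat_lit 0x1030501053d51) (.leaf (nat_lit 0x1030501053d11) (nat_lit 1024))
 (.leaf (nat_lit 0x1030501053d51) (nat_lit 776))
))))) (.node (nat_lit 0x1030501151101) (.node (nat_lit 0x1030501112101) (.node (nat_lit 0x1030501110901) (.node (nat_lit 0x1030501110511) (.node (nat_lit 0x1030501110141) (.leaf (nat_lit 0x1030501110101) (nat_lit 1027))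
 (.leaf (nat_lit 0x1030501110141) (nat_lit 772))
) (.node (nat_lit 0x1030501110551) (.leaf (nat_lit 0x1030501110511) (nat_lit 1287))
 (.leaf (nat_lit 0x1030501110551) (nat_lit 1288))
)) (.node (nat_lit 0x1030501110d11) (.node (nat_lit 0x1030501110941) (.leaf (nat_lit 0x1030501110901) (nat_lit 1034))
 (.leaf (nat_lit 0x1030501110941) (nat_lit 1024))
) (.node (nat_lit 0x1030501110d51) (.leaf (nat_lit 0x1030501110d11) (nat_lit 1290))
 (.leaf (nat_lit 0x1030501110d51) (nat_lit 1290))
))) (.node (nat_lit 0x1030501112901) (.node (nat_lit 0x1030501112511) (.node (nat_lit 0x1030501112141) (.leaf (nat_lit 0x1030501112101) (nat_lit 771))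
 (.leaf (nat_lit 0x1030501112141) (nat_lit 1028))
) (.node (nat_lit 0x1030501112551) (.leaf (nat_lit 0x1030501112511) (nat_lit 1031))
 (.leaf (nat_lit 0x1030501112551) (nat_lit 1032))
)) (.node (nat_lit 0x1030501112d11) (.node (nat_lit 0x1030501112941) (.leaf (nat_lit 0x1030501112901) (nat_lit 1024))
 (.leaf (nat_lit 0x1030501112941) (nat_lit 1034))
) (.node (nat_lit 0x1030501112d51) (.leaf (nat_lit 0x1030501112d11) (nat_lit 1287))
 (.leaf (nat_lit 0x1030501112d51) (nat_lit 1288))
)))) (.node (nat_lit 0x1030501153101) (.node (nat_lit 0x1030501151901) (.node (nat_lit 0x1030501151511) (.node (nat_lit 0x1030501151141) (.leaf (nat_lit 0x1030501151101) (nat_lit 1034))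
 (.leaf (nat_lit 0x1030501151141) (nat_lit 1290))
) (.node (nat_lit 0x1030501151551) (.leaf (nat_lit 0x1030501151511) (nat_lit 1034))
 (.leaf (nat_lit 0x1030501151551) (nat_lit 1290))
)) (.node (nat_lit 0x1030501151d11) (.node (nat_lit 0x1030501151941) (.leaf (nat_lit 0x1030501151901) (nat_lit 774))
 (.leaf (nat_lit 0x1030501151941) (nat_lit 1027))
) (.node (nat_lit 0x1030501151d51) (.leaf (nat_lit 0x1030501151d11) (nat_lit 1031))
 (.leaf (nat_lit 0x1030501151d51) (nat_lit 1032))
))) (.node (nat_lit 0x1030501153901) (.node (nat_lit 0x1030501153511) (.node (nat_lit 0x1030501153141) (.leaf (nat_lit 0x1030501153101) (nat_lit 1034))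
 (.leaf (nat_lit 0x1030501153141) (nat_lit 1280))
) (.node (nat_lit 0x1030501153551) (.leaf (nat_lit 0x1030501153511) (nat_lit 1031))
 (.leaf (nat_lit 0x1030501153551) (nat_lit 1290))
)) (.node (nat_lit 0x1030501153d11) (.node (nat_lit 0x1030501153941) (.leaf (nat_lit 0x1030501153901) (nat_lit 771))
 (.leaf (nat_lit 0x1030501153941) (nat_lit 1024))
) (.node (nat_lit 0x1030501153d51) (.leaf (nat_lit 0x1030501153d11) (nat_lit 775))
 (.leaf (nat_lit 0x1030501153d51) (nat_lit 1032))
)))))) (.node (nat_lit 0x1030503110181) (.node (nat_lit 0x1030503051181) (.node (nat_lit 0x1030503012181) (.node (nat_lit 0x1030503010981) (.node (nat_lit 0x1030503010591) (.node (nat_lit 0x10305030101c1) (.leaf (nat_lit 0x1030503010181) (nat_lit 1280))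
 (.leaf (nat_lit 0x10305030101c1) (nat_lit 1034))
) (.node (nat_lit 0x10305030105d1) (.leaf (nat_lit 0x1030503010591) (nat_lit 1287))
 (.leaf (nat_lit 0x10305030105d1) (nat_lit 1287))
)) (.node (nat_lit 0x1030503010d91) (.node (nat_lit 0x10305030109c1) (.leaf (nat_lit 0x1030503010981) (nat_lit 1024))
 (.leaf (nat_lit 0x10305030109c1) (nat_lit 1032))
) (.node (nat_lit 0x1030503010dd1) (.leaf (nat_lit 0x1030503010d91) (nat_lit 1290))
 (.leaf (nat_lit 0x1030503010dd1) (nat_lit 1543))
))) (.node (nat_lit 0x1030503012981) (.node (nat_lit 0x1030503012591) (.node (nat_lit 0x10305030121c1) (.leaf (nat_lit 0x1030503012181) (nat_lit 1290))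
 (.leaf (nat_lit 0x10305030121c1) (nat_lit 1032))
) (.node (nat_lit 0x10305030125d1) (.leaf (nat_lit 0x1030503012591) (nat_lit 1031))
 (.leaf (nat_lit 0x10305030125d1) (nat_lit 1285))
)) (.node (nat_lit 0x1030503012d91) (.node (nat_lit 0x10305030129c1) (.leaf (nat_lit 0x1030503012981) (nat_lit 1289))
 (.leaf (nat_lit 0x10305030129c1) (nat_lit 776))
) (.node (nat_lit 0x1030503012dd1) (.leaf (nat_lit 0x1030503012d91) (nat_lit 1287))
 (.leaf (nat_lit 0x1030503012dd1) (nat_lit 1546))
)))) (.node (nat_lit 0x1030503053181) (.node (nat_lit 0x1030503051981) (.node (nat_lit 0x1030503051591) (.node (nat_lit 0x10305030511c1) (.leaf (nat_lit 0x1030503051181) (nat_lit 1288))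
 (.leaf (nat_lit 0x10305030511c1) (nat_lit 1288))
) (.node (nat_lit 0x10305030515d1) (.leaf (nat_lit 0x1030503051591) (nat_lit 1287))
 (.leaf (nat_lit 0x10305030515d1) (nat_lit 1287))
)) (.node (nat_lit 0x1030503051d91) (.node (nat_lit 0x10305030519c1) (.leaf (nat_lit 0x1030503051981) (nat_lit 1546))
 (.leaf (nat_lit 0x10305030519c1) (nat_lit 1290))
) (.node (nat_lit 0x1030503051dd1) (.leaf (nat_lit 0x1030503051d91) (nat_lit 1031))
 (.leaf (nat_lit 0x1030503051dd1) (nat_lit 1031))
))) (.node (nat_lit 0x1030503053981) (.node (nat_lit 0x1030503053591) (.node (nat_lit 0x10305030531c1) (.leaf (nat_lit 0x1030503053181) (nat_lit 1280))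
 (.leaf (nat_lit 0x10305030531c1) (nat_lit 1032))
) (.node (nat_lit 0x10305030535d1) (.leaf (nat_lit 0x1030503053591) (nat_lit 1290))
 (.leaf (nat_lit 0x10305030535d1) (nat_lit 1290))
)) (.node (nat_lit 0x1030503053d91) (.node (nat_lit 0x10305030539c1) (.leaf (nat_lit 0x1030503053981) (nat_lit 1536))
 (.leaf (nat_lit 0x10305030539c1) (nat_lit 1288))
) (.node (nat_lit 0x1030503053dd1) (.leaf (nat_lit 0x1030503053d91) (nat_lit 1024))
 (.leaf (nat_lit 0x1030503053dd1) (nat_lit 1029))
))))) (.node (nat_lit 0x1030503151181) (.node (nat_lit 0x1030503112181) (.node (nat_lit 0x1030503110981) (.node (nat_lit 0x1030503110591) (.node (nat_lit 0x10305031101c1) (.leaf (nat_lit 0x1030503110181) (nat_lit 1288))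
 (.leaf (nat_lit 0x10305031101c1) (nat_lit 1288))
) (.node (nat_lit 0x10305031105d1) (.leaf (nat_lit 0x1030503110591) (nat_lit 1287))
 (.leaf (nat_lit 0x10305031105d1) (nat_lit 1287))
)) (.node (nat_lit 0x1030503110d91) (.node (nat_lit 0x10305031109c1) (.leaf (nat_lit 0x1030503110981) (nat_lit 1032))
 (.leaf (nat_lit 0x10305031109c1) (nat_lit 1032))
) (.node (nat_lit 0x1030503110dd1) (.leaf (nat_lit 0x1030503110d91) (nat_lit 1290))
 (.leaf (nat_lit 0x1030503110dd1) (nat_lit 1543))
))) (.node (nat_lit 0x1030503112981) (.node (nat_lit 0x1030503112591) (.node (nat_lit 0x10305031121c1) (.leaf (nat_lit 0x1030503112181) (nat_lit 1290))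
 (.leaf (nat_lit 0x10305031121c1) (nat_lit 1290))
) (.node (nat_lit 0x10305031125d1) (.leaf (nat_lit 0x1030503112591) (nat_lit 1031))
 (.leaf (nat_lit 0x10305031125d1) (nat_lit 1285))
)) (.node (nat_lit 0x1030503112d91) (.node (nat_lit 0x10305031129c1) (.leaf (nat_lit 0x1030503112981) (nat_lit 1028))
 (.leaf (nat_lit 0x10305031129c1) (nat_lit 1032))
) (.node (nat_lit 0x1030503112dd1) (.leaf (nat_lit 0x1030503112d91) (nat_lit 1287))
 (.leaf (nat_lit 0x1030503112dd1) (nat_lit 1546))
)))) (.node (nat_lit 0x1030503153181) (.node (nat_lit 0x1030503151981) (.node (nat_lit 0x1030503151591) (.node (nat_lit 0x10305031511c1) (.leaf (nat_lit 0x1030503151181) (nat_lit 1286))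
 (.leaf (nat_lit 0x10305031511c1) (nat_lit 1288))
) (.node (nat_lit 0x10305031515d1) (.leaf (nat_lit 0x1030503151591) (nat_lit 1034))
 (.leaf (nat_lit 0x10305031515d1) (nat_lit 1546))
)) (.node (nat_lit 0x1030503151d91) (.node (nat_lit 0x10305031519c1) (.leaf (nat_lit 0x1030503151981) (nat_lit 1542))
 (.leaf (nat_lit 0x10305031519c1) (nat_lit 1290))
) (.node (nat_lit 0x1030503151dd1) (.leaf (nat_lit 0x1030503151d91) (nat_lit 1031))
 (.leaf (nat_lit 0x1030503151dd1) (nat_lit 1285))
))) (.node (nat_lit 0x1030503153981) (.node (nat_lit 0x1030503153591) (.node (nat_lit 0x10305031531c1) (.leaf (nat_lit 0x1030503153181) (nat_lit 1284))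
 (.leaf (nat_lit 0x10305031531c1) (nat_lit 1032))
) (.node (nat_lit 0x10305031535d1) (.leaf (nat_lit 0x1030503153591) (nat_lit 1031))
 (.leaf (nat_lit 0x10305031535d1) (nat_lit 1546))
)) (.node (nat_lit 0x1030503153d91) (.node (nat_lit 0x10305031539c1) (.leaf (nat_lit 0x1030503153981) (nat_lit 1546))
 (.leaf (nat_lit 0x10305031539c1) (nat_lit 1288))
) (.node (nat_lit 0x1030503153dd1) (.leaf (nat_lit 0x1030503153d91) (nat_lit 775))
 (.leaf (nat_lit 0x1030503153dd1) (nat_lit 1289))
))))))) (.node (nat_lit 0x103050b010181) (.node (nat_lit 0x1030509110101) (.node (nat_lit 0x1030509051101) (.node (nat_lit 0x1030509012101) (.node (nat_lit 0x1030509010901) (.node (nat_lit 0x1030509010511) (.node (nat_lit 0x1030509010141) (.leaf (nat_lit 0x1030509010101) (nat_lit 773))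
 (.leaf (nat_lit 0x1030509010141) (nat_lit 1033))
) (.node (nat_lit 0x1030509010551) (.leaf (nat_lit 0x1030509010511) (nat_lit 1287))
 (.leaf (nat_lit 0x1030509010551) (nat_lit 1288))
)) (.node (nat_lit 0x1030509010d11) (.node (nat_lit 0x1030509010941) (.leaf (nat_lit 0x1030509010901) (nat_lit 1024))
 (.leaf (nat_lit 0x1030509010941) (nat_lit 1034))
) (.node (nat_lit 0x1030509010d51) (.leaf (nat_lit 0x1030509010d11) (nat_lit 1543))
 (.leaf (nat_lit 0x1030509010d51) (nat_lit 1544))
))) (.node (nat_lit 0x1030509012901) (.node (nat_lit 0x1030509012511) (.node (nat_lit 0x1030509012141) (.leaf (nat_lit 0x1030509012101) (nat_lit 1029))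
 (.leaf (nat_lit 0x1030509012141) (nat_lit 777))
) (.node (nat_lit 0x1030509012551) (.leaf (nat_lit 0x1030509012511) (nat_lit 1287))
 (.leaf (nat_lit 0x1030509012551) (nat_lit 1285))
)) (.node (nat_lit 0x1030509012d11) (.node (nat_lit 0x1030509012941) (.leaf (nat_lit 0x1030509012901) (nat_lit 1034))
 (.leaf (nat_lit 0x1030509012941) (nat_lit 1033))
) (.node (nat_lit 0x1030509012d51) (.leaf (nat_lit 0x1030509012d11) (nat_lit 1546))
 (.leaf (nat_lit 0x1030509012d51) (nat_lit 1546))
)))) (.node (nat_lit 0x1030509053101) (.node (nat_lit 0x1030509051901) (.node (nat_lit 0x1030509051511) (.node (nat_lit 0x1030509051141) (.leaf (nat_lit 0x1030509051101) (nat_lit 1290))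
 (.leaf (nat_lit 0x1030509051141) (nat_lit 1290))
) (.node (nat_lit 0x1030509051551) (.leaf (nat_lit 0x1030509051511) (nat_lit 1546))
 (.leaf (nat_lit 0x1030509051551) (nat_lit 1288))
)) (.node (nat_lit 0x1030509051d11) (.node (nat_lit 0x1030509051941) (.leaf (nat_lit 0x1030509051901) (nat_lit 1027))
 (.leaf (nat_lit 0x1030509051941) (nat_lit 1286))
) (.node (nat_lit 0x1030509051d51) (.leaf (nat_lit 0x1030509051d11) (nat_lit 1287))
 (.leaf (nat_lit 0x1030509051d51) (nat_lit 1032))
))) (.node (nat_lit 0x1030509053901) (.node (nat_lit 0x1030509053511) (.node (nat_lit 0x1030509053141) (.leaf (nat_lit 0x1030509053101) (nat_lit 1280))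
 (.leaf (nat_lit 0x1030509053141) (nat_lit 1289))
) (.node (nat_lit 0x1030509053551) (.leaf (nat_lit 0x1030509053511) (nat_lit 1543))
 (.leaf (nat_lit 0x1030509053551) (nat_lit 1290))
)) (.node (nat_lit 0x1030509053d11) (.node (nat_lit 0x1030509053941) (.leaf (nat_lit 0x1030509053901) (nat_lit 1024))
 (.leaf (nat_lit 0x1030509053941) (nat_lit 1033))
) (.node (nat_lit 0x1030509053d51) (.leaf (nat_lit 0x1030509053d11) (nat_lit 1287))
 (.leaf (nat_lit 0x1030509053d51) (nat_lit 1029))
))))) (.node (nat_lit 0x1030509151101) (.node (nat_lit 0x1030509112101) (.node (nat_lit 0x1030509110901) (.node (nat_lit 0x1030509110511) (.node (nat_lit 0x1030509110141) (.leaf (nat_lit 0x1030509110101) (nat_lit 1285))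
 (.leaf (nat_lit 0x1030509110141) (nat_lit 1029))
) (.node (nat_lit 0x1030509110551) (.leaf (nat_lit 0x1030509110511) (nat_lit 1287))
 (.leaf (nat_lit 0x1030509110551) (nat_lit 1288))
)) (.node (nat_lit 0x1030509110d11) (.node (nat_lit 0x1030509110941) (.leaf (nat_lit 0x1030509110901) (nat_lit 1290))
 (.leaf (nat_lit 0x1030509110941) (nat_lit 1289))
) (.node (nat_lit 0x1030509110d51) (.leaf (nat_lit 0x1030509110d11) (nat_lit 1543))
 (.leaf (nat_lit 0x1030509110d51) (nat_lit 1544))
))) (.node (nat_lit 0x1030509112901) (.node (nat_lit 0x1030509112511) (.node (nat_lit 0x1030509112141) (.leaf (nat_lit 0x1030509112101) (nat_lit 1029))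
 (.leaf (nat_lit 0x1030509112141) (nat_lit 1033))
) (.node (nat_lit 0x1030509112551) (.leaf (nat_lit 0x1030509112511) (nat_lit 1287))
 (.leaf (nat_lit 0x1030509112551) (nat_lit 1285))
)) (.node (nat_lit 0x1030509112d11) (.node (nat_lit 0x1030509112941) (.leaf (nat_lit 0x1030509112901) (nat_lit 1280))
 (.leaf (nat_lit 0x1030509112941) (nat_lit 1290))
) (.node (nat_lit 0x1030509112d51) (.leaf (nat_lit 0x1030509112d11) (nat_lit 1546))
 (.leaf (nat_lit 0x1030509112d51) (nat_lit 1546))
)))) (.node (nat_lit 0x1030509153101) (.node (nat_lit 0x1030509151901) (.node (nat_lit 0x1030509151511) (.node (nat_lit 0x1030509151141) (.leaf (nat_lit 0x1030509151101) (nat_lit 1290))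
 (.leaf (nat_lit 0x1030509151141) (nat_lit 1290))
) (.node (nat_lit 0x1030509151551) (.leaf (nat_lit 0x1030509151511) (nat_lit 1287))
 (.leaf (nat_lit 0x1030509151551) (nat_lit 1546))
)) (.node (nat_lit 0x1030509151d11) (.node (nat_lit 0x1030509151941) (.leaf (nat_lit 0x1030509151901) (nat_lit 1030))
 (.leaf (nat_lit 0x1030509151941) (nat_lit 1289))
) (.node (nat_lit 0x1030509151d51) (.leaf (nat_lit 0x1030509151d11) (nat_lit 1031))
 (.leaf (nat_lit 0x1030509151d51) (nat_lit 1285))
))) (.node (nat_lit 0x1030509153901) (.node (nat_lit 0x1030509153511) (.node (nat_lit 0x1030509153141) (.leaf (nat_lit 0x1030509153101) (nat_lit 1290))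
 (.leaf (nat_lit 0x1030509153141) (nat_lit 1289))
) (.node (nat_lit 0x1030509153551) (.leaf (nat_lit 0x1030509153511) (nat_lit 1290))
 (.leaf (nat_lit 0x1030509153551) (nat_lit 1546))
)) (.node (nat_lit 0x1030509153d11) (.node (nat_lit 0x1030509153941) (.leaf (nat_lit 0x1030509153901) (nat_lit 1027))
 (.leaf (nat_lit 0x1030509153941) (nat_lit 1033))
) (.node (nat_lit 0x1030509153d51) (.leaf (nat_lit 0x1030509153d11) (nat_lit 1031))
 (.leaf (nat_lit 0x1030509153d51) (nat_lit 1288))
)))))) (.node (nat_lit 0x103050b110181) (.node (nat_lit 0x103050b051181) (.node (nat_lit 0x103050b012181) (.node (nat_lit 0x103050b010981) (.node (nat_lit 0x103050b010591) (.node (nat_lit 0x103050b0101c1) (.leaf (nat_lit 0x103050b010181) (nat_lit 1290))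
 (.leaf (nat_lit 0x103050b0101c1) (nat_lit 1034))
) (.node (nat_lit 0x103050b0105d1) (.leaf (nat_lit 0x103050b010591) (nat_lit 1289))
 (.leaf (nat_lit 0x103050b0105d1) (nat_lit 1289))
)) (.node (nat_lit 0x103050b010d91) (.node (nat_lit 0x103050b0109c1) (.leaf (nat_lit 0x103050b010981) (nat_lit 1289))
 (.leaf (nat_lit 0x103050b0109c1) (nat_lit 1033))
) (.node (nat_lit 0x103050b010dd1) (.leaf (nat_lit 0x103050b010d91) (nat_lit 1545))
 (.leaf (nat_lit 0x103050b010dd1) (nat_lit 1290))
))) (.node (nat_lit 0x103050b012981) (.node (nat_lit 0x103050b012591) (.node (nat_lit 0x103050b0121c1) (.leaf (nat_lit 0x103050b012181) (nat_lit 1289))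
 (.leaf (nat_lit 0x103050b0121c1) (nat_lit 1033))
) (.node (nat_lit 0x103050b0125d1) (.leaf (nat_lit 0x103050b012591) (nat_lit 1289))
 (.leaf (nat_lit 0x103050b0125d1) (nat_lit 1033))
)) (.node (nat_lit 0x103050b012d91) (.node (nat_lit 0x103050b0129c1) (.leaf (nat_lit 0x103050b012981) (nat_lit 1033))
 (.leaf (nat_lit 0x103050b0129c1) (nat_lit 777))
) (.node (nat_lit 0x103050b012dd1) (.leaf (nat_lit 0x103050b012d91) (nat_lit 1546))
 (.leaf (nat_lit 0x103050b012dd1) (nat_lit 1289))
)))) (.node (nat_lit 0x103050b053181) (.node (nat_lit 0x103050b051981) (.node (nat_lit 0x103050b051591) (.node (nat_lit 0x103050b0511c1) (.leaf (nat_lit 0x103050b051181) (nat_lit 1289))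
 (.leaf (nat_lit 0x103050b0511c1) (nat_lit 1289))
) (.node (nat_lit 0x103050b0515d1) (.leaf (nat_lit 0x103050b051591) (nat_lit 1546))
 (.leaf (nat_lit 0x103050b0515d1) (nat_lit 1034))
)) (.node (nat_lit 0x103050b051d91) (.node (nat_lit 0x103050b0519c1) (.leaf (nat_lit 0x103050b051981) (nat_lit 1545))
 (.leaf (nat_lit 0x103050b0519c1) (nat_lit 1290))
) (.node (nat_lit 0x103050b051dd1) (.leaf (nat_lit 0x103050b051d91) (nat_lit 1289))
 (.leaf (nat_lit 0x103050b051dd1) (nat_lit 1033))
))) (.node (nat_lit 0x103050b053981) (.node (nat_lit 0x103050b053591) (.node (nat_lit 0x103050b0531c1) (.leaf (nat_lit 0x103050b053181) (nat_lit 1289))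
 (.leaf (nat_lit 0x103050b0531c1) (nat_lit 1033))
) (.node (nat_lit 0x103050b0535d1) (.leaf (nat_lit 0x103050b053591) (nat_lit 1546))
 (.leaf (nat_lit 0x103050b0535d1) (nat_lit 1033))
)) (.node (nat_lit 0x103050b053d91) (.node (nat_lit 0x103050b0539c1) (.leaf (nat_lit 0x103050b053981) (nat_lit 1546))
 (.leaf (nat_lit 0x103050b0539c1) (nat_lit 1289))
) (.node (nat_lit 0x103050b053dd1) (.leaf (nat_lit 0x103050b053d91) (nat_lit 1289))
 (.leaf (nat_lit 0x103050b053dd1) (nat_lit 777))
))))) (.node (nat_lit 0x103050b151181) (.node (nat_lit 0x103050b112181) (.node (nat_lit 0x103050b110981) (.node (nat_lit 0x103050b110591) (.node (nat_lit 0x103050b1101c1) (.leaf (nat_lit 0x103050b110181) (nat_lit 1289))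
 (.leaf (nat_lit 0x103050b1101c1) (nat_lit 1289))
) (.node (nat_lit 0x103050b1105d1) (.leaf (nat_lit 0x103050b110591) (nat_lit 1289))
 (.leaf (nat_lit 0x103050b1105d1) (nat_lit 1289))
)) (.node (nat_lit 0x103050b110d91) (.node (nat_lit 0x103050b1109c1) (.leaf (nat_lit 0x103050b110981) (nat_lit 1033))
 (.leaf (nat_lit 0x103050b1109c1) (nat_lit 1033))
) (.node (nat_lit 0x103050b110dd1) (.leaf (nat_lit 0x103050b110d91) (nat_lit 1545))
 (.leaf (nat_lit 0x103050b110dd1) (nat_lit 1290))
))) (.node (nat_lit 0x103050b112981) (.node (nat_lit 0x103050b112591) (.node (nat_lit 0x103050b1121c1) (.leaf (nat_lit 0x103050b112181) (nat_lit 1290))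
 (.leaf (nat_lit 0x103050b1121c1) (nat_lit 1290))
) (.node (nat_lit 0x103050b1125d1) (.leaf (nat_lit 0x103050b112591) (nat_lit 1289))
 (.leaf (nat_lit 0x103050b1125d1) (nat_lit 1033))
)) (.node (nat_lit 0x103050b112d91) (.node (nat_lit 0x103050b1129c1) (.leaf (nat_lit 0x103050b112981) (nat_lit 1033))
 (.leaf (nat_lit 0x103050b1129c1) (nat_lit 1033))
) (.node (nat_lit 0x103050b112dd1) (.leaf (nat_lit 0x103050b112d91) (nat_lit 1546))
 (.leaf (nat_lit 0x103050b112dd1) (nat_lit 1289))
)))) (.node (nat_lit 0x103050b153181) (.node (nat_lit 0x103050b151981) (.node (nat_lit 0x103050b151591) (.node (nat_lit 0x103050b1511c1) (.leaf (nat_lit 0x103050b151181) (nat_lit 1289))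
 (.leaf (nat_lit 0x103050b1511c1) (nat_lit 1289))
) (.node (nat_lit 0x103050b1515d1) (.leaf (nat_lit 0x103050b151591) (nat_lit 1289))
 (.leaf (nat_lit 0x103050b1515d1) (nat_lit 1290))
)) (.node (nat_lit 0x103050b151d91) (.node (nat_lit 0x103050b1519c1) (.leaf (nat_lit 0x103050b151981) (nat_lit 1546))
 (.leaf (nat_lit 0x103050b1519c1) (nat_lit 1290))
) (.node (nat_lit 0x103050b151dd1) (.leaf (nat_lit 0x103050b151d91) (nat_lit 1033))
 (.leaf (nat_lit 0x103050b151dd1) (nat_lit 1033))
))) (.node (nat_lit 0x103050b153981) (.node (nat_lit 0x103050b153591) (.node (nat_lit 0x103050b1531c1) (.leaf (nat_lit 0x103050b153181) (nat_lit 1289))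
 (.leaf (nat_lit 0x103050b1531c1) (nat_lit 1033))
) (.node (nat_lit 0x103050b1535d1) (.leaf (nat_lit 0x103050b153591) (nat_lit 1290))
 (.leaf (nat_lit 0x103050b1535d1) (nat_lit 1290))
)) (.node (nat_lit 0x103050b153d91) (.node (nat_lit 0x103050b1539c1) (.leaf (nat_lit 0x103050b153981) (nat_lit 1546))
 (.leaf (nat_lit 0x103050b1539c1) (nat_lit 1289))
) (.node (nat_lit 0x103050b153dd1) (.leaf (nat_lit 0x103050b153d91) (nat_lit 1033))
 (.leaf (nat_lit 0x103050b153dd1) (nat_lit 1033))
))))))))) (.node (nat_lit 0x1038501010301) (.node (nat_lit 0x1038109010301) (.node (nat_lit 0x1038103010381) (.node (nat_lit 0x1038101110301) (.node (nat_lit 0x1038101051301) (.node (nat_lit 0x1038101012301) (.node (nat_lit 0x1038101010b01) (.node (nat_lit 0x1038101010711) (.node (nat_lit 0x1038101010341) (.leaf (nat_lit 0x1038101010301) (nat_lit 1034))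
 (.leaf (nat_lit 0x1038101010341) (nat_lit 1542))
) (.node (nat_lit 0x1038101010751) (.leaf (nat_lit 0x1038101010711) (nat_lit 778))
 (.leaf (nat_lit 0x1038101010751) (nat_lit 1024))
)) (.node (nat_lit 0x1038101010f11) (.node (nat_lit 0x1038101010b41) (.leaf (nat_lit 0x1038101010b01) (nat_lit 775))
 (.leaf (nat_lit 0x1038101010b41) (nat_lit 1286))
) (.node (nat_lit 0x1038101010f51) (.leaf (nat_lit 0x1038101010f11) (nat_lit 520))
 (.leaf (nat_lit 0x1038101010f51) (nat_lit 1024))
))) (.node (nat_lit 0x1038101012b01) (.node (nat_lit 0x1038101012711) (.node (nat_lit 0x1038101012341) (.leaf (nat_lit 0x1038101012301) (nat_lit 1034))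
 (.leaf (nat_lit 0x1038101012341) (nat_lit 1546))
) (.node (nat_lit 0x1038101012751) (.leaf (nat_lit 0x1038101012711) (nat_lit 1034))
 (.leaf (nat_lit 0x1038101012751) (nat_lit 1034))
)) (.node (nat_lit 0x1038101012f11) (.node (nat_lit 0x1038101012b41) (.leaf (nat_lit 0x1038101012b01) (nat_lit 775))
 (.leaf (nat_lit 0x1038101012b41) (nat_lit 1286))
) (.node (nat_lit 0x1038101012f51) (.leaf (nat_lit 0x1038101012f11) (nat_lit 776))
 (.leaf (nat_lit 0x1038101012f51) (nat_lit 768))
)))) (.node (nat_lit 0x1038101053301) (.node (nat_lit 0x1038101051b01) (.node (nat_lit 0x1038101051711) (.node (nat_lit 0x1038101051341) (.leaf (nat_lit 0x1038101051301) (nat_lit 778))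
 (.leaf (nat_lit 0x1038101051341) (nat_lit 1290))
) (.node (nat_lit 0x1038101051751) (.leaf (nat_lit 0x1038101051711) (nat_lit 1034))
 (.leaf (nat_lit 0x1038101051751) (nat_lit 1290))
)) (.node (nat_lit 0x1038101051f11) (.node (nat_lit 0x1038101051b41) (.leaf (nat_lit 0x1038101051b01) (nat_lit 515))
 (.leaf (nat_lit 0x1038101051b41) (nat_lit 1024))
) (.node (nat_lit 0x1038101051f51) (.leaf (nat_lit 0x1038101051f11) (nat_lit 776))
 (.leaf (nat_lit 0x1038101051f51) (nat_lit 1030))
))) (.node (nat_lit 0x1038101053b01) (.node (nat_lit 0x1038101053711) (.node (nat_lit 0x1038101053341) (.leaf (nat_lit 0x1038101053301) (nat_lit 778))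
 (.leaf (nat_lit 0x1038101053341) (nat_lit 1280))
) (.node (nat_lit 0x1038101053751) (.leaf (nat_lit 0x1038101053711) (nat_lit 1034))
 (.leaf (nat_lit 0x1038101053751) (nat_lit 1286))
)) (.node (nat_lit 0x1038101053f11) (.node (nat_lit 0x1038101053b41) (.leaf (nat_lit 0x1038101053b01) (nat_lit 519))
 (.leaf (nat_lit 0x1038101053b41) (nat_lit 1028))
) (.node (nat_lit 0x1038101053f51) (.leaf (nat_lit 0x1038101053f11) (nat_lit 776))
 (.leaf (nat_lit 0x1038101053f51) (nat_lit 1024))
))))) (.node (nat_lit 0x1038101151301) (.node (nat_lit 0x1038101112301) (.node (nat_lit 0x1038101110b01) (.node (nat_lit 0x1038101110711) (.node (nat_lit 0x1038101110341) (.leaf (nat_lit 0x1038101110301) (nat_lit 1290))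
 (.leaf (nat_lit 0x1038101110341) (nat_lit 1290))
) (.node (nat_lit 0x1038101110751) (.leaf (nat_lit 0x1038101110711) (nat_lit 1034))
 (.leaf (nat_lit 0x1038101110751) (nat_lit 1034))
)) (.node (nat_lit 0x1038101110f11) (.node (nat_lit 0x1038101110b41) (.leaf (nat_lit 0x1038101110b01) (nat_lit 1030))
 (.leaf (nat_lit 0x1038101110b41) (nat_lit 1028))
) (.node (nat_lit 0x1038101110f51) (.leaf (nat_lit 0x1038101110f11) (nat_lit 776))
 (.leaf (nat_lit 0x1038101110f51) (nat_lit 772))
))) (.node (nat_lit 0x1038101112b01) (.node (nat_lit 0x1038101112711) (.node (nat_lit 0x1038101112341) (.leaf (nat_lit 0x1038101112301) (nat_lit 1286))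
 (.leaf (nat_lit 0x1038101112341) (nat_lit 1290))
) (.node (nat_lit 0x1038101112751) (.leaf (nat_lit 0x1038101112711) (nat_lit 1034))
 (.leaf (nat_lit 0x1038101112751) (nat_lit 1034))
)) (.node (nat_lit 0x1038101112f11) (.node (nat_lit 0x1038101112b41) (.leaf (nat_lit 0x1038101112b01) (nat_lit 1031))
 (.leaf (nat_lit 0x1038101112b41) (nat_lit 1031))
) (.node (nat_lit 0x1038101112f51) (.leaf (nat_lit 0x1038101112f11) (nat_lit 770))
 (.leaf (nat_lit 0x1038101112f51) (nat_lit 776))
)))) (.node (nat_lit 0x1038101153301) (.node (nat_lit 0x1038101151b01) (.node (nat_lit 0x1038101151711) (.node (nat_lit 0x1038101151341) (.leaf (nat_lit 0x1038101151301) (nat_lit 1024))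
 (.leaf (nat_lit 0x1038101151341) (nat_lit 1034))
) (.node (nat_lit 0x1038101151751) (.leaf (nat_lit 0x1038101151711) (nat_lit 1290))
 (.leaf (nat_lit 0x1038101151751) (nat_lit 1280))
)) (.node (nat_lit 0x1038101151f11) (.node (nat_lit 0x1038101151b41) (.leaf (nat_lit 0x1038101151b01) (nat_lit 771))
 (.leaf (nat_lit 0x1038101151b41) (nat_lit 775))
) (.node (nat_lit 0x1038101151f51) (.leaf (nat_lit 0x1038101151f11) (nat_lit 1032))
 (.leaf (nat_lit 0x1038101151f51) (nat_lit 1032))
))) (.node (nat_lit 0x1038101153b01) (.node (nat_lit 0x1038101153711) (.node (nat_lit 0x1038101153341) (.leaf (nat_lit 0x1038101153301) (nat_lit 1034))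
 (.leaf (nat_lit 0x1038101153341) (nat_lit 1034))
) (.node (nat_lit 0x1038101153751) (.leaf (nat_lit 0x1038101153711) (nat_lit 1290))
 (.leaf (nat_lit 0x1038101153751) (nat_lit 1290))
)) (.node (nat_lit 0x1038101153f11) (.node (nat_lit 0x1038101153b41) (.leaf (nat_lit 0x1038101153b01) (nat_lit 768))
 (.leaf (nat_lit 0x1038101153b41) (nat_lit 772))
) (.node (nat_lit 0x1038101153f51) (.leaf (nat_lit 0x1038101153f11) (nat_lit 1032))
 (.leaf (nat_lit 0x1038101153f51) (nat_lit 1024))
)))))) (.node (nat_lit 0x1038103110381) (.node (nat_lit 0x1038103051381) (.node (nat_lit 0x1038103012381) (.node (nat_lit 0x1038103010b81) (.node (nat_lit 0x1038103010791) (.node (nat_lit 0x10381030103c1) (.leaf (nat_lit 0x1038103010381) (nat_lit 1289))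
 (.leaf (nat_lit 0x10381030103c1) (nat_lit 1545))
) (.node (nat_lit 0x10381030107d1) (.leaf (nat_lit 0x1038103010791) (nat_lit 778))
 (.leaf (nat_lit 0x10381030107d1) (nat_lit 1290))
)) (.node (nat_lit 0x1038103010f91) (.node (nat_lit 0x1038103010bc1) (.leaf (nat_lit 0x1038103010b81) (nat_lit 1546))
 (.leaf (nat_lit 0x1038103010bc1) (nat_lit 1802))
) (.node (nat_lit 0x1038103010fd1) (.leaf (nat_lit 0x1038103010f91) (nat_lit 521))
 (.leaf (nat_lit 0x1038103010fd1) (nat_lit 1024))
))) (.node (nat_lit 0x1038103012b81) (.node (nat_lit 0x1038103012791) (.node (nat_lit 0x10381030123c1) (.leaf (nat_lit 0x1038103012381) (nat_lit 1289))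
 (.leaf (nat_lit 0x10381030123c1) (nat_lit 1545))
) (.node (nat_lit 0x10381030127d1) (.leaf (nat_lit 0x1038103012791) (nat_lit 1034))
 (.leaf (nat_lit 0x10381030127d1) (nat_lit 1280))
)) (.node (nat_lit 0x1038103012f91) (.node (nat_lit 0x1038103012bc1) (.leaf (nat_lit 0x1038103012b81) (nat_lit 1546))
 (.leaf (nat_lit 0x1038103012bc1) (nat_lit 1801))
) (.node (nat_lit 0x1038103012fd1) (.leaf (nat_lit 0x1038103012f91) (nat_lit 777))
 (.leaf (nat_lit 0x1038103012fd1) (nat_lit 1029))
)))) (.node (nat_lit 0x1038103053381) (.node (nat_lit 0x1038103051b81) (.node (nat_lit 0x1038103051791) (.node (nat_lit 0x10381030513c1) (.leaf (nat_lit 0x1038103051381) (nat_lit 1033))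
 (.leaf (nat_lit 0x10381030513c1) (nat_lit 1289))
) (.node (nat_lit 0x10381030517d1) (.leaf (nat_lit 0x1038103051791) (nat_lit 1034))
 (.leaf (nat_lit 0x10381030517d1) (nat_lit 1542))
)) (.node (nat_lit 0x1038103051f91) (.node (nat_lit 0x1038103051bc1) (.leaf (nat_lit 0x1038103051b81) (nat_lit 1290))
 (.leaf (nat_lit 0x1038103051bc1) (nat_lit 1545))
) (.node (nat_lit 0x1038103051fd1) (.leaf (nat_lit 0x1038103051f91) (nat_lit 777))
 (.leaf (nat_lit 0x1038103051fd1) (nat_lit 1286))
))) (.node (nat_lit 0x1038103053b81) (.node (nat_lit 0x1038103053791) (.node (nat_lit 0x10381030533c1) (.leaf (nat_lit 0x1038103053381) (nat_lit 1033))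
 (.leaf (nat_lit 0x10381030533c1) (nat_lit 1289))
) (.node (nat_lit 0x10381030537d1) (.leaf (nat_lit 0x1038103053791) (nat_lit 1034))
 (.leaf (nat_lit 0x10381030537d1) (nat_lit 1546))
)) (.node (nat_lit 0x1038103053f91) (.node (nat_lit 0x1038103053bc1) (.leaf (nat_lit 0x1038103053b81) (nat_lit 1290))
 (.leaf (nat_lit 0x1038103053bc1) (nat_lit 1546))
) (.node (nat_lit 0x1038103053fd1) (.leaf (nat_lit 0x1038103053f91) (nat_lit 777))
 (.leaf (nat_lit 0x1038103053fd1) (nat_lit 1286))
))))) (.node (nat_lit 0x1038103151381) (.node (nat_lit 0x1038103112381) (.node (nat_lit 0x1038103110b81) (.node (nat_lit 0x1038103110791) (.node (nat_lit 0x10381031103c1) (.leaf (nat_lit 0x1038103110381) (nat_lit 1545))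
 (.leaf (nat_lit 0x10381031103c1) (nat_lit 1545))
) (.node (nat_lit 0x10381031107d1) (.leaf (nat_lit 0x1038103110791) (nat_lit 1034))
 (.leaf (nat_lit 0x10381031107d1) (nat_lit 1034))
)) (.node (nat_lit 0x1038103110f91) (.node (nat_lit 0x1038103110bc1) (.leaf (nat_lit 0x1038103110b81) (nat_lit 1802))
 (.leaf (nat_lit 0x1038103110bc1) (nat_lit 1801))
) (.node (nat_lit 0x1038103110fd1) (.leaf (nat_lit 0x1038103110f91) (nat_lit 777))
 (.leaf (nat_lit 0x1038103110fd1) (nat_lit 777))
))) (.node (nat_lit 0x1038103112b81) (.node (nat_lit 0x1038103112791) (.node (nat_lit 0x10381031123c1) (.leaf (nat_lit 0x1038103112381) (nat_lit 1545))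
 (.leaf (nat_lit 0x10381031123c1) (nat_lit 1545))
) (.node (nat_lit 0x10381031127d1) (.leaf (nat_lit 0x1038103112791) (nat_lit 1034))
 (.leaf (nat_lit 0x10381031127d1) (nat_lit 1290))
)) (.node (nat_lit 0x1038103112f91) (.node (nat_lit 0x1038103112bc1) (.leaf (nat_lit 0x1038103112b81) (nat_lit 1801))
 (.leaf (nat_lit 0x1038103112bc1) (nat_lit 1802))
) (.node (nat_lit 0x1038103112fd1) (.leaf (nat_lit 0x1038103112f91) (nat_lit 770))
 (.leaf (nat_lit 0x1038103112fd1) (nat_lit 1033))
)))) (.node (nat_lit 0x1038103153381) (.node (nat_lit 0x1038103151b81) (.node (nat_lit 0x1038103151791) (.node (nat_lit 0x10381031513c1) (.leaf (nat_lit 0x1038103151381) (nat_lit 1289))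
 (.leaf (nat_lit 0x10381031513c1) (nat_lit 1289))
) (.node (nat_lit 0x10381031517d1) (.leaf (nat_lit 0x1038103151791) (nat_lit 1290))
 (.leaf (nat_lit 0x10381031517d1) (nat_lit 1290))
)) (.node (nat_lit 0x1038103151f91) (.node (nat_lit 0x1038103151bc1) (.leaf (nat_lit 0x1038103151b81) (nat_lit 1545))
 (.leaf (nat_lit 0x1038103151bc1) (nat_lit 1546))
) (.node (nat_lit 0x1038103151fd1) (.leaf (nat_lit 0x1038103151f91) (nat_lit 1033))
 (.leaf (nat_lit 0x1038103151fd1) (nat_lit 1033))
))) (.node (nat_lit 0x1038103153b81) (.node (nat_lit 0x1038103153791) (.node (nat_lit 0x10381031533c1) (.leaf (nat_lit 0x1038103153381) (nat_lit 1289))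
 (.leaf (nat_lit 0x10381031533c1) (nat_lit 1289))
) (.node (nat_lit 0x10381031537d1) (.leaf (nat_lit 0x1038103153791) (nat_lit 1290))
 (.leaf (nat_lit 0x10381031537d1) (nat_lit 1290))
)) (.node (nat_lit 0x1038103153f91) (.node (nat_lit 0x1038103153bc1) (.leaf (nat_lit 0x1038103153b81) (nat_lit 1546))
 (.leaf (nat_lit 0x1038103153bc1) (nat_lit 1546))
) (.node (nat_lit 0x1038103153fd1) (.leaf (nat_lit 0x1038103153f91) (nat_lit 1033))
 (.leaf (nat_lit 0x1038103153fd1) (nat_lit 1033))
))))))) (.node (nat_lit 0x103810b010381) (.node (nat_lit 0x1038109110301) (.node (nat_lit 0x1038109051301) (.node (nat_lit 0x1038109012301) (.node (nat_lit 0x1038109010b01) (.node (nat_lit 0x1038109010711) (.node (nat_lit 0x1038109010341) (.leaf (nat_lit 0x1038109010301) (nat_lit 1290))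
 (.leaf (nat_lit 0x1038109010341) (nat_lit 1798))
) (.node (nat_lit 0x1038109010751) (.leaf (nat_lit 0x1038109010711) (nat_lit 1034))
 (.leaf (nat_lit 0x1038109010751) (nat_lit 1290))
)) (.node (nat_lit 0x1038109010f11) (.node (nat_lit 0x1038109010b41) (.leaf (nat_lit 0x1038109010b01) (nat_lit 1031))
 (.leaf (nat_lit 0x1038109010b41) (nat_lit 1542))
) (.node (nat_lit 0x1038109010f51) (.leaf (nat_lit 0x1038109010f11) (nat_lit 773))
 (.leaf (nat_lit 0x1038109010f51) (nat_lit 1024))
))) (.node (nat_lit 0x1038109012b01) (.node (nat_lit 0x1038109012711) (.node (nat_lit 0x1038109012341) (.leaf (nat_lit 0x1038109012301) (nat_lit 1290))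
 (.leaf (nat_lit 0x1038109012341) (nat_lit 1802))
) (.node (nat_lit 0x1038109012751) (.leaf (nat_lit 0x1038109012711) (nat_lit 1034))
 (.leaf (nat_lit 0x1038109012751) (nat_lit 1280))
)) (.node (nat_lit 0x1038109012f11) (.node (nat_lit 0x1038109012b41) (.leaf (nat_lit 0x1038109012b01) (nat_lit 1031))
 (.leaf (nat_lit 0x1038109012b41) (nat_lit 1542))
) (.node (nat_lit 0x1038109012f51) (.leaf (nat_lit 0x1038109012f11) (nat_lit 776))
 (.leaf (nat_lit 0x1038109012f51) (nat_lit 1029))
)))) (.node (nat_lit 0x1038109053301) (.node (nat_lit 0x1038109051b01) (.node (nat_lit 0x1038109051711) (.node (nat_lit 0x1038109051341) (.leaf (nat_lit 0x1038109051301) (nat_lit 1034))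
 (.leaf (nat_lit 0x1038109051341) (nat_lit 1546))
) (.node (nat_lit 0x1038109051751) (.leaf (nat_lit 0x1038109051711) (nat_lit 1290))
 (.leaf (nat_lit 0x1038109051751) (nat_lit 1542))
)) (.node (nat_lit 0x1038109051f11) (.node (nat_lit 0x1038109051b41) (.leaf (nat_lit 0x1038109051b01) (nat_lit 771))
 (.leaf (nat_lit 0x1038109051b41) (nat_lit 1280))
) (.node (nat_lit 0x1038109051f51) (.leaf (nat_lit 0x1038109051f11) (nat_lit 1032))
 (.leaf (nat_lit 0x1038109051f51) (nat_lit 1286))
))) (.node (nat_lit 0x1038109053b01) (.node (nat_lit 0x1038109053711) (.node (nat_lit 0x1038109053341) (.leaf (nat_lit 0x1038109053301) (nat_lit 1034))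
 (.leaf (nat_lit 0x1038109053341) (nat_lit 1536))
) (.node (nat_lit 0x1038109053751) (.leaf (nat_lit 0x1038109053711) (nat_lit 1290))
 (.leaf (nat_lit 0x1038109053751) (nat_lit 1546))
)) (.node (nat_lit 0x1038109053f11) (.node (nat_lit 0x1038109053b41) (.leaf (nat_lit 0x1038109053b01) (nat_lit 775))
 (.leaf (nat_lit 0x1038109053b41) (nat_lit 1284))
) (.node (nat_lit 0x1038109053f51) (.leaf (nat_lit 0x1038109053f11) (nat_lit 1029))
 (.leaf (nat_lit 0x1038109053f51) (nat_lit 1286))
))))) (.node (nat_lit 0x1038109151301) (.node (nat_lit 0x1038109112301) (.node (nat_lit 0x1038109110b01) (.node (nat_lit 0x1038109110711) (.node (nat_lit 0x1038109110341) (.leaf (nat_lit 0x1038109110301) (nat_lit 1546))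
 (.leaf (nat_lit 0x1038109110341) (nat_lit 1546))
) (.node (nat_lit 0x1038109110751) (.leaf (nat_lit 0x1038109110711) (nat_lit 1290))
 (.leaf (nat_lit 0x1038109110751) (nat_lit 1290))
)) (.node (nat_lit 0x1038109110f11) (.node (nat_lit 0x1038109110b41) (.leaf (nat_lit 0x1038109110b01) (nat_lit 1286))
 (.leaf (nat_lit 0x1038109110b41) (nat_lit 1284))
) (.node (nat_lit 0x1038109110f51) (.leaf (nat_lit 0x1038109110f11) (nat_lit 1029))
 (.leaf (nat_lit 0x1038109110f51) (nat_lit 1032))
))) (.node (nat_lit 0x1038109112b01) (.node (nat_lit 0x1038109112711) (.node (nat_lit 0x1038109112341) (.leaf (nat_lit 0x1038109112301) (nat_lit 1542))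
 (.leaf (nat_lit 0x1038109112341) (nat_lit 1546))
) (.node (nat_lit 0x1038109112751) (.leaf (nat_lit 0x1038109112711) (nat_lit 1290))
 (.leaf (nat_lit 0x1038109112751) (nat_lit 1290))
)) (.node (nat_lit 0x1038109112f11) (.node (nat_lit 0x1038109112b41) (.leaf (nat_lit 0x1038109112b01) (nat_lit 1287))
 (.leaf (nat_lit 0x1038109112b41) (nat_lit 1287))
) (.node (nat_lit 0x1038109112f51) (.leaf (nat_lit 0x1038109112f11) (nat_lit 1032))
 (.leaf (nat_lit 0x1038109112f51) (nat_lit 1029))
)))) (.node (nat_lit 0x1038109153301) (.node (nat_lit 0x1038109151b01) (.node (nat_lit 0x1038109151711) (.node (nat_lit 0x1038109151341) (.leaf (nat_lit 0x1038109151301) (nat_lit 1280))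
 (.leaf (nat_lit 0x1038109151341) (nat_lit 1290))
) (.node (nat_lit 0x1038109151751) (.leaf (nat_lit 0x1038109151711) (nat_lit 1546))
 (.leaf (nat_lit 0x1038109151751) (nat_lit 1546))
)) (.node (nat_lit 0x1038109151f11) (.node (nat_lit 0x1038109151b41) (.leaf (nat_lit 0x1038109151b01) (nat_lit 1027))
 (.leaf (nat_lit 0x1038109151b41) (nat_lit 1031))
) (.node (nat_lit 0x1038109151f51) (.leaf (nat_lit 0x1038109151f11) (nat_lit 1288))
 (.leaf (nat_lit 0x1038109151f51) (nat_lit 1280))
))) (.node (nat_lit 0x1038109153b01) (.node (nat_lit 0x1038109153711) (.node (nat_lit 0x1038109153341) (.leaf (nat_lit 0x1038109153301) (nat_lit 1290))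
 (.leaf (nat_lit 0x1038109153341) (nat_lit 1290))
) (.node (nat_lit 0x1038109153751) (.leaf (nat_lit 0x1038109153711) (nat_lit 1546))
 (.leaf (nat_lit 0x1038109153751) (nat_lit 1536))
)) (.node (nat_lit 0x1038109153f11) (.node (nat_lit 0x1038109153b41) (.leaf (nat_lit 0x1038109153b01) (nat_lit 1024))
 (.leaf (nat_lit 0x1038109153b41) (nat_lit 1028))
) (.node (nat_lit 0x1038109153f51) (.leaf (nat_lit 0x1038109153f11) (nat_lit 1285))
 (.leaf (nat_lit 0x1038109153f51) (nat_lit 1285))
)))))) (.node (nat_lit 0x103810b110381) (.node (nat_lit 0x103810b051381) (.node (nat_lit 0x103810b012381) (.node (nat_lit 0x103810b010b81) (.node (nat_lit 0x103810b010791) (.node (nat_lit 0x103810b0103c1) (.leaf (nat_lit 0x103810b010381) (nat_lit 1536))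
 (.leaf (nat_lit 0x103810b0103c1) (nat_lit 1544))
) (.node (nat_lit 0x103810b0107d1) (.leaf (nat_lit 0x103810b010791) (nat_lit 1034))
 (.leaf (nat_lit 0x103810b0107d1) (nat_lit 1024))
)) (.node (nat_lit 0x103810b010f91) (.node (nat_lit 0x103810b010bc1) (.leaf (nat_lit 0x103810b010b81) (nat_lit 1802))
 (.leaf (nat_lit 0x103810b010bc1) (nat_lit 1802))
) (.node (nat_lit 0x103810b010fd1) (.leaf (nat_lit 0x103810b010f91) (nat_lit 773))
 (.leaf (nat_lit 0x103810b010fd1) (nat_lit 1024))
))) (.node (nat_lit 0x103810b012b81) (.node (nat_lit 0x103810b012791) (.node (nat_lit 0x103810b0123c1) (.leaf (nat_lit 0x103810b012381) (nat_lit 1545))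
 (.leaf (nat_lit 0x103810b0123c1) (nat_lit 1544))
) (.node (nat_lit 0x103810b0127d1) (.leaf (nat_lit 0x103810b012791) (nat_lit 1034))
 (.leaf (nat_lit 0x103810b0127d1) (nat_lit 1034))
)) (.node (nat_lit 0x103810b012f91) (.node (nat_lit 0x103810b012bc1) (.leaf (nat_lit 0x103810b012b81) (nat_lit 1792))
 (.leaf (nat_lit 0x103810b012bc1) (nat_lit 1800))
) (.node (nat_lit 0x103810b012fd1) (.leaf (nat_lit 0x103810b012f91) (nat_lit 777))
 (.leaf (nat_lit 0x103810b012fd1) (nat_lit 768))
)))) (.node (nat_lit 0x103810b053381) (.node (nat_lit 0x103810b051b81) (.node (nat_lit 0x103810b051791) (.node (nat_lit 0x103810b0513c1) (.leaf (nat_lit 0x103810b051381) (nat_lit 1289))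
 (.leaf (nat_lit 0x103810b0513c1) (nat_lit 1288))
) (.node (nat_lit 0x103810b0517d1) (.leaf (nat_lit 0x103810b051791) (nat_lit 1290))
 (.leaf (nat_lit 0x103810b0517d1) (nat_lit 1290))
)) (.node (nat_lit 0x103810b051f91) (.node (nat_lit 0x103810b051bc1) (.leaf (nat_lit 0x103810b051b81) (nat_lit 1546))
 (.leaf (nat_lit 0x103810b051bc1) (nat_lit 1544))
) (.node (nat_lit 0x103810b051fd1) (.leaf (nat_lit 0x103810b051f91) (nat_lit 1033))
 (.leaf (nat_lit 0x103810b051fd1) (nat_lit 1030))
))) (.node (nat_lit 0x103810b053b81) (.node (nat_lit 0x103810b053791) (.node (nat_lit 0x103810b0533c1) (.leaf (nat_lit 0x103810b053381) (nat_lit 1289))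
 (.leaf (nat_lit 0x103810b0533c1) (nat_lit 1288))
) (.node (nat_lit 0x103810b0537d1) (.leaf (nat_lit 0x103810b053791) (nat_lit 1290))
 (.leaf (nat_lit 0x103810b0537d1) (nat_lit 1286))
)) (.node (nat_lit 0x103810b053f91) (.node (nat_lit 0x103810b053bc1) (.leaf (nat_lit 0x103810b053b81) (nat_lit 1546))
 (.leaf (nat_lit 0x103810b053bc1) (nat_lit 1546))
) (.node (nat_lit 0x103810b053fd1) (.leaf (nat_lit 0x103810b053f91) (nat_lit 1029))
 (.leaf (nat_lit 0x103810b053fd1) (nat_lit 1024))
))))) (.node (nat_lit 0x103810b151381) (.node (nat_lit 0x103810b112381) (.node (nat_lit 0x103810b110b81) (.node (nat_lit 0x103810b110791) (.node (nat_lit 0x103810b1103c1) (.leaf (nat_lit 0x103810b110381) (nat_lit 1536))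
 (.leaf (nat_lit 0x103810b1103c1) (nat_lit 1800))
) (.node (nat_lit 0x103810b1107d1) (.leaf (nat_lit 0x103810b110791) (nat_lit 1280))
 (.leaf (nat_lit 0x103810b1107d1) (nat_lit 1280))
)) (.node (nat_lit 0x103810b110f91) (.node (nat_lit 0x103810b110bc1) (.leaf (nat_lit 0x103810b110b81) (nat_lit 1798))
 (.leaf (nat_lit 0x103810b110bc1) (nat_lit 1800))
) (.node (nat_lit 0x103810b110fd1) (.leaf (nat_lit 0x103810b110f91) (nat_lit 1029))
 (.leaf (nat_lit 0x103810b110fd1) (nat_lit 1026))
))) (.node (nat_lit 0x103810b112b81) (.node (nat_lit 0x103810b112791) (.node (nat_lit 0x103810b1123c1) (.leaf (nat_lit 0x103810b112381) (nat_lit 1542))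
 (.leaf (nat_lit 0x103810b1123c1) (nat_lit 1544))
) (.node (nat_lit 0x103810b1127d1) (.leaf (nat_lit 0x103810b112791) (nat_lit 1290))
 (.leaf (nat_lit 0x103810b1127d1) (nat_lit 1290))
)) (.node (nat_lit 0x103810b112f91) (.node (nat_lit 0x103810b112bc1) (.leaf (nat_lit 0x103810b112b81) (nat_lit 1802))
 (.leaf (nat_lit 0x103810b112bc1) (nat_lit 1802))
) (.node (nat_lit 0x103810b112fd1) (.leaf (nat_lit 0x103810b112f91) (nat_lit 1024))
 (.leaf (nat_lit 0x103810b112fd1) (nat_lit 1024))
)))) (.node (nat_lit 0x103810b153381) (.node (nat_lit 0x103810b151b81) (.node (nat_lit 0x103810b151791) (.node (nat_lit 0x103810b1513c1) (.leaf (nat_lit 0x103810b151381) (nat_lit 1280))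
 (.leaf (nat_lit 0x103810b1513c1) (nat_lit 1544))
) (.node (nat_lit 0x103810b1517d1) (.leaf (nat_lit 0x103810b151791) (nat_lit 1546))
 (.leaf (nat_lit 0x103810b1517d1) (nat_lit 1280))
)) (.node (nat_lit 0x103810b151f91) (.node (nat_lit 0x103810b151bc1) (.leaf (nat_lit 0x103810b151b81) (nat_lit 1546))
 (.leaf (nat_lit 0x103810b151bc1) (nat_lit 1800))
) (.node (nat_lit 0x103810b151fd1) (.leaf (nat_lit 0x103810b151f91) (nat_lit 1286))
 (.leaf (nat_lit 0x103810b151fd1) (nat_lit 1280))
))) (.node (nat_lit 0x103810b153b81) (.node (nat_lit 0x103810b153791) (.node (nat_lit 0x103810b1533c1) (.leaf (nat_lit 0x103810b153381) (nat_lit 1536))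
 (.leaf (nat_lit 0x103810b1533c1) (nat_lit 1544))
) (.node (nat_lit 0x103810b1537d1) (.leaf (nat_lit 0x103810b153791) (nat_lit 1542))
 (.leaf (nat_lit 0x103810b1537d1) (nat_lit 1290))
)) (.node (nat_lit 0x103810b153f91) (.node (nat_lit 0x103810b153bc1) (.leaf (nat_lit 0x103810b153b81) (nat_lit 1536))
 (.leaf (nat_lit 0x103810b153bc1) (nat_lit 1802))
) (.node (nat_lit 0x103810b153fd1) (.leaf (nat_lit 0x103810b153f91) (nat_lit 1285))
 (.leaf (nat_lit 0x103810b153fd1) (nat_lit 1024))
)))))))) (.node (nat_lit 0x1038509010301) (.node (nat_lit 0x1038503010381) (.node (nat_lit 0x1038501110301) (.node (nat_lit 0x1038501051301) (.node (nat_lit 0x1038501012301) (.node (nat_lit 0x1038501010b01) (.node (nat_lit 0x1038501010711) (.node (nat_lit 0x1038501010341) (.leaf (nat_lit 0x1038501010301) (nat_lit 1034))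
 (.leaf (nat_lit 0x1038501010341) (nat_lit 1287))
) (.node (nat_lit 0x1038501010751) (.leaf (nat_lit 0x1038501010711) (nat_lit 1024))
 (.leaf (nat_lit 0x1038501010751) (nat_lit 778))
)) (.node (nat_lit 0x1038501010f11) (.node (nat_lit 0x1038501010b41) (.leaf (nat_lit 0x1038501010b01) (nat_lit 1031))
 (.leaf (nat_lit 0x1038501010b41) (nat_lit 1031))
) (.node (nat_lit 0x1038501010f51) (.leaf (nat_lit 0x1038501010f11) (nat_lit 768))
 (.leaf (nat_lit 0x1038501010f51) (nat_lit 776))
))) (.node (nat_lit 0x1038501012b01) (.node (nat_lit 0x1038501012711) (.node (nat_lit 0x1038501012341) (.leaf (nat_lit 0x1038501012301) (nat_lit 1031))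
 (.leaf (nat_lit 0x1038501012341) (nat_lit 1290))
) (.node (nat_lit 0x1038501012751) (.leaf (nat_lit 0x1038501012711) (nat_lit 1034))
 (.leaf (nat_lit 0x1038501012751) (nat_lit 776))
)) (.node (nat_lit 0x1038501012f11) (.node (nat_lit 0x1038501012b41) (.leaf (nat_lit 0x1038501012b01) (nat_lit 775))
 (.leaf (nat_lit 0x1038501012b41) (nat_lit 1028))
) (.node (nat_lit 0x1038501012f51) (.leaf (nat_lit 0x1038501012f11) (nat_lit 1028))
 (.leaf (nat_lit 0x1038501012f51) (nat_lit 520))
)))) (.node (nat_lit 0x1038501053301) (.node (nat_lit 0x1038501051b01) (.node (nat_lit 0x1038501051711) (.node (nat_lit 0x1038501051341) (.leaf (nat_lit 0x1038501051301) (nat_lit 1034))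
 (.leaf (nat_lit 0x1038501051341) (nat_lit 1034))
) (.node (nat_lit 0x1038501051751) (.leaf (nat_lit 0x1038501051711) (nat_lit 1290))
 (.leaf (nat_lit 0x1038501051751) (nat_lit 1034))
)) (.node (nat_lit 0x1038501051f11) (.node (nat_lit 0x1038501051b41) (.leaf (nat_lit 0x1038501051b01) (nat_lit 770))
 (.leaf (nat_lit 0x1038501051b41) (nat_lit 775))
) (.node (nat_lit 0x1038501051f51) (.leaf (nat_lit 0x1038501051f11) (nat_lit 1032))
 (.leaf (nat_lit 0x1038501051f51) (nat_lit 1026))
))) (.node (nat_lit 0x1038501053b01) (.node (nat_lit 0x1038501053711) (.node (nat_lit 0x1038501053341) (.leaf (nat_lit 0x1038501053301) (nat_lit 1034))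
 (.leaf (nat_lit 0x1038501053341) (nat_lit 1034))
) (.node (nat_lit 0x1038501053751) (.leaf (nat_lit 0x1038501053711) (nat_lit 1290))
 (.leaf (nat_lit 0x1038501053751) (nat_lit 1032))
)) (.node (nat_lit 0x1038501053f11) (.node (nat_lit 0x1038501053b41) (.leaf (nat_lit 0x1038501053b01) (nat_lit 775))
 (.leaf (nat_lit 0x1038501053b41) (nat_lit 772))
) (.node (nat_lit 0x1038501053f51) (.leaf (nat_lit 0x1038501053f11) (nat_lit 1028))
 (.leaf (nat_lit 0x1038501053f51) (nat_lit 776))
))))) (.node (nat_lit 0x1038501151301) (.node (nat_lit 0x1038501112301) (.node (nat_lit 0x1038501110b01) (.node (nat_lit 0x1038501110711) (.node (nat_lit 0x1038501110341) (.leaf (nat_lit 0x1038501110301) (nat_lit 1034))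
 (.leaf (nat_lit 0x1038501110341) (nat_lit 1290))
) (.node (nat_lit 0x1038501110751) (.leaf (nat_lit 0x1038501110711) (nat_lit 1034))
 (.leaf (nat_lit 0x1038501110751) (nat_lit 1034))
)) (.node (nat_lit 0x1038501110f11) (.node (nat_lit 0x1038501110b41) (.leaf (nat_lit 0x1038501110b01) (nat_lit 1026))
 (.leaf (nat_lit 0x1038501110b41) (nat_lit 1031))
) (.node (nat_lit 0x1038501110f51) (.leaf (nat_lit 0x1038501110f11) (nat_lit 776))
 (.leaf (nat_lit 0x1038501110f51) (nat_lit 770))
))) (.node (nat_lit 0x1038501112b01) (.node (nat_lit 0x1038501112711) (.node (nat_lit 0x1038501112341) (.leaf (nat_lit 0x1038501112301) (nat_lit 1031))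
 (.leaf (nat_lit 0x1038501112341) (nat_lit 1290))
) (.node (nat_lit 0x1038501112751) (.leaf (nat_lit 0x1038501112711) (nat_lit 1034))
 (.leaf (nat_lit 0x1038501112751) (nat_lit 1034))
)) (.node (nat_lit 0x1038501112f11) (.node (nat_lit 0x1038501112b41) (.leaf (nat_lit 0x1038501112b01) (nat_lit 775))
 (.leaf (nat_lit 0x1038501112b41) (nat_lit 1028))
) (.node (nat_lit 0x1038501112f51) (.leaf (nat_lit 0x1038501112f11) (nat_lit 772))
 (.leaf (nat_lit 0x1038501112f51) (nat_lit 776))
)))) (.node (nat_lit 0x1038501153301) (.node (nat_lit 0x1038501151b01) (.node (nat_lit 0x1038501151711) (.node (nat_lit 0x1038501151341) (.leaf (nat_lit 0x1038501151301) (nat_lit 778))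
 (.leaf (nat_lit 0x1038501151341) (nat_lit 1290))
) (.node (nat_lit 0x1038501151751) (.leaf (nat_lit 0x1038501151711) (nat_lit 1286))
 (.leaf (nat_lit 0x1038501151751) (nat_lit 1034))
)) (.node (nat_lit 0x1038501151f11) (.node (nat_lit 0x1038501151b41) (.leaf (nat_lit 0x1038501151b01) (nat_lit 775))
 (.leaf (nat_lit 0x1038501151b41) (nat_lit 1031))
) (.node (nat_lit 0x1038501151f51) (.leaf (nat_lit 0x1038501151f11) (nat_lit 1030))
 (.leaf (nat_lit 0x1038501151f51) (nat_lit 1032))
))) (.node (nat_lit 0x1038501153b01) (.node (nat_lit 0x1038501153711) (.node (nat_lit 0x1038501153341) (.leaf (nat_lit 0x1038501153301) (nat_lit 775))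
 (.leaf (nat_lit 0x1038501153341) (nat_lit 1290))
) (.node (nat_lit 0x1038501153751) (.leaf (nat_lit 0x1038501153711) (nat_lit 1290))
 (.leaf (nat_lit 0x1038501153751) (nat_lit 1032))
)) (.node (nat_lit 0x1038501153f11) (.node (nat_lit 0x1038501153b41) (.leaf (nat_lit 0x1038501153b01) (nat_lit 519))
 (.leaf (nat_lit 0x1038501153b41) (nat_lit 1028))
) (.node (nat_lit 0x1038501153f51) (.leaf (nat_lit 0x1038501153f11) (nat_lit 1028))
 (.leaf (nat_lit 0x1038501153f51) (nat_lit 776))
)))))) (.node (nat_lit 0x1038503110381) (.node (nat_lit 0x1038503051381) (.node (nat_lit 0x1038503012381) (.node (nat_lit 0x1038503010b81) (.node (nat_lit 0x1038503010791) (.node (nat_lit 0x10385030103c1) (.leaf (nat_lit 0x1038503010381) (nat_lit 1545))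
 (.leaf (nat_lit 0x10385030103c1) (nat_lit 1544))
) (.node (nat_lit 0x10385030107d1) (.leaf (nat_lit 0x1038503010791) (nat_lit 1024))
 (.leaf (nat_lit 0x10385030107d1) (nat_lit 1034))
)) (.node (nat_lit 0x1038503010f91) (.node (nat_lit 0x1038503010bc1) (.leaf (nat_lit 0x1038503010b81) (nat_lit 1546))
 (.leaf (nat_lit 0x1038503010bc1) (nat_lit 1546))
) (.node (nat_lit 0x1038503010fd1) (.leaf (nat_lit 0x1038503010f91) (nat_lit 768))
 (.leaf (nat_lit 0x1038503010fd1) (nat_lit 777))
))) (.node (nat_lit 0x1038503012b81) (.node (nat_lit 0x1038503012791) (.node (nat_lit 0x10385030123c1) (.leaf (nat_lit 0x1038503012381) (nat_lit 1287))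
 (.leaf (nat_lit 0x10385030123c1) (nat_lit 1288))
) (.node (nat_lit 0x10385030127d1) (.leaf (nat_lit 0x1038503012791) (nat_lit 1034))
 (.leaf (nat_lit 0x10385030127d1) (nat_lit 1034))
)) (.node (nat_lit 0x1038503012f91) (.node (nat_lit 0x1038503012bc1) (.leaf (nat_lit 0x1038503012b81) (nat_lit 1543))
 (.leaf (nat_lit 0x1038503012bc1) (nat_lit 1544))
) (.node (nat_lit 0x1038503012fd1) (.leaf (nat_lit 0x1038503012f91) (nat_lit 1024))
 (.leaf (nat_lit 0x1038503012fd1) (nat_lit 773))
)))) (.node (nat_lit 0x1038503053381) (.node (nat_lit 0x1038503051b81) (.node (nat_lit 0x1038503051791) (.node (nat_lit 0x10385030513c1) (.leaf (nat_lit 0x1038503051381) (nat_lit 1280))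
 (.leaf (nat_lit 0x10385030513c1) (nat_lit 1288))
) (.node (nat_lit 0x10385030517d1) (.leaf (nat_lit 0x1038503051791) (nat_lit 1290))
 (.leaf (nat_lit 0x10385030517d1) (nat_lit 1289))
)) (.node (nat_lit 0x1038503051f91) (.node (nat_lit 0x1038503051bc1) (.leaf (nat_lit 0x1038503051b81) (nat_lit 1546))
 (.leaf (nat_lit 0x1038503051bc1) (nat_lit 1290))
) (.node (nat_lit 0x1038503051fd1) (.leaf (nat_lit 0x1038503051f91) (nat_lit 1024))
 (.leaf (nat_lit 0x1038503051fd1) (nat_lit 1033))
))) (.node (nat_lit 0x1038503053b81) (.node (nat_lit 0x1038503053791) (.node (nat_lit 0x10385030533c1) (.leaf (nat_lit 0x1038503053381) (nat_lit 1287))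
 (.leaf (nat_lit 0x10385030533c1) (nat_lit 1032))
) (.node (nat_lit 0x10385030537d1) (.leaf (nat_lit 0x1038503053791) (nat_lit 1280))
 (.leaf (nat_lit 0x10385030537d1) (nat_lit 1290))
)) (.node (nat_lit 0x1038503053f91) (.node (nat_lit 0x1038503053bc1) (.leaf (nat_lit 0x1038503053b81) (nat_lit 1543))
 (.leaf (nat_lit 0x1038503053bc1) (nat_lit 1288))
) (.node (nat_lit 0x1038503053fd1) (.leaf (nat_lit 0x1038503053f91) (nat_lit 1024))
 (.leaf (nat_lit 0x1038503053fd1) (nat_lit 1029))
))))) (.node (nat_lit 0x1038503151381) (.node (nat_lit 0x1038503112381) (.node (nat_lit 0x1038503110b81) (.node (nat_lit 0x1038503110791) (.node (nat_lit 0x10385031103c1) (.leaf (nat_lit 0x1038503110381) (nat_lit 1543))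
 (.leaf (nat_lit 0x10385031103c1) (nat_lit 1544))
) (.node (nat_lit 0x10385031107d1) (.leaf (nat_lit 0x1038503110791) (nat_lit 1290))
 (.leaf (nat_lit 0x10385031107d1) (nat_lit 1290))
)) (.node (nat_lit 0x1038503110f91) (.node (nat_lit 0x1038503110bc1) (.leaf (nat_lit 0x1038503110b81) (nat_lit 1546))
 (.leaf (nat_lit 0x1038503110bc1) (nat_lit 1546))
) (.node (nat_lit 0x1038503110fd1) (.leaf (nat_lit 0x1038503110f91) (nat_lit 1033))
 (.leaf (nat_lit 0x1038503110fd1) (nat_lit 1033))
))) (.node (nat_lit 0x1038503112b81) (.node (nat_lit 0x1038503112791) (.node (nat_lit 0x10385031123c1) (.leaf (nat_lit 0x1038503112381) (nat_lit 1287))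
 (.leaf (nat_lit 0x10385031123c1) (nat_lit 1288))
) (.node (nat_lit 0x10385031127d1) (.leaf (nat_lit 0x1038503112791) (nat_lit 1290))
 (.leaf (nat_lit 0x10385031127d1) (nat_lit 1290))
)) (.node (nat_lit 0x1038503112f91) (.node (nat_lit 0x1038503112bc1) (.leaf (nat_lit 0x1038503112b81) (nat_lit 1543))
 (.leaf (nat_lit 0x1038503112bc1) (nat_lit 1544))
) (.node (nat_lit 0x1038503112fd1) (.leaf (nat_lit 0x1038503112f91) (nat_lit 1029))
 (.leaf (nat_lit 0x1038503112fd1) (nat_lit 1029))
)))) (.node (nat_lit 0x1038503153381) (.node (nat_lit 0x1038503151b81) (.node (nat_lit 0x1038503151791) (.node (nat_lit 0x10385031513c1) (.leaf (nat_lit 0x1038503151381) (nat_lit 1289))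
 (.leaf (nat_lit 0x10385031513c1) (nat_lit 1288))
) (.node (nat_lit 0x10385031517d1) (.leaf (nat_lit 0x1038503151791) (nat_lit 1286))
 (.leaf (nat_lit 0x10385031517d1) (nat_lit 1290))
)) (.node (nat_lit 0x1038503151f91) (.node (nat_lit 0x1038503151bc1) (.leaf (nat_lit 0x1038503151b81) (nat_lit 1290))
 (.leaf (nat_lit 0x1038503151bc1) (nat_lit 1546))
) (.node (nat_lit 0x1038503151fd1) (.leaf (nat_lit 0x1038503151f91) (nat_lit 1030))
 (.leaf (nat_lit 0x1038503151fd1) (nat_lit 1033))
))) (.node (nat_lit 0x1038503153b81) (.node (nat_lit 0x1038503153791) (.node (nat_lit 0x10385031533c1) (.leaf (nat_lit 0x1038503153381) (nat_lit 1031))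
 (.leaf (nat_lit 0x10385031533c1) (nat_lit 1288))
) (.node (nat_lit 0x10385031537d1) (.leaf (nat_lit 0x1038503153791) (nat_lit 1290))
 (.leaf (nat_lit 0x10385031537d1) (nat_lit 1290))
)) (.node (nat_lit 0x1038503153f91) (.node (nat_lit 0x1038503153bc1) (.leaf (nat_lit 0x1038503153b81) (nat_lit 1287))
 (.leaf (nat_lit 0x1038503153bc1) (nat_lit 1544))
) (.node (nat_lit 0x1038503153fd1) (.leaf (nat_lit 0x1038503153f91) (nat_lit 1027))
 (.leaf (nat_lit 0x1038503153fd1) (nat_lit 1029))
))))))) (.node (nat_lit 0x103850b010381) (.node (nat_lit 0x1038509110301) (.node (nat_lit 0x1038509051301) (.node (nat_lit 0x1038509012301) (.node (nat_lit 0x1038509010b01) (.node (nat_lit 0x1038509010711) (.node (nat_lit 0x1038509010341) (.leaf (nat_lit 0x1038509010301) (nat_lit 1290))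
 (.leaf (nat_lit 0x1038509010341) (nat_lit 1543))
) (.node (nat_lit 0x1038509010751) (.leaf (nat_lit 0x1038509010711) (nat_lit 1290))
 (.leaf (nat_lit 0x1038509010751) (nat_lit 1034))
)) (.node (nat_lit 0x1038509010f11) (.node (nat_lit 0x1038509010b41) (.leaf (nat_lit 0x1038509010b01) (nat_lit 1287))
 (.leaf (nat_lit 0x1038509010b41) (nat_lit 1287))
) (.node (nat_lit 0x1038509010f51) (.leaf (nat_lit 0x1038509010f11) (nat_lit 1029))
 (.leaf (nat_lit 0x1038509010f51) (nat_lit 776))
))) (.node (nat_lit 0x1038509012b01) (.node (nat_lit 0x1038509012711) (.node (nat_lit 0x1038509012341) (.leaf (nat_lit 0x1038509012301) (nat_lit 1287))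
 (.leaf (nat_lit 0x1038509012341) (nat_lit 1546))
) (.node (nat_lit 0x1038509012751) (.leaf (nat_lit 0x1038509012711) (nat_lit 1280))
 (.leaf (nat_lit 0x1038509012751) (nat_lit 1034))
)) (.node (nat_lit 0x1038509012f11) (.node (nat_lit 0x1038509012b41) (.leaf (nat_lit 0x1038509012b01) (nat_lit 1031))
 (.leaf (nat_lit 0x1038509012b41) (nat_lit 1284))
) (.node (nat_lit 0x1038509012f51) (.leaf (nat_lit 0x1038509012f11) (nat_lit 1024))
 (.leaf (nat_lit 0x1038509012f51) (nat_lit 773))
)))) (.node (nat_lit 0x1038509053301) (.node (nat_lit 0x1038509051b01) (.node (nat_lit 0x1038509051711) (.node (nat_lit 0x1038509051341) (.leaf (nat_lit 0x1038509051301) (nat_lit 1290))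
 (.leaf (nat_lit 0x1038509051341) (nat_lit 1290))
) (.node (nat_lit 0x1038509051751) (.leaf (nat_lit 0x1038509051711) (nat_lit 1546))
 (.leaf (nat_lit 0x1038509051751) (nat_lit 1288))
)) (.node (nat_lit 0x1038509051f11) (.node (nat_lit 0x1038509051b41) (.leaf (nat_lit 0x1038509051b01) (nat_lit 1026))
 (.leaf (nat_lit 0x1038509051b41) (nat_lit 1031))
) (.node (nat_lit 0x1038509051f51) (.leaf (nat_lit 0x1038509051f11) (nat_lit 1285))
 (.leaf (nat_lit 0x1038509051f51) (nat_lit 1032))
))) (.node (nat_lit 0x1038509053b01) (.node (nat_lit 0x1038509053711) (.node (nat_lit 0x1038509053341) (.leaf (nat_lit 0x1038509053301) (nat_lit 1290))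
 (.leaf (nat_lit 0x1038509053341) (nat_lit 1290))
) (.node (nat_lit 0x1038509053751) (.leaf (nat_lit 0x1038509053711) (nat_lit 1546))
 (.leaf (nat_lit 0x1038509053751) (nat_lit 1290))
)) (.node (nat_lit 0x1038509053f11) (.node (nat_lit 0x1038509053b41) (.leaf (nat_lit 0x1038509053b01) (nat_lit 1031))
 (.leaf (nat_lit 0x1038509053b41) (nat_lit 1028))
) (.node (nat_lit 0x1038509053f51) (.leaf (nat_lit 0x1038509053f11) (nat_lit 1288))
 (.leaf (nat_lit 0x1038509053f51) (nat_lit 1029))
))))) (.node (nat_lit 0x1038509151301) (.node (nat_lit 0x1038509112301) (.node (nat_lit 0x1038509110b01) (.node (nat_lit 0x1038509110711) (.node (nat_lit 0x1038509110341) (.leaf (nat_lit 0x1038509110301) (nat_lit 1290))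
 (.leaf (nat_lit 0x1038509110341) (nat_lit 1546))
) (.node (nat_lit 0x1038509110751) (.leaf (nat_lit 0x1038509110711) (nat_lit 1290))
 (.leaf (nat_lit 0x1038509110751) (nat_lit 1290))
)) (.node (nat_lit 0x1038509110f11) (.node (nat_lit 0x1038509110b41) (.leaf (nat_lit 0x1038509110b01) (nat_lit 1282))
 (.leaf (nat_lit 0x1038509110b41) (nat_lit 1287))
) (.node (nat_lit 0x1038509110f51) (.leaf (nat_lit 0x1038509110f11) (nat_lit 1029))
 (.leaf (nat_lit 0x1038509110f51) (nat_lit 1032))
))) (.node (nat_lit 0x1038509112b01) (.node (nat_lit 0x1038509112711) (.node (nat_lit 0x1038509112341) (.leaf (nat_lit 0x1038509112301) (nat_lit 1287))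
 (.leaf (nat_lit 0x1038509112341) (nat_lit 1546))
) (.node (nat_lit 0x1038509112751) (.leaf (nat_lit 0x1038509112711) (nat_lit 1290))
 (.leaf (nat_lit 0x1038509112751) (nat_lit 1290))
)) (.node (nat_lit 0x1038509112f11) (.node (nat_lit 0x1038509112b41) (.leaf (nat_lit 0x1038509112b01) (nat_lit 1031))
 (.leaf (nat_lit 0x1038509112b41) (nat_lit 1284))
) (.node (nat_lit 0x1038509112f51) (.leaf (nat_lit 0x1038509112f11) (nat_lit 1032))
 (.leaf (nat_lit 0x1038509112f51) (nat_lit 1029))
)))) (.node (nat_lit 0x1038509153301) (.node (nat_lit 0x1038509151b01) (.node (nat_lit 0x1038509151711) (.node (nat_lit 0x1038509151341) (.leaf (nat_lit 0x1038509151301) (nat_lit 1034))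
 (.leaf (nat_lit 0x1038509151341) (nat_lit 1546))
) (.node (nat_lit 0x1038509151751) (.leaf (nat_lit 0x1038509151711) (nat_lit 1546))
 (.leaf (nat_lit 0x1038509151751) (nat_lit 1290))
)) (.node (nat_lit 0x1038509151f11) (.node (nat_lit 0x1038509151b41) (.leaf (nat_lit 0x1038509151b01) (nat_lit 1031))
 (.leaf (nat_lit 0x1038509151b41) (nat_lit 1287))
) (.node (nat_lit 0x1038509151f51) (.leaf (nat_lit 0x1038509151f11) (nat_lit 1286))
 (.leaf (nat_lit 0x1038509151f51) (nat_lit 1032))
))) (.node (nat_lit 0x1038509153b01) (.node (nat_lit 0x1038509153711) (.node (nat_lit 0x1038509153341) (.leaf (nat_lit 0x1038509153301) (nat_lit 1031))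
 (.leaf (nat_lit 0x1038509153341) (nat_lit 1546))
) (.node (nat_lit 0x1038509153751) (.leaf (nat_lit 0x1038509153711) (nat_lit 1542))
 (.leaf (nat_lit 0x1038509153751) (nat_lit 1290))
)) (.node (nat_lit 0x1038509153f11) (.node (nat_lit 0x1038509153b41) (.leaf (nat_lit 0x1038509153b01) (nat_lit 775))
 (.leaf (nat_lit 0x1038509153b41) (nat_lit 1284))
) (.node (nat_lit 0x1038509153f51) (.leaf (nat_lit 0x1038509153f11) (nat_lit 1286))
 (.leaf (nat_lit 0x1038509153f51) (nat_lit 1029))
)))))) (.node (nat_lit 0x103850b110381) (.node (nat_lit 0x103850b051381) (.node (nat_lit 0x103850b012381) (.node (nat_lit 0x103850b010b81) (.node (nat_lit 0x103850b010791) (.node (nat_lit 0x103850b0103c1) (.leaf (nat_lit 0x103850b010381) (nat_lit 1289))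
 (.leaf (nat_lit 0x103850b0103c1) (nat_lit 1545))
) (.node (nat_lit 0x103850b0107d1) (.leaf (nat_lit 0x103850b010791) (nat_lit 1290))
 (.leaf (nat_lit 0x103850b0107d1) (nat_lit 778))
)) (.node (nat_lit 0x103850b010f91) (.node (nat_lit 0x103850b010bc1) (.leaf (nat_lit 0x103850b010b81) (nat_lit 1545))
 (.leaf (nat_lit 0x103850b010bc1) (nat_lit 1546))
) (.node (nat_lit 0x103850b010fd1) (.leaf (nat_lit 0x103850b010f91) (nat_lit 1026))
 (.leaf (nat_lit 0x103850b010fd1) (nat_lit 777))
))) (.node (nat_lit 0x103850b012b81) (.node (nat_lit 0x103850b012791) (.node (nat_lit 0x103850b0123c1) (.leaf (nat_lit 0x103850b012381) (nat_lit 1545))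
 (.leaf (nat_lit 0x103850b0123c1) (nat_lit 1289))
) (.node (nat_lit 0x103850b0127d1) (.leaf (nat_lit 0x103850b012791) (nat_lit 1290))
 (.leaf (nat_lit 0x103850b0127d1) (nat_lit 777))
)) (.node (nat_lit 0x103850b012f91) (.node (nat_lit 0x103850b012bc1) (.leaf (nat_lit 0x103850b012b81) (nat_lit 1546))
 (.leaf (nat_lit 0x103850b012bc1) (nat_lit 1545))
) (.node (nat_lit 0x103850b012fd1) (.leaf (nat_lit 0x103850b012f91) (nat_lit 1033))
 (.leaf (nat_lit 0x103850b012fd1) (nat_lit 521))
)))) (.node (nat_lit 0x103850b053381) (.node (nat_lit 0x103850b051b81) (.node (nat_lit 0x103850b051791) (.node (nat_lit 0x103850b0513c1) (.leaf (nat_lit 0x103850b051381) (nat_lit 1289))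
 (.leaf (nat_lit 0x103850b0513c1) (nat_lit 1289))
) (.node (nat_lit 0x103850b0517d1) (.leaf (nat_lit 0x103850b051791) (nat_lit 1290))
 (.leaf (nat_lit 0x103850b0517d1) (nat_lit 1034))
)) (.node (nat_lit 0x103850b051f91) (.node (nat_lit 0x103850b051bc1) (.leaf (nat_lit 0x103850b051b81) (nat_lit 1546))
 (.leaf (nat_lit 0x103850b051bc1) (nat_lit 1290))
) (.node (nat_lit 0x103850b051fd1) (.leaf (nat_lit 0x103850b051f91) (nat_lit 1289))
 (.leaf (nat_lit 0x103850b051fd1) (nat_lit 1026))
))) (.node (nat_lit 0x103850b053b81) (.node (nat_lit 0x103850b053791) (.node (nat_lit 0x103850b0533c1) (.leaf (nat_lit 0x103850b053381) (nat_lit 1289))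
 (.leaf (nat_lit 0x103850b0533c1) (nat_lit 1033))
) (.node (nat_lit 0x103850b0537d1) (.leaf (nat_lit 0x103850b053791) (nat_lit 1289))
 (.leaf (nat_lit 0x103850b0537d1) (nat_lit 1033))
)) (.node (nat_lit 0x103850b053f91) (.node (nat_lit 0x103850b053bc1) (.leaf (nat_lit 0x103850b053b81) (nat_lit 1546))
 (.leaf (nat_lit 0x103850b053bc1) (nat_lit 1289))
) (.node (nat_lit 0x103850b053fd1) (.leaf (nat_lit 0x103850b053f91) (nat_lit 1033))
 (.leaf (nat_lit 0x103850b053fd1) (nat_lit 777))
))))) (.node (nat_lit 0x103850b151381) (.node (nat_lit 0x103850b112381) (.node (nat_lit 0x103850b110b81) (.node (nat_lit 0x103850b110791) (.node (nat_lit 0x103850b1103c1) (.leaf (nat_lit 0x103850b110381) (nat_lit 1289))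
 (.leaf (nat_lit 0x103850b1103c1) (nat_lit 1545))
) (.node (nat_lit 0x103850b1107d1) (.leaf (nat_lit 0x103850b110791) (nat_lit 1034))
 (.leaf (nat_lit 0x103850b1107d1) (nat_lit 1034))
)) (.node (nat_lit 0x103850b110f91) (.node (nat_lit 0x103850b110bc1) (.leaf (nat_lit 0x103850b110b81) (nat_lit 1545))
 (.leaf (nat_lit 0x103850b110bc1) (nat_lit 1546))
) (.node (nat_lit 0x103850b110fd1) (.leaf (nat_lit 0x103850b110f91) (nat_lit 1033))
 (.leaf (nat_lit 0x103850b110fd1) (nat_lit 770))
))) (.node (nat_lit 0x103850b112b81) (.node (nat_lit 0x103850b112791) (.node (nat_lit 0x103850b1123c1) (.leaf (nat_lit 0x103850b112381) (nat_lit 1545))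
 (.leaf (nat_lit 0x103850b1123c1) (nat_lit 1289))
) (.node (nat_lit 0x103850b1127d1) (.leaf (nat_lit 0x103850b112791) (nat_lit 1033))
 (.leaf (nat_lit 0x103850b1127d1) (nat_lit 1034))
)) (.node (nat_lit 0x103850b112f91) (.node (nat_lit 0x103850b112bc1) (.leaf (nat_lit 0x103850b112b81) (nat_lit 1546))
 (.leaf (nat_lit 0x103850b112bc1) (nat_lit 1545))
) (.node (nat_lit 0x103850b112fd1) (.leaf (nat_lit 0x103850b112f91) (nat_lit 777))
 (.leaf (nat_lit 0x103850b112fd1) (nat_lit 777))
)))) (.node (nat_lit 0x103850b153381) (.node (nat_lit 0x103850b151b81) (.node (nat_lit 0x103850b151791) (.node (nat_lit 0x103850b1513c1) (.leaf (nat_lit 0x103850b151381) (nat_lit 1033))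
 (.leaf (nat_lit 0x103850b1513c1) (nat_lit 1289))
) (.node (nat_lit 0x103850b1517d1) (.leaf (nat_lit 0x103850b151791) (nat_lit 1290))
 (.leaf (nat_lit 0x103850b1517d1) (nat_lit 1034))
)) (.node (nat_lit 0x103850b151f91) (.node (nat_lit 0x103850b151bc1) (.leaf (nat_lit 0x103850b151b81) (nat_lit 1289))
 (.leaf (nat_lit 0x103850b151bc1) (nat_lit 1546))
) (.node (nat_lit 0x103850b151fd1) (.leaf (nat_lit 0x103850b151f91) (nat_lit 1282))
 (.leaf (nat_lit 0x103850b151fd1) (nat_lit 1033))
))) (.node (nat_lit 0x103850b153b81) (.node (nat_lit 0x103850b153791) (.node (nat_lit 0x103850b1533c1) (.leaf (nat_lit 0x103850b153381) (nat_lit 1289))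
 (.leaf (nat_lit 0x103850b1533c1) (nat_lit 1289))
) (.node (nat_lit 0x103850b1537d1) (.leaf (nat_lit 0x103850b153791) (nat_lit 1289))
 (.leaf (nat_lit 0x103850b1537d1) (nat_lit 1033))
)) (.node (nat_lit 0x103850b153f91) (.node (nat_lit 0x103850b153bc1) (.leaf (nat_lit 0x103850b153b81) (nat_lit 1290))
 (.leaf (nat_lit 0x103850b153bc1) (nat_lit 1545))
) (.node (nat_lit 0x103850b153fd1) (.leaf (nat_lit 0x103850b153f91) (nat_lit 1033))
 (.leaf (nat_lit 0x103850b153fd1) (nat_lit 777))
)))))))))))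

theorem J0_ok : genOK B7.A [(nat_lit 0x1010501010101), (nat_lit 0x1010101012101), (nat_lit 0x1010101112101), (nat_lit 0x1030101010101), (nat_lit 0x1010101110141), (nat_lit 0x1010109010101), (nat_lit 0x1010101051901), (nat_lit 0x1018101051b01), (nat_lit 0x1018101010f11), (nat_lit 0x1018103010f91), (nat_lit 0x1010101010901)] J0_t (nat_lit 2048) = true := by decide +kernel

noncomputable def Lv0_t : ST :=
(.node (nat_lit 0x1010104230108) (.node (nat_lit 0x100410509410c) (.node (nat_lit 0x1002101a94101) (.node (nat_lit 0x1000904aa0120) (.node (nat_lit 0x10009040a4105) (.node (nat_lit 0x1000900aa4125) (.node (nat_lit 0x1000900830125) (.node (nat_lit 0x1000900824120) (.node (nat_lit 0x1000900820124) (.leaf (nat_lit 0x1000900820120) (nat_lit 2306))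
 (.leaf (nat_lit 0x1000900820124) (nat_lit 2562))
) (.node (nat_lit 0x1000900824124) (.leaf (nat_lit 0x1000900824120) (nat_lit 2562))
 (.node (nat_lit 0x1000900830121) (.leaf (nat_lit 0x1000900824124) (nat_lit 2818))
 (.leaf (nat_lit 0x1000900830121) (nat_lit 2563))
))) (.node (nat_lit 0x1000900aa0120) (.node (nat_lit 0x1000900834121) (.leaf (nat_lit 0x1000900830125) (nat_lit 2307))
 (.node (nat_lit 0x1000900834125) (.leaf (nat_lit 0x1000900834121) (nat_lit 2307))
 (.leaf (nat_lit 0x1000900834125) (nat_lit 2051))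
)) (.node (nat_lit 0x1000900aa0125) (.leaf (nat_lit 0x1000900aa0120) (nat_lit 2560))
 (.node (nat_lit 0x1000900aa4120) (.leaf (nat_lit 0x1000900aa0125) (nat_lit 2820))
 (.leaf (nat_lit 0x1000900aa4120) (nat_lit 2305))
)))) (.node (nat_lit 0x1000904020104) (.node (nat_lit 0x1000900ab0124) (.node (nat_lit 0x1000900ab0121) (.leaf (nat_lit 0x1000900aa4125) (nat_lit 2564))
 (.leaf (nat_lit 0x1000900ab0121) (nat_lit 2564))
) (.node (nat_lit 0x1000900ab4121) (.leaf (nat_lit 0x1000900ab0124) (nat_lit 2304))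
 (.node (nat_lit 0x1000900ab4124) (.leaf (nat_lit 0x1000900ab4121) (nat_lit 2308))
 (.leaf (nat_lit 0x1000900ab4124) (nat_lit 2049))
))) (.node (nat_lit 0x1000904024124) (.node (nat_lit 0x1000904020124) (.leaf (nat_lit 0x1000904020104) (nat_lit 3074))
 (.node (nat_lit 0x1000904024104) (.leaf (nat_lit 0x1000904020124) (nat_lit 2818))
 (.leaf (nat_lit 0x1000904024104) (nat_lit 3330))
)) (.node (nat_lit 0x10009040a0105) (.leaf (nat_lit 0x1000904024124) (nat_lit 3074))
 (.node (nat_lit 0x10009040a0125) (.leaf (nat_lit 0x10009040a0105) (nat_lit 2819))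
 (.leaf (nat_lit 0x10009040a0125) (nat_lit 3075))
))))) (.node (nat_lit 0x1000904820120) (.node (nat_lit 0x1000904234125) (.node (nat_lit 0x1000904230104) (.node (nat_lit 0x10009040a4125) (.leaf (nat_lit 0x10009040a4105) (nat_lit 2563))
 (.leaf (nat_lit 0x10009040a4125) (nat_lit 2819))
) (.node (nat_lit 0x1000904230125) (.leaf (nat_lit 0x1000904230104) (nat_lit 1792))
 (.node (nat_lit 0x1000904234104) (.leaf (nat_lit 0x1000904230125) (nat_lit 2052))
 (.leaf (nat_lit 0x1000904234104) (nat_lit 1537))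
))) (.node (nat_lit 0x10009042b4105) (.node (nat_lit 0x10009042b0105) (.leaf (nat_lit 0x1000904234125) (nat_lit 1796))
 (.node (nat_lit 0x10009042b0124) (.leaf (nat_lit 0x10009042b0105) (nat_lit 2308))
 (.leaf (nat_lit 0x10009042b0124) (nat_lit 2048))
)) (.node (nat_lit 0x10009042b4124) (.leaf (nat_lit 0x10009042b4105) (nat_lit 2052))
 (.node (nat_lit 0x1000904820104) (.leaf (nat_lit 0x10009042b4124) (nat_lit 1793))
 (.leaf (nat_lit 0x1000904820104) (nat_lit 2818))
)))) (.node (nat_lit 0x10009048b4121) (.node (nat_lit 0x10009048b0105) (.node (nat_lit 0x1000904824104) (.leaf (nat_lit 0x1000904820120) (nat_lit 2562))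
 (.node (nat_lit 0x1000904824120) (.leaf (nat_lit 0x1000904824104) (nat_lit 3074))
 (.leaf (nat_lit 0x1000904824120) (nat_lit 2818))
)) (.node (nat_lit 0x10009048b0121) (.leaf (nat_lit 0x10009048b0105) (nat_lit 2563))
 (.node (nat_lit 0x10009048b4105) (.leaf (nat_lit 0x10009048b0121) (nat_lit 2819))
 (.leaf (nat_lit 0x10009048b4105) (nat_lit 2307))
))) (.node (nat_lit 0x1000904a34104) (.node (nat_lit 0x1000904a30104) (.leaf (nat_lit 0x10009048b4121) (nat_lit 2563))
 (.node (nat_lit 0x1000904a30121) (.leaf (nat_lit 0x1000904a30104) (nat_lit 2048))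
 (.leaf (nat_lit 0x1000904a30121) (nat_lit 2308))
)) (.node (nat_lit 0x1000904a34121) (.leaf (nat_lit 0x1000904a34104) (nat_lit 1793))
 (.node (nat_lit 0x1000904aa0105) (.leaf (nat_lit 0x1000904a34121) (nat_lit 2052))
 (.leaf (nat_lit 0x1000904aa0105) (nat_lit 2564))
)))))) (.node (nat_lit 0x1002101090109) (.node (nat_lit 0x1002100aa0108) (.node (nat_lit 0x100210028410c) (.node (nat_lit 0x1000904aa4120) (.node (nat_lit 0x1000904aa4105) (.leaf (nat_lit 0x1000904aa0120) (nat_lit 2304))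
 (.leaf (nat_lit 0x1000904aa4105) (nat_lit 2308))
) (.node (nat_lit 0x1002100280108) (.leaf (nat_lit 0x1000904aa4120) (nat_lit 2049))
 (.node (nat_lit 0x1002100280109) (.leaf (nat_lit 0x1002100280108) (nat_lit 1539))
 (.leaf (nat_lit 0x1002100280109) (nat_lit 1283))
))) (.node (nat_lit 0x1002100290109) (.node (nat_lit 0x100210028410d) (.leaf (nat_lit 0x100210028410c) (nat_lit 1282))
 (.node (nat_lit 0x1002100290108) (.leaf (nat_lit 0x100210028410d) (nat_lit 1538))
 (.leaf (nat_lit 0x1002100290108) (nat_lit 1283))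
)) (.node (nat_lit 0x100210029410c) (.leaf (nat_lit 0x1002100290109) (nat_lit 1027))
 (.node (nat_lit 0x100210029410d) (.leaf (nat_lit 0x100210029410c) (nat_lit 1538))
 (.leaf (nat_lit 0x100210029410d) (nat_lit 1794))
)))) (.node (nat_lit 0x1002100ab010d) (.node (nat_lit 0x1002100aa4109) (.node (nat_lit 0x1002100aa010d) (.leaf (nat_lit 0x1002100aa0108) (nat_lit 1284))
 (.leaf (nat_lit 0x1002100aa010d) (nat_lit 1027))
) (.node (nat_lit 0x1002100aa410c) (.leaf (nat_lit 0x1002100aa4109) (nat_lit 1540))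
 (.node (nat_lit 0x1002100ab0108) (.leaf (nat_lit 0x1002100aa410c) (nat_lit 1282))
 (.leaf (nat_lit 0x1002100ab0108) (nat_lit 1540))
))) (.node (nat_lit 0x1002101080101) (.node (nat_lit 0x1002100ab4109) (.leaf (nat_lit 0x1002100ab010d) (nat_lit 1283))
 (.node (nat_lit 0x1002100ab410c) (.leaf (nat_lit 0x1002100ab4109) (nat_lit 1796))
 (.leaf (nat_lit 0x1002100ab410c) (nat_lit 1538))
)) (.node (nat_lit 0x1002101080109) (.leaf (nat_lit 0x1002101080101) (nat_lit 768))
 (.node (nat_lit 0x1002101090101) (.leaf (nat_lit 0x1002101080109) (nat_lit 1028))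
 (.leaf (nat_lit 0x1002101090101) (nat_lit 513))
))))) (.node (nat_lit 0x10021012b4105) (.node (nat_lit 0x1002101280101) (.node (nat_lit 0x10021010a010d) (.node (nat_lit 0x10021010a0105) (.leaf (nat_lit 0x1002101090109) (nat_lit 772))
 (.leaf (nat_lit 0x10021010a0105) (nat_lit 1028))
) (.node (nat_lit 0x10021010b0105) (.leaf (nat_lit 0x10021010a010d) (nat_lit 770))
 (.node (nat_lit 0x10021010b010d) (.leaf (nat_lit 0x10021010b0105) (nat_lit 1284))
 (.leaf (nat_lit 0x10021010b010d) (nat_lit 1026))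
))) (.node (nat_lit 0x1002101290108) (.node (nat_lit 0x1002101280108) (.leaf (nat_lit 0x1002101280101) (nat_lit 1027))
 (.node (nat_lit 0x1002101290101) (.leaf (nat_lit 0x1002101280108) (nat_lit 1284))
 (.leaf (nat_lit 0x1002101290101) (nat_lit 771))
)) (.node (nat_lit 0x10021012a4105) (.leaf (nat_lit 0x1002101290108) (nat_lit 1028))
 (.node (nat_lit 0x10021012a410c) (.leaf (nat_lit 0x10021012a4105) (nat_lit 1284))
 (.leaf (nat_lit 0x10021012a410c) (nat_lit 1026))
)))) (.node (nat_lit 0x10021018a4105) (.node (nat_lit 0x100210188410d) (.node (nat_lit 0x10021012b410c) (.leaf (nat_lit 0x10021012b4105) (nat_lit 1540))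
 (.node (nat_lit 0x1002101884101) (.leaf (nat_lit 0x10021012b410c) (nat_lit 1282))
 (.leaf (nat_lit 0x1002101884101) (nat_lit 2050))
)) (.node (nat_lit 0x1002101894101) (.leaf (nat_lit 0x100210188410d) (nat_lit 1794))
 (.node (nat_lit 0x100210189410d) (.leaf (nat_lit 0x1002101894101) (nat_lit 2306))
 (.leaf (nat_lit 0x100210189410d) (nat_lit 2050))
))) (.node (nat_lit 0x10021018b4109) (.node (nat_lit 0x10021018a4109) (.leaf (nat_lit 0x10021018a4105) (nat_lit 1539))
 (.node (nat_lit 0x10021018b4105) (.leaf (nat_lit 0x10021018a4109) (nat_lit 1795))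
 (.leaf (nat_lit 0x10021018b4105) (nat_lit 1795))
)) (.node (nat_lit 0x1002101a84101) (.leaf (nat_lit 0x10021018b4109) (nat_lit 2051))
 (.node (nat_lit 0x1002101a8410c) (.leaf (nat_lit 0x1002101a84101) (nat_lit 1794))
 (.leaf (nat_lit 0x1002101a8410c) (nat_lit 1538))
))))))) (.node (nat_lit 0x100290589012d) (.node (nat_lit 0x1002905020104) (.node (nat_lit 0x100290029012d) (.node (nat_lit 0x1002101ab0108) (.node (nat_lit 0x1002101aa0105) (.node (nat_lit 0x1002101a9410c) (.leaf (nat_lit 0x1002101a94101) (nat_lit 2050))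
 (.leaf (nat_lit 0x1002101a9410c) (nat_lit 1794))
) (.node (nat_lit 0x1002101aa0108) (.leaf (nat_lit 0x1002101aa0105) (nat_lit 1283))
 (.node (nat_lit 0x1002101ab0105) (.leaf (nat_lit 0x1002101aa0108) (nat_lit 1539))
 (.leaf (nat_lit 0x1002101ab0105) (nat_lit 1539))
))) (.node (nat_lit 0x100290028412c) (.node (nat_lit 0x1002900280128) (.leaf (nat_lit 0x1002101ab0108) (nat_lit 1795))
 (.node (nat_lit 0x1002900280129) (.leaf (nat_lit 0x1002900280128) (nat_lit 1280))
 (.leaf (nat_lit 0x1002900280129) (nat_lit 1536))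
)) (.node (nat_lit 0x100290028412d) (.leaf (nat_lit 0x100290028412c) (nat_lit 1281))
 (.node (nat_lit 0x100290029012c) (.leaf (nat_lit 0x100290028412d) (nat_lit 1537))
 (.leaf (nat_lit 0x100290029012c) (nat_lit 1536))
)))) (.node (nat_lit 0x1002900824129) (.node (nat_lit 0x1002900294129) (.node (nat_lit 0x1002900294128) (.leaf (nat_lit 0x100290029012d) (nat_lit 1792))
 (.leaf (nat_lit 0x1002900294128) (nat_lit 1025))
) (.node (nat_lit 0x1002900820128) (.leaf (nat_lit 0x1002900294129) (nat_lit 1281))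
 (.node (nat_lit 0x100290082012c) (.leaf (nat_lit 0x1002900820128) (nat_lit 2561))
 (.leaf (nat_lit 0x100290082012c) (nat_lit 2305))
))) (.node (nat_lit 0x100290083012d) (.node (nat_lit 0x100290082412d) (.leaf (nat_lit 0x1002900824129) (nat_lit 2305))
 (.node (nat_lit 0x1002900830129) (.leaf (nat_lit 0x100290082412d) (nat_lit 2049))
 (.leaf (nat_lit 0x1002900830129) (nat_lit 2560))
)) (.node (nat_lit 0x1002900834128) (.leaf (nat_lit 0x100290083012d) (nat_lit 2304))
 (.node (nat_lit 0x100290083412c) (.leaf (nat_lit 0x1002900834128) (nat_lit 2816))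
 (.leaf (nat_lit 0x100290083412c) (nat_lit 2560))
))))) (.node (nat_lit 0x100290523012d) (.node (nat_lit 0x1002905080129) (.node (nat_lit 0x1002905034104) (.node (nat_lit 0x100290502012c) (.leaf (nat_lit 0x1002905020104) (nat_lit 1793))
 (.leaf (nat_lit 0x100290502012c) (nat_lit 2049))
) (.node (nat_lit 0x100290503412c) (.leaf (nat_lit 0x1002905034104) (nat_lit 2048))
 (.node (nat_lit 0x1002905080101) (.leaf (nat_lit 0x100290503412c) (nat_lit 2304))
 (.leaf (nat_lit 0x1002905080101) (nat_lit 2048))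
))) (.node (nat_lit 0x1002905224104) (.node (nat_lit 0x1002905094101) (.leaf (nat_lit 0x1002905080129) (nat_lit 1792))
 (.node (nat_lit 0x1002905094129) (.leaf (nat_lit 0x1002905094101) (nat_lit 1793))
 (.leaf (nat_lit 0x1002905094129) (nat_lit 1537))
)) (.node (nat_lit 0x100290522412d) (.leaf (nat_lit 0x1002905224104) (nat_lit 1537))
 (.node (nat_lit 0x1002905230104) (.leaf (nat_lit 0x100290522412d) (nat_lit 1793))
 (.leaf (nat_lit 0x1002905230104) (nat_lit 1792))
)))) (.node (nat_lit 0x1002905820128) (.node (nat_lit 0x1002905294101) (.node (nat_lit 0x1002905280101) (.leaf (nat_lit 0x100290523012d) (nat_lit 2048))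
 (.node (nat_lit 0x1002905280128) (.leaf (nat_lit 0x1002905280101) (nat_lit 1792))
 (.leaf (nat_lit 0x1002905280128) (nat_lit 1536))
)) (.node (nat_lit 0x1002905294128) (.leaf (nat_lit 0x1002905294101) (nat_lit 1537))
 (.node (nat_lit 0x1002905820104) (.leaf (nat_lit 0x1002905294128) (nat_lit 1281))
 (.leaf (nat_lit 0x1002905820104) (nat_lit 2049))
))) (.node (nat_lit 0x1002905884101) (.node (nat_lit 0x1002905834104) (.leaf (nat_lit 0x1002905820128) (nat_lit 2305))
 (.node (nat_lit 0x1002905834128) (.leaf (nat_lit 0x1002905834104) (nat_lit 2304))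
 (.leaf (nat_lit 0x1002905834128) (nat_lit 2560))
)) (.node (nat_lit 0x100290588412d) (.leaf (nat_lit 0x1002905884101) (nat_lit 2049))
 (.node (nat_lit 0x1002905890101) (.leaf (nat_lit 0x100290588412d) (nat_lit 1793))
 (.leaf (nat_lit 0x1002905890101) (nat_lit 2304))
)))))) (.node (nat_lit 0x10041018a412c) (.node (nat_lit 0x1004100814128) (.node (nat_lit 0x1002905a84101) (.node (nat_lit 0x1002905a24129) (.node (nat_lit 0x1002905a24104) (.leaf (nat_lit 0x100290589012d) (nat_lit 2048))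
 (.leaf (nat_lit 0x1002905a24104) (nat_lit 1793))
) (.node (nat_lit 0x1002905a30104) (.leaf (nat_lit 0x1002905a24129) (nat_lit 2049))
 (.node (nat_lit 0x1002905a30129) (.leaf (nat_lit 0x1002905a30104) (nat_lit 2048))
 (.leaf (nat_lit 0x1002905a30129) (nat_lit 2304))
))) (.node (nat_lit 0x1002905a9012c) (.node (nat_lit 0x1002905a8412c) (.leaf (nat_lit 0x1002905a84101) (nat_lit 1793))
 (.node (nat_lit 0x1002905a90101) (.leaf (nat_lit 0x1002905a8412c) (nat_lit 1537))
 (.leaf (nat_lit 0x1002905a90101) (nat_lit 2048))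
)) (.node (nat_lit 0x1004100804120) (.leaf (nat_lit 0x1002905a9012c) (nat_lit 1792))
 (.node (nat_lit 0x1004100804124) (.leaf (nat_lit 0x1004100804120) (nat_lit 3072))
 (.leaf (nat_lit 0x1004100804124) (nat_lit 3328))
)))) (.node (nat_lit 0x100410083412c) (.node (nat_lit 0x1004100824120) (.node (nat_lit 0x100410081412c) (.leaf (nat_lit 0x1004100814128) (nat_lit 2817))
 (.leaf (nat_lit 0x100410081412c) (nat_lit 2561))
) (.node (nat_lit 0x1004100824124) (.leaf (nat_lit 0x1004100824120) (nat_lit 2817))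
 (.node (nat_lit 0x1004100834128) (.leaf (nat_lit 0x1004100824124) (nat_lit 3073))
 (.leaf (nat_lit 0x1004100834128) (nat_lit 3072))
))) (.node (nat_lit 0x1004101894124) (.node (nat_lit 0x1004101884120) (.leaf (nat_lit 0x100410083412c) (nat_lit 2816))
 (.node (nat_lit 0x100410188412c) (.leaf (nat_lit 0x1004101884120) (nat_lit 2817))
 (.leaf (nat_lit 0x100410188412c) (nat_lit 3073))
)) (.node (nat_lit 0x1004101894128) (.leaf (nat_lit 0x1004101894124) (nat_lit 2561))
 (.node (nat_lit 0x10041018a4120) (.leaf (nat_lit 0x1004101894128) (nat_lit 2817))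
 (.leaf (nat_lit 0x10041018a4120) (nat_lit 3072))
))))) (.node (nat_lit 0x1004104804104) (.node (nat_lit 0x1004104024104) (.node (nat_lit 0x10041018b4128) (.node (nat_lit 0x10041018b4124) (.leaf (nat_lit 0x10041018a412c) (nat_lit 3328))
 (.leaf (nat_lit 0x10041018b4124) (nat_lit 2816))
) (.node (nat_lit 0x1004104004104) (.leaf (nat_lit 0x10041018b4128) (nat_lit 3072))
 (.node (nat_lit 0x1004104004124) (.leaf (nat_lit 0x1004104004104) (nat_lit 3840))
 (.leaf (nat_lit 0x1004104004124) (nat_lit 3584))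
))) (.node (nat_lit 0x100410408412c) (.node (nat_lit 0x1004104024124) (.leaf (nat_lit 0x1004104024104) (nat_lit 3585))
 (.node (nat_lit 0x100410408410c) (.leaf (nat_lit 0x1004104024124) (nat_lit 3329))
 (.leaf (nat_lit 0x100410408410c) (nat_lit 3073))
)) (.node (nat_lit 0x10041040a410c) (.leaf (nat_lit 0x100410408412c) (nat_lit 3329))
 (.node (nat_lit 0x10041040a412c) (.leaf (nat_lit 0x10041040a410c) (nat_lit 3328))
 (.leaf (nat_lit 0x10041040a412c) (nat_lit 3584))
)))) (.node (nat_lit 0x10041048b410c) (.node (nat_lit 0x1004104824120) (.node (nat_lit 0x1004104804120) (.leaf (nat_lit 0x1004104804104) (nat_lit 3584))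
 (.node (nat_lit 0x1004104824104) (.leaf (nat_lit 0x1004104804120) (nat_lit 3328))
 (.leaf (nat_lit 0x1004104824104) (nat_lit 3329))
)) (.node (nat_lit 0x100410489410c) (.leaf (nat_lit 0x1004104824120) (nat_lit 3073))
 (.node (nat_lit 0x1004104894128) (.leaf (nat_lit 0x100410489410c) (nat_lit 2817))
 (.leaf (nat_lit 0x1004104894128) (nat_lit 3073))
))) (.node (nat_lit 0x100410501412c) (.node (nat_lit 0x10041048b4128) (.leaf (nat_lit 0x10041048b410c) (nat_lit 3072))
 (.node (nat_lit 0x1004105014104) (.leaf (nat_lit 0x10041048b4128) (nat_lit 3328))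
 (.leaf (nat_lit 0x1004105014104) (nat_lit 2049))
)) (.node (nat_lit 0x1004105034104) (.leaf (nat_lit 0x100410501412c) (nat_lit 2305))
 (.node (nat_lit 0x100410503412c) (.leaf (nat_lit 0x1004105034104) (nat_lit 2304))
 (.leaf (nat_lit 0x100410503412c) (nat_lit 2560))
)))))))) (.node (nat_lit 0x1006104aa0108) (.node (nat_lit 0x100490521412d) (.node (nat_lit 0x1004901a94124) (.node (nat_lit 0x10041058a4120) (.node (nat_lit 0x1004105814128) (.node (nat_lit 0x10041050b410c) (.node (nat_lit 0x1004105094124) (.leaf (nat_lit 0x100410509410c) (nat_lit 2561))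
 (.leaf (nat_lit 0x1004105094124) (nat_lit 2305))
) (.node (nat_lit 0x10041050b4124) (.leaf (nat_lit 0x10041050b410c) (nat_lit 2816))
 (.node (nat_lit 0x1004105814104) (.leaf (nat_lit 0x10041050b4124) (nat_lit 2560))
 (.leaf (nat_lit 0x1004105814104) (nat_lit 2305))
))) (.node (nat_lit 0x100410588410c) (.node (nat_lit 0x1004105834104) (.leaf (nat_lit 0x1004105814128) (nat_lit 2561))
 (.node (nat_lit 0x1004105834128) (.leaf (nat_lit 0x1004105834104) (nat_lit 2560))
 (.leaf (nat_lit 0x1004105834128) (nat_lit 2816))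
)) (.node (nat_lit 0x1004105884120) (.leaf (nat_lit 0x100410588410c) (nat_lit 2817))
 (.node (nat_lit 0x10041058a410c) (.leaf (nat_lit 0x1004105884120) (nat_lit 2561))
 (.leaf (nat_lit 0x10041058a410c) (nat_lit 3072))
)))) (.node (nat_lit 0x1004900820120) (.node (nat_lit 0x1004900804124) (.node (nat_lit 0x1004900804120) (.leaf (nat_lit 0x10041058a4120) (nat_lit 2816))
 (.leaf (nat_lit 0x1004900804120) (nat_lit 2816))
) (.node (nat_lit 0x1004900814129) (.leaf (nat_lit 0x1004900804124) (nat_lit 3072))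
 (.node (nat_lit 0x100490081412d) (.leaf (nat_lit 0x1004900814129) (nat_lit 2561))
 (.leaf (nat_lit 0x100490081412d) (nat_lit 2305))
))) (.node (nat_lit 0x100490083012d) (.node (nat_lit 0x1004900820124) (.leaf (nat_lit 0x1004900820120) (nat_lit 2561))
 (.node (nat_lit 0x1004900830129) (.leaf (nat_lit 0x1004900820124) (nat_lit 2817))
 (.leaf (nat_lit 0x1004900830129) (nat_lit 2816))
)) (.node (nat_lit 0x1004901a84120) (.leaf (nat_lit 0x100490083012d) (nat_lit 2560))
 (.node (nat_lit 0x1004901a8412d) (.leaf (nat_lit 0x1004901a84120) (nat_lit 2561))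
 (.leaf (nat_lit 0x1004901a8412d) (nat_lit 2817))
))))) (.node (nat_lit 0x100490408412d) (.node (nat_lit 0x1004901ab0129) (.node (nat_lit 0x1004901aa0120) (.node (nat_lit 0x1004901a94129) (.leaf (nat_lit 0x1004901a94124) (nat_lit 2305))
 (.leaf (nat_lit 0x1004901a94129) (nat_lit 2561))
) (.node (nat_lit 0x1004901aa012d) (.leaf (nat_lit 0x1004901aa0120) (nat_lit 2816))
 (.node (nat_lit 0x1004901ab0124) (.leaf (nat_lit 0x1004901aa012d) (nat_lit 3072))
 (.leaf (nat_lit 0x1004901ab0124) (nat_lit 2560))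
))) (.node (nat_lit 0x1004904020104) (.node (nat_lit 0x1004904004104) (.leaf (nat_lit 0x1004901ab0129) (nat_lit 2816))
 (.node (nat_lit 0x1004904004124) (.leaf (nat_lit 0x1004904004104) (nat_lit 3584))
 (.leaf (nat_lit 0x1004904004124) (nat_lit 3328))
)) (.node (nat_lit 0x1004904020124) (.leaf (nat_lit 0x1004904020104) (nat_lit 3329))
 (.node (nat_lit 0x100490408410d) (.leaf (nat_lit 0x1004904020124) (nat_lit 3073))
 (.leaf (nat_lit 0x100490408410d) (nat_lit 2817))
)))) (.node (nat_lit 0x1004904820120) (.node (nat_lit 0x1004904804104) (.node (nat_lit 0x10049040a010d) (.leaf (nat_lit 0x100490408412d) (nat_lit 3073))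
 (.node (nat_lit 0x10049040a012d) (.leaf (nat_lit 0x10049040a010d) (nat_lit 3072))
 (.leaf (nat_lit 0x10049040a012d) (nat_lit 3328))
)) (.node (nat_lit 0x1004904804120) (.leaf (nat_lit 0x1004904804104) (nat_lit 3328))
 (.node (nat_lit 0x1004904820104) (.leaf (nat_lit 0x1004904804120) (nat_lit 3072))
 (.leaf (nat_lit 0x1004904820104) (nat_lit 3073))
))) (.node (nat_lit 0x10049048b010d) (.node (nat_lit 0x100490489410d) (.leaf (nat_lit 0x1004904820120) (nat_lit 2817))
 (.node (nat_lit 0x1004904894129) (.leaf (nat_lit 0x100490489410d) (nat_lit 2561))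
 (.leaf (nat_lit 0x1004904894129) (nat_lit 2817))
)) (.node (nat_lit 0x10049048b0129) (.leaf (nat_lit 0x10049048b010d) (nat_lit 2816))
 (.node (nat_lit 0x1004905214104) (.leaf (nat_lit 0x10049048b0129) (nat_lit 3072))
 (.leaf (nat_lit 0x1004905214104) (nat_lit 1793))
)))))) (.node (nat_lit 0x1006100834125) (.node (nat_lit 0x1004905a8410d) (.node (nat_lit 0x10049052b010d) (.node (nat_lit 0x100490523012d) (.node (nat_lit 0x1004905230104) (.leaf (nat_lit 0x100490521412d) (nat_lit 2049))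
 (.leaf (nat_lit 0x1004905230104) (nat_lit 2048))
) (.node (nat_lit 0x100490529410d) (.leaf (nat_lit 0x100490523012d) (nat_lit 2304))
 (.node (nat_lit 0x1004905294124) (.leaf (nat_lit 0x100490529410d) (nat_lit 2305))
 (.leaf (nat_lit 0x1004905294124) (nat_lit 2049))
))) (.node (nat_lit 0x1004905a14129) (.node (nat_lit 0x10049052b0124) (.leaf (nat_lit 0x10049052b010d) (nat_lit 2560))
 (.node (nat_lit 0x1004905a14104) (.leaf (nat_lit 0x10049052b0124) (nat_lit 2304))
 (.leaf (nat_lit 0x1004905a14104) (nat_lit 2049))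
)) (.node (nat_lit 0x1004905a30104) (.leaf (nat_lit 0x1004905a14129) (nat_lit 2305))
 (.node (nat_lit 0x1004905a30129) (.leaf (nat_lit 0x1004905a30104) (nat_lit 2304))
 (.leaf (nat_lit 0x1004905a30129) (nat_lit 2560))
)))) (.node (nat_lit 0x1006100804125) (.node (nat_lit 0x1004905aa010d) (.node (nat_lit 0x1004905a84120) (.leaf (nat_lit 0x1004905a8410d) (nat_lit 2561))
 (.leaf (nat_lit 0x1004905a84120) (nat_lit 2305))
) (.node (nat_lit 0x1004905aa0120) (.leaf (nat_lit 0x1004905aa010d) (nat_lit 2816))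
 (.node (nat_lit 0x1006100804121) (.leaf (nat_lit 0x1004905aa0120) (nat_lit 2560))
 (.leaf (nat_lit 0x1006100804121) (nat_lit 1795))
))) (.node (nat_lit 0x1006100824129) (.node (nat_lit 0x1006100814129) (.leaf (nat_lit 0x1006100804125) (nat_lit 1539))
 (.node (nat_lit 0x100610081412d) (.leaf (nat_lit 0x1006100814129) (nat_lit 2306))
 (.leaf (nat_lit 0x100610081412d) (nat_lit 2050))
)) (.node (nat_lit 0x100610082412d) (.leaf (nat_lit 0x1006100824129) (nat_lit 2050))
 (.node (nat_lit 0x1006100834121) (.leaf (nat_lit 0x100610082412d) (nat_lit 1794))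
 (.leaf (nat_lit 0x1006100834121) (nat_lit 2051))
))))) (.node (nat_lit 0x1006104234104) (.node (nat_lit 0x10061010a0125) (.node (nat_lit 0x1006101080129) (.node (nat_lit 0x1006101080121) (.leaf (nat_lit 0x1006100834125) (nat_lit 1795))
 (.leaf (nat_lit 0x1006101080121) (nat_lit 1028))
) (.node (nat_lit 0x1006101090125) (.leaf (nat_lit 0x1006101080129) (nat_lit 768))
 (.node (nat_lit 0x100610109012d) (.leaf (nat_lit 0x1006101090125) (nat_lit 1284))
 (.leaf (nat_lit 0x100610109012d) (nat_lit 1024))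
))) (.node (nat_lit 0x10061010b0129) (.node (nat_lit 0x10061010a012d) (.leaf (nat_lit 0x10061010a0125) (nat_lit 1028))
 (.node (nat_lit 0x10061010b0121) (.leaf (nat_lit 0x10061010a012d) (nat_lit 769))
 (.leaf (nat_lit 0x10061010b0121) (nat_lit 772))
)) (.node (nat_lit 0x1006104204104) (.leaf (nat_lit 0x10061010b0129) (nat_lit 513))
 (.node (nat_lit 0x1006104204125) (.leaf (nat_lit 0x1006104204104) (nat_lit 1026))
 (.leaf (nat_lit 0x1006104204125) (nat_lit 1284))
)))) (.node (nat_lit 0x1006104a04104) (.node (nat_lit 0x1006104280129) (.node (nat_lit 0x1006104234125) (.leaf (nat_lit 0x1006104234104) (nat_lit 1282))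
 (.node (nat_lit 0x1006104280108) (.leaf (nat_lit 0x1006104234125) (nat_lit 1540))
 (.leaf (nat_lit 0x1006104280108) (nat_lit 1284))
)) (.node (nat_lit 0x10061042b0108) (.leaf (nat_lit 0x1006104280129) (nat_lit 1027))
 (.node (nat_lit 0x10061042b0129) (.leaf (nat_lit 0x10061042b0108) (nat_lit 1028))
 (.leaf (nat_lit 0x10061042b0129) (nat_lit 771))
))) (.node (nat_lit 0x1006104a34121) (.node (nat_lit 0x1006104a04121) (.leaf (nat_lit 0x1006104a04104) (nat_lit 1282))
 (.node (nat_lit 0x1006104a34104) (.leaf (nat_lit 0x1006104a04121) (nat_lit 1540))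
 (.leaf (nat_lit 0x1006104a34104) (nat_lit 1538))
)) (.node (nat_lit 0x1006104a90108) (.leaf (nat_lit 0x1006104a34121) (nat_lit 1796))
 (.node (nat_lit 0x1006104a9012d) (.leaf (nat_lit 0x1006104a90108) (nat_lit 1540))
 (.leaf (nat_lit 0x1006104a9012d) (nat_lit 1283))
))))))) (.node (nat_lit 0x1006904a30121) (.node (nat_lit 0x1006900820128) (.node (nat_lit 0x1006105a14129) (.node (nat_lit 0x100610522412d) (.node (nat_lit 0x1006105214104) (.node (nat_lit 0x1006104aa012d) (.leaf (nat_lit 0x1006104aa0108) (nat_lit 1284))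
 (.leaf (nat_lit 0x1006104aa012d) (nat_lit 1027))
) (.node (nat_lit 0x100610521412d) (.leaf (nat_lit 0x1006105214104) (nat_lit 1538))
 (.node (nat_lit 0x1006105224104) (.leaf (nat_lit 0x100610521412d) (nat_lit 1794))
 (.leaf (nat_lit 0x1006105224104) (nat_lit 1282))
))) (.node (nat_lit 0x10061052b0108) (.node (nat_lit 0x1006105280108) (.leaf (nat_lit 0x100610522412d) (nat_lit 1538))
 (.node (nat_lit 0x1006105280121) (.leaf (nat_lit 0x1006105280108) (nat_lit 1539))
 (.leaf (nat_lit 0x1006105280121) (nat_lit 1283))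
)) (.node (nat_lit 0x10061052b0121) (.leaf (nat_lit 0x10061052b0108) (nat_lit 1283))
 (.node (nat_lit 0x1006105a14104) (.leaf (nat_lit 0x10061052b0121) (nat_lit 1027))
 (.leaf (nat_lit 0x1006105a14104) (nat_lit 1794))
)))) (.node (nat_lit 0x1006105aa0108) (.node (nat_lit 0x1006105a24129) (.node (nat_lit 0x1006105a24104) (.leaf (nat_lit 0x1006105a14129) (nat_lit 2050))
 (.leaf (nat_lit 0x1006105a24104) (nat_lit 1538))
) (.node (nat_lit 0x1006105a90108) (.leaf (nat_lit 0x1006105a24129) (nat_lit 1794))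
 (.node (nat_lit 0x1006105a90125) (.leaf (nat_lit 0x1006105a90108) (nat_lit 1795))
 (.leaf (nat_lit 0x1006105a90125) (nat_lit 1539))
))) (.node (nat_lit 0x1006900804125) (.node (nat_lit 0x1006105aa0125) (.leaf (nat_lit 0x1006105aa0108) (nat_lit 1539))
 (.node (nat_lit 0x1006900804121) (.leaf (nat_lit 0x1006105aa0125) (nat_lit 1283))
 (.leaf (nat_lit 0x1006900804121) (nat_lit 2051))
)) (.node (nat_lit 0x1006900814128) (.leaf (nat_lit 0x1006900804125) (nat_lit 1795))
 (.node (nat_lit 0x100690081412c) (.leaf (nat_lit 0x1006900814128) (nat_lit 2562))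
 (.leaf (nat_lit 0x100690081412c) (nat_lit 2306))
))))) (.node (nat_lit 0x10069012b4128) (.node (nat_lit 0x1006901280128) (.node (nat_lit 0x1006900830121) (.node (nat_lit 0x100690082012c) (.leaf (nat_lit 0x1006900820128) (nat_lit 2306))
 (.leaf (nat_lit 0x100690082012c) (nat_lit 2050))
) (.node (nat_lit 0x1006900830125) (.leaf (nat_lit 0x1006900830121) (nat_lit 2307))
 (.node (nat_lit 0x1006901280121) (.leaf (nat_lit 0x1006900830125) (nat_lit 2051))
 (.leaf (nat_lit 0x1006901280121) (nat_lit 1284))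
))) (.node (nat_lit 0x10069012a4125) (.node (nat_lit 0x1006901290125) (.leaf (nat_lit 0x1006901280128) (nat_lit 1024))
 (.node (nat_lit 0x100690129012c) (.leaf (nat_lit 0x1006901290125) (nat_lit 1540))
 (.leaf (nat_lit 0x100690129012c) (nat_lit 1280))
)) (.node (nat_lit 0x10069012a412c) (.leaf (nat_lit 0x10069012a4125) (nat_lit 1284))
 (.node (nat_lit 0x10069012b4121) (.leaf (nat_lit 0x10069012a412c) (nat_lit 1025))
 (.leaf (nat_lit 0x10069012b4121) (nat_lit 1028))
)))) (.node (nat_lit 0x1006904280128) (.node (nat_lit 0x1006904230104) (.node (nat_lit 0x1006904204104) (.leaf (nat_lit 0x10069012b4128) (nat_lit 769))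
 (.node (nat_lit 0x1006904204125) (.leaf (nat_lit 0x1006904204104) (nat_lit 1281))
 (.leaf (nat_lit 0x1006904204125) (nat_lit 1540))
)) (.node (nat_lit 0x1006904230125) (.leaf (nat_lit 0x1006904230104) (nat_lit 1536))
 (.node (nat_lit 0x1006904280109) (.leaf (nat_lit 0x1006904230125) (nat_lit 1796))
 (.leaf (nat_lit 0x1006904280109) (nat_lit 1540))
))) (.node (nat_lit 0x1006904a04104) (.node (nat_lit 0x10069042b4109) (.leaf (nat_lit 0x1006904280128) (nat_lit 1280))
 (.node (nat_lit 0x10069042b4128) (.leaf (nat_lit 0x10069042b4109) (nat_lit 1284))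
 (.leaf (nat_lit 0x10069042b4128) (nat_lit 1025))
)) (.node (nat_lit 0x1006904a04121) (.leaf (nat_lit 0x1006904a04104) (nat_lit 1537))
 (.node (nat_lit 0x1006904a30104) (.leaf (nat_lit 0x1006904a04121) (nat_lit 1796))
 (.leaf (nat_lit 0x1006904a30104) (nat_lit 1792))
)))))) (.node (nat_lit 0x1010100210109) (.node (nat_lit 0x10069050b4109) (.node (nat_lit 0x1006905014104) (.node (nat_lit 0x1006904a9012c) (.node (nat_lit 0x1006904a90109) (.leaf (nat_lit 0x1006904a30121) (nat_lit 2052))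
 (.leaf (nat_lit 0x1006904a90109) (nat_lit 1796))
) (.node (nat_lit 0x1006904aa4109) (.leaf (nat_lit 0x1006904a9012c) (nat_lit 1536))
 (.node (nat_lit 0x1006904aa412c) (.leaf (nat_lit 0x1006904aa4109) (nat_lit 1540))
 (.leaf (nat_lit 0x1006904aa412c) (nat_lit 1281))
))) (.node (nat_lit 0x100690502012c) (.node (nat_lit 0x100690501412c) (.leaf (nat_lit 0x1006905014104) (nat_lit 1794))
 (.node (nat_lit 0x1006905020104) (.leaf (nat_lit 0x100690501412c) (nat_lit 2050))
 (.leaf (nat_lit 0x1006905020104) (nat_lit 1538))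
)) (.node (nat_lit 0x1006905080109) (.leaf (nat_lit 0x100690502012c) (nat_lit 1794))
 (.node (nat_lit 0x1006905080121) (.leaf (nat_lit 0x1006905080109) (nat_lit 1795))
 (.leaf (nat_lit 0x1006905080121) (nat_lit 1539))
)))) (.node (nat_lit 0x1006905820128) (.node (nat_lit 0x1006905814104) (.node (nat_lit 0x10069050b4121) (.leaf (nat_lit 0x10069050b4109) (nat_lit 1539))
 (.leaf (nat_lit 0x10069050b4121) (nat_lit 1283))
) (.node (nat_lit 0x1006905814128) (.leaf (nat_lit 0x1006905814104) (nat_lit 2050))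
 (.node (nat_lit 0x1006905820104) (.leaf (nat_lit 0x1006905814128) (nat_lit 2306))
 (.leaf (nat_lit 0x1006905820104) (nat_lit 1794))
))) (.node (nat_lit 0x10069058a4109) (.node (nat_lit 0x1006905890109) (.leaf (nat_lit 0x1006905820128) (nat_lit 2050))
 (.node (nat_lit 0x1006905890125) (.leaf (nat_lit 0x1006905890109) (nat_lit 2051))
 (.leaf (nat_lit 0x1006905890125) (nat_lit 1795))
)) (.node (nat_lit 0x10069058a4125) (.leaf (nat_lit 0x10069058a4109) (nat_lit 1795))
 (.node (nat_lit 0x1010100210108) (.leaf (nat_lit 0x10069058a4125) (nat_lit 1539))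
 (.leaf (nat_lit 0x1010100210108) (nat_lit 771))
))))) (.node (nat_lit 0x1010101090101) (.node (nat_lit 0x1010100294128) (.node (nat_lit 0x1010100214129) (.node (nat_lit 0x1010100214128) (.leaf (nat_lit 0x1010100210109) (nat_lit 515))
 (.leaf (nat_lit 0x1010100214128) (nat_lit 1026))
) (.node (nat_lit 0x1010100290108) (.leaf (nat_lit 0x1010100214129) (nat_lit 1282))
 (.node (nat_lit 0x1010100290109) (.leaf (nat_lit 0x1010100290108) (nat_lit 1027))
 (.leaf (nat_lit 0x1010100290109) (nat_lit 771))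
))) (.node (nat_lit 0x1010101010109) (.node (nat_lit 0x1010100294129) (.leaf (nat_lit 0x1010100294128) (nat_lit 770))
 (.node (nat_lit 0x1010101010101) (.leaf (nat_lit 0x1010100294129) (nat_lit 1026))
 (.leaf (nat_lit 0x1010101010101) (nat_lit 0))
)) (.node (nat_lit 0x1010101030121) (.leaf (nat_lit 0x1010101010109) (nat_lit 260))
 (.node (nat_lit 0x1010101030129) (.leaf (nat_lit 0x1010101030121) (nat_lit 772))
 (.leaf (nat_lit 0x1010101030129) (nat_lit 514))
)))) (.node (nat_lit 0x1010101234121) (.node (nat_lit 0x10101010b0129) (.node (nat_lit 0x1010101090109) (.leaf (nat_lit 0x1010101090101) (nat_lit 256))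
 (.node (nat_lit 0x10101010b0121) (.leaf (nat_lit 0x1010101090109) (nat_lit 516))
 (.leaf (nat_lit 0x10101010b0121) (nat_lit 516))
)) (.node (nat_lit 0x1010101210101) (.leaf (nat_lit 0x10101010b0129) (nat_lit 258))
 (.node (nat_lit 0x1010101210108) (.leaf (nat_lit 0x1010101210101) (nat_lit 259))
 (.leaf (nat_lit 0x1010101210108) (nat_lit 516))
))) (.node (nat_lit 0x1010101290108) (.node (nat_lit 0x1010101234128) (.leaf (nat_lit 0x1010101234121) (nat_lit 1028))
 (.node (nat_lit 0x1010101290101) (.leaf (nat_lit 0x1010101234128) (nat_lit 770))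
 (.leaf (nat_lit 0x1010101290101) (nat_lit 515))
)) (.node (nat_lit 0x10101012b4121) (.leaf (nat_lit 0x1010101290108) (nat_lit 772))
 (.node (nat_lit 0x10101012b4128) (.leaf (nat_lit 0x10101012b4121) (nat_lit 772))
 (.leaf (nat_lit 0x10101012b4128) (nat_lit 514))
))))))))) (.node (nat_lit 0x1014101090125) (.node (nat_lit 0x1012101234125) (.node (nat_lit 0x1010901a9410c) (.node (nat_lit 0x10101052b0108) (.node (nat_lit 0x1010105034121) (.node (nat_lit 0x10101042b0129) (.node (nat_lit 0x1010104234109) (.node (nat_lit 0x1010104230129) (.leaf (nat_lit 0x1010104230108) (nat_lit 1028))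
 (.leaf (nat_lit 0x1010104230129) (nat_lit 771))
) (.node (nat_lit 0x1010104234128) (.leaf (nat_lit 0x1010104234109) (nat_lit 1284))
 (.node (nat_lit 0x10101042b0108) (.leaf (nat_lit 0x1010104234128) (nat_lit 1026))
 (.leaf (nat_lit 0x10101042b0108) (nat_lit 772))
))) (.node (nat_lit 0x1010105014101) (.node (nat_lit 0x10101042b4109) (.leaf (nat_lit 0x10101042b0129) (nat_lit 515))
 (.node (nat_lit 0x10101042b4128) (.leaf (nat_lit 0x10101042b4109) (nat_lit 1028))
 (.leaf (nat_lit 0x10101042b4128) (nat_lit 770))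
)) (.node (nat_lit 0x1010105014129) (.leaf (nat_lit 0x1010105014101) (nat_lit 1794))
 (.node (nat_lit 0x1010105034109) (.leaf (nat_lit 0x1010105014129) (nat_lit 1538))
 (.leaf (nat_lit 0x1010105034109) (nat_lit 1539))
)))) (.node (nat_lit 0x1010105214101) (.node (nat_lit 0x1010105094129) (.node (nat_lit 0x1010105094101) (.leaf (nat_lit 0x1010105034121) (nat_lit 1283))
 (.leaf (nat_lit 0x1010105094101) (nat_lit 1538))
) (.node (nat_lit 0x10101050b4109) (.leaf (nat_lit 0x1010105094129) (nat_lit 1282))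
 (.node (nat_lit 0x10101050b4121) (.leaf (nat_lit 0x10101050b4109) (nat_lit 1283))
 (.leaf (nat_lit 0x10101050b4121) (nat_lit 1027))
))) (.node (nat_lit 0x1010105230121) (.node (nat_lit 0x1010105214128) (.leaf (nat_lit 0x1010105214101) (nat_lit 1538))
 (.node (nat_lit 0x1010105230108) (.leaf (nat_lit 0x1010105214128) (nat_lit 1282))
 (.leaf (nat_lit 0x1010105230108) (nat_lit 1283))
)) (.node (nat_lit 0x1010105294101) (.leaf (nat_lit 0x1010105230121) (nat_lit 1027))
 (.node (nat_lit 0x1010105294128) (.leaf (nat_lit 0x1010105294101) (nat_lit 1282))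
 (.leaf (nat_lit 0x1010105294128) (nat_lit 1026))
))))) (.node (nat_lit 0x101090181010d) (.node (nat_lit 0x101090021412d) (.node (nat_lit 0x101090021010c) (.node (nat_lit 0x10101052b0121) (.leaf (nat_lit 0x10101052b0108) (nat_lit 1027))
 (.leaf (nat_lit 0x10101052b0121) (nat_lit 771))
) (.node (nat_lit 0x101090021010d) (.leaf (nat_lit 0x101090021010c) (nat_lit 2048))
 (.node (nat_lit 0x101090021412c) (.leaf (nat_lit 0x101090021010d) (nat_lit 2304))
 (.leaf (nat_lit 0x101090021412c) (nat_lit 1537))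
))) (.node (nat_lit 0x101090029410c) (.node (nat_lit 0x101090029012c) (.leaf (nat_lit 0x101090021412d) (nat_lit 1793))
 (.node (nat_lit 0x101090029012d) (.leaf (nat_lit 0x101090029012c) (nat_lit 1792))
 (.leaf (nat_lit 0x101090029012d) (nat_lit 2048))
)) (.node (nat_lit 0x101090029410d) (.leaf (nat_lit 0x101090029410c) (nat_lit 1793))
 (.node (nat_lit 0x1010901810101) (.leaf (nat_lit 0x101090029410d) (nat_lit 2049))
 (.leaf (nat_lit 0x1010901810101) (nat_lit 2816))
)))) (.node (nat_lit 0x10109018a412c) (.node (nat_lit 0x1010901894101) (.node (nat_lit 0x1010901820120) (.leaf (nat_lit 0x101090181010d) (nat_lit 2560))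
 (.node (nat_lit 0x101090182012c) (.leaf (nat_lit 0x1010901820120) (nat_lit 2561))
 (.leaf (nat_lit 0x101090182012c) (nat_lit 2817))
)) (.node (nat_lit 0x101090189410d) (.leaf (nat_lit 0x1010901894101) (nat_lit 2561))
 (.node (nat_lit 0x10109018a4120) (.leaf (nat_lit 0x101090189410d) (nat_lit 2305))
 (.leaf (nat_lit 0x10109018a4120) (nat_lit 2816))
))) (.node (nat_lit 0x1010901a24120) (.node (nat_lit 0x1010901a10101) (.leaf (nat_lit 0x10109018a412c) (nat_lit 3072))
 (.node (nat_lit 0x1010901a1010c) (.leaf (nat_lit 0x1010901a10101) (nat_lit 2560))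
 (.leaf (nat_lit 0x1010901a1010c) (nat_lit 2304))
)) (.node (nat_lit 0x1010901a2412d) (.leaf (nat_lit 0x1010901a24120) (nat_lit 2305))
 (.node (nat_lit 0x1010901a94101) (.leaf (nat_lit 0x1010901a2412d) (nat_lit 2561))
 (.leaf (nat_lit 0x1010901a94101) (nat_lit 2305))
)))))) (.node (nat_lit 0x1010905a24120) (.node (nat_lit 0x1010905814101) (.node (nat_lit 0x101090402410d) (.node (nat_lit 0x1010901aa012d) (.node (nat_lit 0x1010901aa0120) (.leaf (nat_lit 0x1010901a9410c) (nat_lit 2049))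
 (.leaf (nat_lit 0x1010901aa0120) (nat_lit 2560))
) (.node (nat_lit 0x101090402010c) (.leaf (nat_lit 0x1010901aa012d) (nat_lit 2816))
 (.node (nat_lit 0x101090402012c) (.leaf (nat_lit 0x101090402010c) (nat_lit 2817))
 (.leaf (nat_lit 0x101090402012c) (nat_lit 3073))
))) (.node (nat_lit 0x10109040a012d) (.node (nat_lit 0x101090402412d) (.leaf (nat_lit 0x101090402410d) (nat_lit 2561))
 (.node (nat_lit 0x10109040a010d) (.leaf (nat_lit 0x101090402412d) (nat_lit 2817))
 (.leaf (nat_lit 0x10109040a010d) (nat_lit 2816))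
)) (.node (nat_lit 0x10109040a410c) (.leaf (nat_lit 0x10109040a012d) (nat_lit 3072))
 (.node (nat_lit 0x10109040a412c) (.leaf (nat_lit 0x10109040a410c) (nat_lit 3072))
 (.leaf (nat_lit 0x10109040a412c) (nat_lit 3328))
)))) (.node (nat_lit 0x101090589012d) (.node (nat_lit 0x101090582010c) (.node (nat_lit 0x101090581412d) (.leaf (nat_lit 0x1010905814101) (nat_lit 2305))
 (.leaf (nat_lit 0x101090581412d) (nat_lit 2049))
) (.node (nat_lit 0x1010905820120) (.leaf (nat_lit 0x101090582010c) (nat_lit 2561))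
 (.node (nat_lit 0x1010905890101) (.leaf (nat_lit 0x1010905820120) (nat_lit 2305))
 (.leaf (nat_lit 0x1010905890101) (nat_lit 2560))
))) (.node (nat_lit 0x1010905a14101) (.node (nat_lit 0x10109058a410c) (.leaf (nat_lit 0x101090589012d) (nat_lit 2304))
 (.node (nat_lit 0x10109058a4120) (.leaf (nat_lit 0x10109058a410c) (nat_lit 2816))
 (.leaf (nat_lit 0x10109058a4120) (nat_lit 2560))
)) (.node (nat_lit 0x1010905a1412c) (.leaf (nat_lit 0x1010905a14101) (nat_lit 2049))
 (.node (nat_lit 0x1010905a2410d) (.leaf (nat_lit 0x1010905a1412c) (nat_lit 1793))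
 (.leaf (nat_lit 0x1010905a2410d) (nat_lit 2305))
))))) (.node (nat_lit 0x101210028412c) (.node (nat_lit 0x1012100210108) (.node (nat_lit 0x1010905a9012c) (.node (nat_lit 0x1010905a90101) (.leaf (nat_lit 0x1010905a24120) (nat_lit 2049))
 (.leaf (nat_lit 0x1010905a90101) (nat_lit 2304))
) (.node (nat_lit 0x1010905aa010d) (.leaf (nat_lit 0x1010905a9012c) (nat_lit 2048))
 (.node (nat_lit 0x1010905aa0120) (.leaf (nat_lit 0x1010905aa010d) (nat_lit 2560))
 (.leaf (nat_lit 0x1010905aa0120) (nat_lit 2304))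
))) (.node (nat_lit 0x101210021412d) (.node (nat_lit 0x1012100210109) (.leaf (nat_lit 0x1012100210108) (nat_lit 1027))
 (.node (nat_lit 0x101210021412c) (.leaf (nat_lit 0x1012100210109) (nat_lit 771))
 (.leaf (nat_lit 0x101210021412c) (nat_lit 1282))
)) (.node (nat_lit 0x1012100280108) (.leaf (nat_lit 0x101210021412d) (nat_lit 1538))
 (.node (nat_lit 0x1012100280109) (.leaf (nat_lit 0x1012100280108) (nat_lit 1283))
 (.leaf (nat_lit 0x1012100280109) (nat_lit 1027))
)))) (.node (nat_lit 0x1012101080101) (.node (nat_lit 0x1012101010109) (.node (nat_lit 0x101210028412d) (.leaf (nat_lit 0x101210028412c) (nat_lit 1026))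
 (.node (nat_lit 0x1012101010101) (.leaf (nat_lit 0x101210028412d) (nat_lit 1282))
 (.leaf (nat_lit 0x1012101010101) (nat_lit 257))
)) (.node (nat_lit 0x1012101030125) (.leaf (nat_lit 0x1012101010109) (nat_lit 516))
 (.node (nat_lit 0x101210103012d) (.leaf (nat_lit 0x1012101030125) (nat_lit 1028))
 (.leaf (nat_lit 0x101210103012d) (nat_lit 770))
))) (.node (nat_lit 0x10121010a012d) (.node (nat_lit 0x1012101080109) (.leaf (nat_lit 0x1012101080101) (nat_lit 512))
 (.node (nat_lit 0x10121010a0125) (.leaf (nat_lit 0x1012101080109) (nat_lit 772))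
 (.leaf (nat_lit 0x10121010a0125) (nat_lit 772))
)) (.node (nat_lit 0x1012101210101) (.leaf (nat_lit 0x10121010a012d) (nat_lit 514))
 (.node (nat_lit 0x1012101210108) (.leaf (nat_lit 0x1012101210101) (nat_lit 515))
 (.leaf (nat_lit 0x1012101210108) (nat_lit 772))
))))))) (.node (nat_lit 0x10129018b4128) (.node (nat_lit 0x1012105a14101) (.node (nat_lit 0x1012104aa012d) (.node (nat_lit 0x10121012a412c) (.node (nat_lit 0x1012101280101) (.node (nat_lit 0x101210123412c) (.leaf (nat_lit 0x1012101234125) (nat_lit 1284))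
 (.leaf (nat_lit 0x101210123412c) (nat_lit 1026))
) (.node (nat_lit 0x1012101280108) (.leaf (nat_lit 0x1012101280101) (nat_lit 771))
 (.node (nat_lit 0x10121012a4125) (.leaf (nat_lit 0x1012101280108) (nat_lit 1028))
 (.leaf (nat_lit 0x10121012a4125) (nat_lit 1028))
))) (.node (nat_lit 0x1012104a34109) (.node (nat_lit 0x1012104a30108) (.leaf (nat_lit 0x10121012a412c) (nat_lit 770))
 (.node (nat_lit 0x1012104a3012d) (.leaf (nat_lit 0x1012104a30108) (nat_lit 1284))
 (.leaf (nat_lit 0x1012104a3012d) (nat_lit 1027))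
)) (.node (nat_lit 0x1012104a3412c) (.leaf (nat_lit 0x1012104a34109) (nat_lit 1540))
 (.node (nat_lit 0x1012104aa0108) (.leaf (nat_lit 0x1012104a3412c) (nat_lit 1282))
 (.leaf (nat_lit 0x1012104aa0108) (nat_lit 1028))
)))) (.node (nat_lit 0x1012105834109) (.node (nat_lit 0x1012104aa412c) (.node (nat_lit 0x1012104aa4109) (.leaf (nat_lit 0x1012104aa012d) (nat_lit 771))
 (.leaf (nat_lit 0x1012104aa4109) (nat_lit 1284))
) (.node (nat_lit 0x1012105814101) (.leaf (nat_lit 0x1012104aa412c) (nat_lit 1026))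
 (.node (nat_lit 0x101210581412d) (.leaf (nat_lit 0x1012105814101) (nat_lit 2050))
 (.leaf (nat_lit 0x101210581412d) (nat_lit 1794))
))) (.node (nat_lit 0x101210588412d) (.node (nat_lit 0x1012105834125) (.leaf (nat_lit 0x1012105834109) (nat_lit 1795))
 (.node (nat_lit 0x1012105884101) (.leaf (nat_lit 0x1012105834125) (nat_lit 1539))
 (.leaf (nat_lit 0x1012105884101) (nat_lit 1794))
)) (.node (nat_lit 0x10121058a4109) (.leaf (nat_lit 0x101210588412d) (nat_lit 1538))
 (.node (nat_lit 0x10121058a4125) (.leaf (nat_lit 0x10121058a4109) (nat_lit 1539))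
 (.leaf (nat_lit 0x10121058a4125) (nat_lit 1283))
))))) (.node (nat_lit 0x1012900214129) (.node (nat_lit 0x1012105a8412c) (.node (nat_lit 0x1012105a30108) (.node (nat_lit 0x1012105a1412c) (.leaf (nat_lit 0x1012105a14101) (nat_lit 1794))
 (.leaf (nat_lit 0x1012105a1412c) (nat_lit 1538))
) (.node (nat_lit 0x1012105a30125) (.leaf (nat_lit 0x1012105a30108) (nat_lit 1539))
 (.node (nat_lit 0x1012105a84101) (.leaf (nat_lit 0x1012105a30125) (nat_lit 1283))
 (.leaf (nat_lit 0x1012105a84101) (nat_lit 1538))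
))) (.node (nat_lit 0x101290021010c) (.node (nat_lit 0x1012105aa0108) (.leaf (nat_lit 0x1012105a8412c) (nat_lit 1282))
 (.node (nat_lit 0x1012105aa0125) (.leaf (nat_lit 0x1012105aa0108) (nat_lit 1283))
 (.leaf (nat_lit 0x1012105aa0125) (nat_lit 1027))
)) (.node (nat_lit 0x101290021010d) (.leaf (nat_lit 0x101290021010c) (nat_lit 1792))
 (.node (nat_lit 0x1012900214128) (.leaf (nat_lit 0x101290021010d) (nat_lit 2048))
 (.leaf (nat_lit 0x1012900214128) (nat_lit 1281))
)))) (.node (nat_lit 0x101290181010d) (.node (nat_lit 0x101290028410c) (.node (nat_lit 0x1012900280128) (.leaf (nat_lit 0x1012900214129) (nat_lit 1537))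
 (.node (nat_lit 0x1012900280129) (.leaf (nat_lit 0x1012900280128) (nat_lit 1536))
 (.leaf (nat_lit 0x1012900280129) (nat_lit 1792))
)) (.node (nat_lit 0x101290028410d) (.leaf (nat_lit 0x101290028410c) (nat_lit 1537))
 (.node (nat_lit 0x1012901810101) (.leaf (nat_lit 0x101290028410d) (nat_lit 1793))
 (.leaf (nat_lit 0x1012901810101) (nat_lit 2560))
))) (.node (nat_lit 0x1012901884101) (.node (nat_lit 0x1012901820124) (.leaf (nat_lit 0x101290181010d) (nat_lit 2304))
 (.node (nat_lit 0x1012901820128) (.leaf (nat_lit 0x1012901820124) (nat_lit 2305))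
 (.leaf (nat_lit 0x1012901820128) (nat_lit 2561))
)) (.node (nat_lit 0x101290188410d) (.leaf (nat_lit 0x1012901884101) (nat_lit 2305))
 (.node (nat_lit 0x10129018b4124) (.leaf (nat_lit 0x101290188410d) (nat_lit 2049))
 (.leaf (nat_lit 0x10129018b4124) (nat_lit 2560))
)))))) (.node (nat_lit 0x1012905080129) (.node (nat_lit 0x101290482410d) (.node (nat_lit 0x1012901a84101) (.node (nat_lit 0x1012901a1010c) (.node (nat_lit 0x1012901a10101) (.leaf (nat_lit 0x10129018b4128) (nat_lit 2816))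
 (.leaf (nat_lit 0x1012901a10101) (nat_lit 2304))
) (.node (nat_lit 0x1012901a24124) (.leaf (nat_lit 0x1012901a1010c) (nat_lit 2048))
 (.node (nat_lit 0x1012901a24129) (.leaf (nat_lit 0x1012901a24124) (nat_lit 2049))
 (.leaf (nat_lit 0x1012901a24129) (nat_lit 2305))
))) (.node (nat_lit 0x1012901ab0129) (.node (nat_lit 0x1012901a8410c) (.leaf (nat_lit 0x1012901a84101) (nat_lit 2049))
 (.node (nat_lit 0x1012901ab0124) (.leaf (nat_lit 0x1012901a8410c) (nat_lit 1793))
 (.leaf (nat_lit 0x1012901ab0124) (nat_lit 2304))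
)) (.node (nat_lit 0x101290482010c) (.leaf (nat_lit 0x1012901ab0129) (nat_lit 2560))
 (.node (nat_lit 0x1012904820128) (.leaf (nat_lit 0x101290482010c) (nat_lit 2561))
 (.leaf (nat_lit 0x1012904820128) (nat_lit 2817))
)))) (.node (nat_lit 0x10129048b4128) (.node (nat_lit 0x10129048b010d) (.node (nat_lit 0x1012904824129) (.leaf (nat_lit 0x101290482410d) (nat_lit 2305))
 (.leaf (nat_lit 0x1012904824129) (nat_lit 2561))
) (.node (nat_lit 0x10129048b0129) (.leaf (nat_lit 0x10129048b010d) (nat_lit 2560))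
 (.node (nat_lit 0x10129048b410c) (.leaf (nat_lit 0x10129048b0129) (nat_lit 2816))
 (.leaf (nat_lit 0x10129048b410c) (nat_lit 2816))
))) (.node (nat_lit 0x101290502010c) (.node (nat_lit 0x1012905014101) (.leaf (nat_lit 0x10129048b4128) (nat_lit 3072))
 (.node (nat_lit 0x1012905014129) (.leaf (nat_lit 0x1012905014101) (nat_lit 2049))
 (.leaf (nat_lit 0x1012905014129) (nat_lit 1793))
)) (.node (nat_lit 0x1012905020124) (.leaf (nat_lit 0x101290502010c) (nat_lit 2305))
 (.node (nat_lit 0x1012905080101) (.leaf (nat_lit 0x1012905020124) (nat_lit 2049))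
 (.leaf (nat_lit 0x1012905080101) (nat_lit 2304))
))))) (.node (nat_lit 0x1014100a04120) (.node (nat_lit 0x101290522410d) (.node (nat_lit 0x10129050b4124) (.node (nat_lit 0x10129050b410c) (.leaf (nat_lit 0x1012905080129) (nat_lit 2048))
 (.leaf (nat_lit 0x10129050b410c) (nat_lit 2560))
) (.node (nat_lit 0x1012905214101) (.leaf (nat_lit 0x10129050b4124) (nat_lit 2304))
 (.node (nat_lit 0x1012905214128) (.leaf (nat_lit 0x1012905214101) (nat_lit 1793))
 (.leaf (nat_lit 0x1012905214128) (nat_lit 1537))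
))) (.node (nat_lit 0x1012905280128) (.node (nat_lit 0x1012905224124) (.leaf (nat_lit 0x101290522410d) (nat_lit 2049))
 (.node (nat_lit 0x1012905280101) (.leaf (nat_lit 0x1012905224124) (nat_lit 1793))
 (.leaf (nat_lit 0x1012905280101) (nat_lit 2048))
)) (.node (nat_lit 0x10129052b010d) (.leaf (nat_lit 0x1012905280128) (nat_lit 1792))
 (.node (nat_lit 0x10129052b0124) (.leaf (nat_lit 0x10129052b010d) (nat_lit 2304))
 (.leaf (nat_lit 0x10129052b0124) (nat_lit 2048))
)))) (.node (nat_lit 0x1014100ab0108) (.node (nat_lit 0x1014100a1010d) (.node (nat_lit 0x1014100a04125) (.leaf (nat_lit 0x1014100a04120) (nat_lit 1794))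
 (.node (nat_lit 0x1014100a10108) (.leaf (nat_lit 0x1014100a04125) (nat_lit 2052))
 (.leaf (nat_lit 0x1014100a10108) (nat_lit 2052))
)) (.node (nat_lit 0x1014100aa4120) (.leaf (nat_lit 0x1014100a1010d) (nat_lit 1795))
 (.node (nat_lit 0x1014100aa4125) (.leaf (nat_lit 0x1014100aa4120) (nat_lit 2050))
 (.leaf (nat_lit 0x1014100aa4125) (nat_lit 2308))
))) (.node (nat_lit 0x101410101010d) (.node (nat_lit 0x1014100ab010d) (.leaf (nat_lit 0x1014100ab0108) (nat_lit 1796))
 (.node (nat_lit 0x1014101010105) (.leaf (nat_lit 0x1014100ab010d) (nat_lit 1539))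
 (.leaf (nat_lit 0x1014101010105) (nat_lit 1796))
)) (.node (nat_lit 0x1014101030125) (.leaf (nat_lit 0x101410101010d) (nat_lit 1536))
 (.node (nat_lit 0x101410103012d) (.leaf (nat_lit 0x1014101030125) (nat_lit 1284))
 (.leaf (nat_lit 0x101410103012d) (nat_lit 1025))
)))))))) (.node (nat_lit 0x1016100ab4121) (.node (nat_lit 0x101490121010c) (.node (nat_lit 0x1014104a30108) (.node (nat_lit 0x1014101ab0108) (.node (nat_lit 0x1014101a10108) (.node (nat_lit 0x10141010b0105) (.node (nat_lit 0x101410109012d) (.leaf (nat_lit 0x1014101090125) (nat_lit 1540))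
 (.leaf (nat_lit 0x101410109012d) (nat_lit 1280))
) (.node (nat_lit 0x10141010b010d) (.leaf (nat_lit 0x10141010b0105) (nat_lit 1540))
 (.node (nat_lit 0x1014101a10105) (.leaf (nat_lit 0x10141010b010d) (nat_lit 1281))
 (.leaf (nat_lit 0x1014101a10105) (nat_lit 2051))
))) (.node (nat_lit 0x1014101a84120) (.node (nat_lit 0x1014101a24120) (.leaf (nat_lit 0x1014101a10108) (nat_lit 2307))
 (.node (nat_lit 0x1014101a2412d) (.leaf (nat_lit 0x1014101a24120) (nat_lit 2050))
 (.leaf (nat_lit 0x1014101a2412d) (nat_lit 2306))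
)) (.node (nat_lit 0x1014101a8412d) (.leaf (nat_lit 0x1014101a84120) (nat_lit 2306))
 (.node (nat_lit 0x1014101ab0105) (.leaf (nat_lit 0x1014101a8412d) (nat_lit 2562))
 (.leaf (nat_lit 0x1014101ab0105) (nat_lit 1795))
)))) (.node (nat_lit 0x101410408410d) (.node (nat_lit 0x1014104004125) (.node (nat_lit 0x1014104004105) (.leaf (nat_lit 0x1014101ab0108) (nat_lit 2051))
 (.leaf (nat_lit 0x1014104004105) (nat_lit 2051))
) (.node (nat_lit 0x101410402410d) (.leaf (nat_lit 0x1014104004125) (nat_lit 2307))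
 (.node (nat_lit 0x101410402412d) (.leaf (nat_lit 0x101410402410d) (nat_lit 2306))
 (.leaf (nat_lit 0x101410402412d) (nat_lit 2562))
))) (.node (nat_lit 0x10141040a4125) (.node (nat_lit 0x101410408412d) (.leaf (nat_lit 0x101410408410d) (nat_lit 2562))
 (.node (nat_lit 0x10141040a4105) (.leaf (nat_lit 0x101410408412d) (nat_lit 2818))
 (.leaf (nat_lit 0x10141040a4105) (nat_lit 2307))
)) (.node (nat_lit 0x1014104a04105) (.leaf (nat_lit 0x10141040a4125) (nat_lit 2563))
 (.node (nat_lit 0x1014104a04120) (.leaf (nat_lit 0x1014104a04105) (nat_lit 1796))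
 (.leaf (nat_lit 0x1014104a04120) (nat_lit 1538))
))))) (.node (nat_lit 0x1014105a84120) (.node (nat_lit 0x1014104aa4120) (.node (nat_lit 0x1014104a90108) (.node (nat_lit 0x1014104a3012d) (.leaf (nat_lit 0x1014104a30108) (nat_lit 1540))
 (.leaf (nat_lit 0x1014104a3012d) (nat_lit 1283))
) (.node (nat_lit 0x1014104a9012d) (.leaf (nat_lit 0x1014104a90108) (nat_lit 1796))
 (.node (nat_lit 0x1014104aa4105) (.leaf (nat_lit 0x1014104a9012d) (nat_lit 1539))
 (.leaf (nat_lit 0x1014104aa4105) (nat_lit 2052))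
))) (.node (nat_lit 0x1014105a30108) (.node (nat_lit 0x1014105a2410d) (.leaf (nat_lit 0x1014104aa4120) (nat_lit 1794))
 (.node (nat_lit 0x1014105a24120) (.leaf (nat_lit 0x1014105a2410d) (nat_lit 2050))
 (.leaf (nat_lit 0x1014105a24120) (nat_lit 1794))
)) (.node (nat_lit 0x1014105a30125) (.leaf (nat_lit 0x1014105a30108) (nat_lit 1795))
 (.node (nat_lit 0x1014105a8410d) (.leaf (nat_lit 0x1014105a30125) (nat_lit 1539))
 (.leaf (nat_lit 0x1014105a8410d) (nat_lit 2306))
)))) (.node (nat_lit 0x1014900a1010c) (.node (nat_lit 0x1014900a04120) (.node (nat_lit 0x1014105a90108) (.leaf (nat_lit 0x1014105a84120) (nat_lit 2050))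
 (.node (nat_lit 0x1014105a90125) (.leaf (nat_lit 0x1014105a90108) (nat_lit 2051))
 (.leaf (nat_lit 0x1014105a90125) (nat_lit 1795))
)) (.node (nat_lit 0x1014900a04125) (.leaf (nat_lit 0x1014900a04120) (nat_lit 2049))
 (.node (nat_lit 0x1014900a10109) (.leaf (nat_lit 0x1014900a04125) (nat_lit 2308))
 (.leaf (nat_lit 0x1014900a10109) (nat_lit 2308))
))) (.node (nat_lit 0x1014900ab4109) (.node (nat_lit 0x1014900aa0120) (.leaf (nat_lit 0x1014900a1010c) (nat_lit 2048))
 (.node (nat_lit 0x1014900aa0125) (.leaf (nat_lit 0x1014900aa0120) (nat_lit 2304))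
 (.leaf (nat_lit 0x1014900aa0125) (nat_lit 2564))
)) (.node (nat_lit 0x1014900ab410c) (.leaf (nat_lit 0x1014900ab4109) (nat_lit 2052))
 (.node (nat_lit 0x1014901210105) (.leaf (nat_lit 0x1014900ab410c) (nat_lit 1793))
 (.leaf (nat_lit 0x1014901210105) (nat_lit 2052))
)))))) (.node (nat_lit 0x10149040a0125) (.node (nat_lit 0x1014901884120) (.node (nat_lit 0x10149012b4105) (.node (nat_lit 0x101490123412c) (.node (nat_lit 0x1014901234125) (.leaf (nat_lit 0x101490121010c) (nat_lit 1792))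
 (.leaf (nat_lit 0x1014901234125) (nat_lit 1540))
) (.node (nat_lit 0x1014901290125) (.leaf (nat_lit 0x101490123412c) (nat_lit 1281))
 (.node (nat_lit 0x101490129012c) (.leaf (nat_lit 0x1014901290125) (nat_lit 1796))
 (.leaf (nat_lit 0x101490129012c) (nat_lit 1536))
))) (.node (nat_lit 0x1014901810109) (.node (nat_lit 0x10149012b410c) (.leaf (nat_lit 0x10149012b4105) (nat_lit 1796))
 (.node (nat_lit 0x1014901810105) (.leaf (nat_lit 0x10149012b410c) (nat_lit 1537))
 (.leaf (nat_lit 0x1014901810105) (nat_lit 2307))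
)) (.node (nat_lit 0x1014901820120) (.leaf (nat_lit 0x1014901810109) (nat_lit 2563))
 (.node (nat_lit 0x101490182012c) (.leaf (nat_lit 0x1014901820120) (nat_lit 2306))
 (.leaf (nat_lit 0x101490182012c) (nat_lit 2562))
)))) (.node (nat_lit 0x1014904004125) (.node (nat_lit 0x10149018b4105) (.node (nat_lit 0x101490188412c) (.leaf (nat_lit 0x1014901884120) (nat_lit 2562))
 (.leaf (nat_lit 0x101490188412c) (nat_lit 2818))
) (.node (nat_lit 0x10149018b4109) (.leaf (nat_lit 0x10149018b4105) (nat_lit 2051))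
 (.node (nat_lit 0x1014904004105) (.leaf (nat_lit 0x10149018b4109) (nat_lit 2307))
 (.leaf (nat_lit 0x1014904004105) (nat_lit 2307))
))) (.node (nat_lit 0x101490408410c) (.node (nat_lit 0x101490402010c) (.leaf (nat_lit 0x1014904004125) (nat_lit 2563))
 (.node (nat_lit 0x101490402012c) (.leaf (nat_lit 0x101490402010c) (nat_lit 2562))
 (.leaf (nat_lit 0x101490402012c) (nat_lit 2818))
)) (.node (nat_lit 0x101490408412c) (.leaf (nat_lit 0x101490408410c) (nat_lit 2818))
 (.node (nat_lit 0x10149040a0105) (.leaf (nat_lit 0x101490408412c) (nat_lit 3074))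
 (.leaf (nat_lit 0x10149040a0105) (nat_lit 2563))
))))) (.node (nat_lit 0x1014905834109) (.node (nat_lit 0x1014904a90109) (.node (nat_lit 0x1014904a04120) (.node (nat_lit 0x1014904a04105) (.leaf (nat_lit 0x10149040a0125) (nat_lit 2819))
 (.leaf (nat_lit 0x1014904a04105) (nat_lit 2052))
) (.node (nat_lit 0x1014904a34109) (.leaf (nat_lit 0x1014904a04120) (nat_lit 1793))
 (.node (nat_lit 0x1014904a3412c) (.leaf (nat_lit 0x1014904a34109) (nat_lit 1796))
 (.leaf (nat_lit 0x1014904a3412c) (nat_lit 1537))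
))) (.node (nat_lit 0x1014904aa0120) (.node (nat_lit 0x1014904a9012c) (.leaf (nat_lit 0x1014904a90109) (nat_lit 2052))
 (.node (nat_lit 0x1014904aa0105) (.leaf (nat_lit 0x1014904a9012c) (nat_lit 1792))
 (.leaf (nat_lit 0x1014904aa0105) (nat_lit 2308))
)) (.node (nat_lit 0x101490582010c) (.leaf (nat_lit 0x1014904aa0120) (nat_lit 2048))
 (.node (nat_lit 0x1014905820120) (.leaf (nat_lit 0x101490582010c) (nat_lit 2306))
 (.leaf (nat_lit 0x1014905820120) (nat_lit 2050))
)))) (.node (nat_lit 0x1016100a04121) (.node (nat_lit 0x1014905884120) (.node (nat_lit 0x1014905834125) (.leaf (nat_lit 0x1014905834109) (nat_lit 2051))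
 (.node (nat_lit 0x101490588410c) (.leaf (nat_lit 0x1014905834125) (nat_lit 1795))
 (.leaf (nat_lit 0x101490588410c) (nat_lit 2562))
)) (.node (nat_lit 0x1014905890109) (.leaf (nat_lit 0x1014905884120) (nat_lit 2306))
 (.node (nat_lit 0x1014905890125) (.leaf (nat_lit 0x1014905890109) (nat_lit 2307))
 (.leaf (nat_lit 0x1014905890125) (nat_lit 2051))
))) (.node (nat_lit 0x1016100a1010d) (.node (nat_lit 0x1016100a04124) (.leaf (nat_lit 0x1016100a04121) (nat_lit 1796))
 (.node (nat_lit 0x1016100a10108) (.leaf (nat_lit 0x1016100a04124) (nat_lit 1538))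
 (.leaf (nat_lit 0x1016100a10108) (nat_lit 1796))
)) (.node (nat_lit 0x1016100aa0108) (.leaf (nat_lit 0x1016100a1010d) (nat_lit 1539))
 (.node (nat_lit 0x1016100aa010d) (.leaf (nat_lit 0x1016100aa0108) (nat_lit 1540))
 (.leaf (nat_lit 0x1016100aa010d) (nat_lit 1283))
))))))) (.node (nat_lit 0x1016900a1010c) (.node (nat_lit 0x1016104280108) (.node (nat_lit 0x1016101a10108) (.node (nat_lit 0x1016101030129) (.node (nat_lit 0x1016101010105) (.node (nat_lit 0x1016100ab4124) (.leaf (nat_lit 0x1016100ab4121) (nat_lit 2052))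
 (.leaf (nat_lit 0x1016100ab4124) (nat_lit 1794))
) (.node (nat_lit 0x101610101010d) (.leaf (nat_lit 0x1016101010105) (nat_lit 1540))
 (.node (nat_lit 0x1016101030121) (.leaf (nat_lit 0x101610101010d) (nat_lit 1280))
 (.leaf (nat_lit 0x1016101030121) (nat_lit 1028))
))) (.node (nat_lit 0x10161010a0105) (.node (nat_lit 0x1016101080121) (.leaf (nat_lit 0x1016101030129) (nat_lit 769))
 (.node (nat_lit 0x1016101080129) (.leaf (nat_lit 0x1016101080121) (nat_lit 1284))
 (.leaf (nat_lit 0x1016101080129) (nat_lit 1024))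
)) (.node (nat_lit 0x10161010a010d) (.leaf (nat_lit 0x10161010a0105) (nat_lit 1284))
 (.node (nat_lit 0x1016101a10105) (.leaf (nat_lit 0x10161010a010d) (nat_lit 1025))
 (.leaf (nat_lit 0x1016101a10105) (nat_lit 1795))
)))) (.node (nat_lit 0x1016101aa0105) (.node (nat_lit 0x1016101a24129) (.node (nat_lit 0x1016101a24124) (.leaf (nat_lit 0x1016101a10108) (nat_lit 2051))
 (.leaf (nat_lit 0x1016101a24124) (nat_lit 1794))
) (.node (nat_lit 0x1016101a94124) (.leaf (nat_lit 0x1016101a24129) (nat_lit 2050))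
 (.node (nat_lit 0x1016101a94129) (.leaf (nat_lit 0x1016101a94124) (nat_lit 2050))
 (.leaf (nat_lit 0x1016101a94129) (nat_lit 2306))
))) (.node (nat_lit 0x1016104204124) (.node (nat_lit 0x1016101aa0108) (.leaf (nat_lit 0x1016101aa0105) (nat_lit 1539))
 (.node (nat_lit 0x1016104204105) (.leaf (nat_lit 0x1016101aa0108) (nat_lit 1795))
 (.leaf (nat_lit 0x1016104204105) (nat_lit 1540))
)) (.node (nat_lit 0x1016104230108) (.leaf (nat_lit 0x1016104204124) (nat_lit 1282))
 (.node (nat_lit 0x1016104230129) (.leaf (nat_lit 0x1016104230108) (nat_lit 1284))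
 (.leaf (nat_lit 0x1016104230129) (nat_lit 1027))
))))) (.node (nat_lit 0x10161048b4121) (.node (nat_lit 0x1016104804121) (.node (nat_lit 0x10161042b4105) (.node (nat_lit 0x1016104280129) (.leaf (nat_lit 0x1016104280108) (nat_lit 1540))
 (.leaf (nat_lit 0x1016104280129) (nat_lit 1283))
) (.node (nat_lit 0x10161042b4124) (.leaf (nat_lit 0x10161042b4105) (nat_lit 1796))
 (.node (nat_lit 0x1016104804105) (.leaf (nat_lit 0x10161042b4124) (nat_lit 1538))
 (.leaf (nat_lit 0x1016104804105) (nat_lit 1795))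
))) (.node (nat_lit 0x101610489410d) (.node (nat_lit 0x101610482410d) (.leaf (nat_lit 0x1016104804121) (nat_lit 2051))
 (.node (nat_lit 0x1016104824129) (.leaf (nat_lit 0x101610482410d) (nat_lit 2050))
 (.leaf (nat_lit 0x1016104824129) (nat_lit 2306))
)) (.node (nat_lit 0x1016104894129) (.leaf (nat_lit 0x101610489410d) (nat_lit 2306))
 (.node (nat_lit 0x10161048b4105) (.leaf (nat_lit 0x1016104894129) (nat_lit 2562))
 (.leaf (nat_lit 0x10161048b4105) (nat_lit 2051))
)))) (.node (nat_lit 0x1016105280121) (.node (nat_lit 0x1016105230108) (.node (nat_lit 0x101610522410d) (.leaf (nat_lit 0x10161048b4121) (nat_lit 2307))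
 (.node (nat_lit 0x1016105224124) (.leaf (nat_lit 0x101610522410d) (nat_lit 1794))
 (.leaf (nat_lit 0x1016105224124) (nat_lit 1538))
)) (.node (nat_lit 0x1016105230121) (.leaf (nat_lit 0x1016105230108) (nat_lit 1539))
 (.node (nat_lit 0x1016105280108) (.leaf (nat_lit 0x1016105230121) (nat_lit 1283))
 (.leaf (nat_lit 0x1016105280108) (nat_lit 1795))
))) (.node (nat_lit 0x1016900a04121) (.node (nat_lit 0x101610529410d) (.leaf (nat_lit 0x1016105280121) (nat_lit 1539))
 (.node (nat_lit 0x1016105294124) (.leaf (nat_lit 0x101610529410d) (nat_lit 2050))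
 (.leaf (nat_lit 0x1016105294124) (nat_lit 1794))
)) (.node (nat_lit 0x1016900a04124) (.leaf (nat_lit 0x1016900a04121) (nat_lit 2052))
 (.node (nat_lit 0x1016900a10109) (.leaf (nat_lit 0x1016900a04124) (nat_lit 1793))
 (.leaf (nat_lit 0x1016900a10109) (nat_lit 2052))
)))))) (.node (nat_lit 0x1016904204124) (.node (nat_lit 0x10169012a4105) (.node (nat_lit 0x1016901210105) (.node (nat_lit 0x1016900aa410c) (.node (nat_lit 0x1016900aa4109) (.leaf (nat_lit 0x1016900a1010c) (nat_lit 1792))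
 (.leaf (nat_lit 0x1016900aa4109) (nat_lit 1796))
) (.node (nat_lit 0x1016900ab0121) (.leaf (nat_lit 0x1016900aa410c) (nat_lit 1537))
 (.node (nat_lit 0x1016900ab0124) (.leaf (nat_lit 0x1016900ab0121) (nat_lit 2308))
 (.leaf (nat_lit 0x1016900ab0124) (nat_lit 2048))
))) (.node (nat_lit 0x1016901234128) (.node (nat_lit 0x101690121010c) (.leaf (nat_lit 0x1016901210105) (nat_lit 1796))
 (.node (nat_lit 0x1016901234121) (.leaf (nat_lit 0x101690121010c) (nat_lit 1536))
 (.leaf (nat_lit 0x1016901234121) (nat_lit 1284))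
)) (.node (nat_lit 0x1016901280121) (.leaf (nat_lit 0x1016901234128) (nat_lit 1025))
 (.node (nat_lit 0x1016901280128) (.leaf (nat_lit 0x1016901280121) (nat_lit 1540))
 (.leaf (nat_lit 0x1016901280128) (nat_lit 1280))
)))) (.node (nat_lit 0x1016901820128) (.node (nat_lit 0x1016901810105) (.node (nat_lit 0x10169012a410c) (.leaf (nat_lit 0x10169012a4105) (nat_lit 1540))
 (.leaf (nat_lit 0x10169012a410c) (nat_lit 1281))
) (.node (nat_lit 0x1016901810109) (.leaf (nat_lit 0x1016901810105) (nat_lit 2051))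
 (.node (nat_lit 0x1016901820124) (.leaf (nat_lit 0x1016901810109) (nat_lit 2307))
 (.leaf (nat_lit 0x1016901820124) (nat_lit 2050))
))) (.node (nat_lit 0x10169018a4105) (.node (nat_lit 0x1016901894124) (.leaf (nat_lit 0x1016901820128) (nat_lit 2306))
 (.node (nat_lit 0x1016901894128) (.leaf (nat_lit 0x1016901894124) (nat_lit 2306))
 (.leaf (nat_lit 0x1016901894128) (nat_lit 2562))
)) (.node (nat_lit 0x10169018a4109) (.leaf (nat_lit 0x10169018a4105) (nat_lit 1795))
 (.node (nat_lit 0x1016904204105) (.leaf (nat_lit 0x10169018a4109) (nat_lit 2051))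
 (.leaf (nat_lit 0x1016904204105) (nat_lit 1796))
))))) (.node (nat_lit 0x101690489410c) (.node (nat_lit 0x10169042b0105) (.node (nat_lit 0x1016904234128) (.node (nat_lit 0x1016904234109) (.leaf (nat_lit 0x1016904204124) (nat_lit 1537))
 (.leaf (nat_lit 0x1016904234109) (nat_lit 1540))
) (.node (nat_lit 0x1016904280109) (.leaf (nat_lit 0x1016904234128) (nat_lit 1281))
 (.node (nat_lit 0x1016904280128) (.leaf (nat_lit 0x1016904280109) (nat_lit 1796))
 (.leaf (nat_lit 0x1016904280128) (nat_lit 1536))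
))) (.node (nat_lit 0x1016904804121) (.node (nat_lit 0x10169042b0124) (.leaf (nat_lit 0x10169042b0105) (nat_lit 2052))
 (.node (nat_lit 0x1016904804105) (.leaf (nat_lit 0x10169042b0124) (nat_lit 1792))
 (.leaf (nat_lit 0x1016904804105) (nat_lit 2051))
)) (.node (nat_lit 0x101690482010c) (.leaf (nat_lit 0x1016904804121) (nat_lit 2307))
 (.node (nat_lit 0x1016904820128) (.leaf (nat_lit 0x101690482010c) (nat_lit 2306))
 (.leaf (nat_lit 0x1016904820128) (nat_lit 2562))
)))) (.node (nat_lit 0x1016905034109) (.node (nat_lit 0x10169048b0121) (.node (nat_lit 0x1016904894128) (.leaf (nat_lit 0x101690489410c) (nat_lit 2562))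
 (.node (nat_lit 0x10169048b0105) (.leaf (nat_lit 0x1016904894128) (nat_lit 2818))
 (.leaf (nat_lit 0x10169048b0105) (nat_lit 2307))
)) (.node (nat_lit 0x101690502010c) (.leaf (nat_lit 0x10169048b0121) (nat_lit 2563))
 (.node (nat_lit 0x1016905020124) (.leaf (nat_lit 0x101690502010c) (nat_lit 2050))
 (.leaf (nat_lit 0x1016905020124) (nat_lit 1794))
))) (.node (nat_lit 0x1016905080121) (.node (nat_lit 0x1016905034121) (.leaf (nat_lit 0x1016905034109) (nat_lit 1795))
 (.node (nat_lit 0x1016905080109) (.leaf (nat_lit 0x1016905034121) (nat_lit 1539))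
 (.leaf (nat_lit 0x1016905080109) (nat_lit 2051))
)) (.node (nat_lit 0x101690509410c) (.leaf (nat_lit 0x1016905080121) (nat_lit 1795))
 (.node (nat_lit 0x1016905094124) (.leaf (nat_lit 0x101690509410c) (nat_lit 2306))
 (.leaf (nat_lit 0x1016905094124) (nat_lit 2050))
))))))))))

theorem Lv0_ok : genOK B7.A [(nat_lit 0x1010101090101), (nat_lit 0x1012101010101), (nat_lit 0x10101010b0129), (nat_lit 0x1010101210101), (nat_lit 0x1010101010109)] Lv0_t (nat_lit 720) = true := by decide +kernel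

noncomputable def C0_t : ST :=
(.node (nat_lit 0x1010500210108) (.node (nat_lit 0x1004504804104) (.node (nat_lit 0x10025018a4105) (.node (nat_lit 0x1000d04a34104) (.node (nat_lit 0x1000904aa0120) (.node (nat_lit 0x10009040a4105) (.node (nat_lit 0x1000900aa4125) (.node (nat_lit 0x1000900830125) (.node (nat_lit 0x1000900824120) (.node (nat_lit 0x1000900820124) (.leaf (nat_lit 0x1000900820120) (nat_lit 2306))
 (.leaf (nat_lit 0x1000900820124) (nat_lit 2562))
) (.node (nat_lit 0x1000900824124) (.leaf (nat_lit 0x1000900824120) (nat_lit 2562))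
 (.node (nat_lit 0x1000900830121) (.leaf (nat_lit 0x1000900824124) (nat_lit 2818))
 (.leaf (nat_lit 0x1000900830121) (nat_lit 2563))
))) (.node (nat_lit 0x1000900aa0120) (.node (nat_lit 0x1000900834121) (.leaf (nat_lit 0x1000900830125) (nat_lit 2307))
 (.node (nat_lit 0x1000900834125) (.leaf (nat_lit 0x1000900834121) (nat_lit 2307))
 (.leaf (nat_lit 0x1000900834125) (nat_lit 2051))
)) (.node (nat_lit 0x1000900aa0125) (.leaf (nat_lit 0x1000900aa0120) (nat_lit 2560))
 (.node (nat_lit 0x1000900aa4120) (.leaf (nat_lit 0x1000900aa0125) (nat_lit 2820))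
 (.leaf (nat_lit 0x1000900aa4120) (nat_lit 2305))
)))) (.node (nat_lit 0x1000904020104) (.node (nat_lit 0x1000900ab0124) (.node (nat_lit 0x1000900ab0121) (.leaf (nat_lit 0x1000900aa4125) (nat_lit 2564))
 (.leaf (nat_lit 0x1000900ab0121) (nat_lit 2564))
) (.node (nat_lit 0x1000900ab4121) (.leaf (nat_lit 0x1000900ab0124) (nat_lit 2304))
 (.node (nat_lit 0x1000900ab4124) (.leaf (nat_lit 0x1000900ab4121) (nat_lit 2308))
 (.leaf (nat_lit 0x1000900ab4124) (nat_lit 2049))
))) (.node (nat_lit 0x1000904024124) (.node (nat_lit 0x1000904020124) (.leaf (nat_lit 0x1000904020104) (nat_lit 3074))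
 (.node (nat_lit 0x1000904024104) (.leaf (nat_lit 0x1000904020124) (nat_lit 2818))
 (.leaf (nat_lit 0x1000904024104) (nat_lit 3330))
)) (.node (nat_lit 0x10009040a0105) (.leaf (nat_lit 0x1000904024124) (nat_lit 3074))
 (.node (nat_lit 0x10009040a0125) (.leaf (nat_lit 0x10009040a0105) (nat_lit 2819))
 (.leaf (nat_lit 0x10009040a0125) (nat_lit 3075))
))))) (.node (nat_lit 0x1000904820120) (.node (nat_lit 0x1000904234125) (.node (nat_lit 0x1000904230104) (.node (nat_lit 0x10009040a4125) (.leaf (nat_lit 0x10009040a4105) (nat_lit 2563))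
 (.leaf (nat_lit 0x10009040a4125) (nat_lit 2819))
) (.node (nat_lit 0x1000904230125) (.leaf (nat_lit 0x1000904230104) (nat_lit 1792))
 (.node (nat_lit 0x1000904234104) (.leaf (nat_lit 0x1000904230125) (nat_lit 2052))
 (.leaf (nat_lit 0x1000904234104) (nat_lit 1537))
))) (.node (nat_lit 0x10009042b4105) (.node (nat_lit 0x10009042b0105) (.leaf (nat_lit 0x1000904234125) (nat_lit 1796))
 (.node (nat_lit 0x10009042b0124) (.leaf (nat_lit 0x10009042b0105) (nat_lit 2308))
 (.leaf (nat_lit 0x10009042b0124) (nat_lit 2048))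
)) (.node (nat_lit 0x10009042b4124) (.leaf (nat_lit 0x10009042b4105) (nat_lit 2052))
 (.node (nat_lit 0x1000904820104) (.leaf (nat_lit 0x10009042b4124) (nat_lit 1793))
 (.leaf (nat_lit 0x1000904820104) (nat_lit 2818))
)))) (.node (nat_lit 0x10009048b4121) (.node (nat_lit 0x10009048b0105) (.node (nat_lit 0x1000904824104) (.leaf (nat_lit 0x1000904820120) (nat_lit 2562))
 (.node (nat_lit 0x1000904824120) (.leaf (nat_lit 0x1000904824104) (nat_lit 3074))
 (.leaf (nat_lit 0x1000904824120) (nat_lit 2818))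
)) (.node (nat_lit 0x10009048b0121) (.leaf (nat_lit 0x10009048b0105) (nat_lit 2563))
 (.node (nat_lit 0x10009048b4105) (.leaf (nat_lit 0x10009048b0121) (nat_lit 2819))
 (.leaf (nat_lit 0x10009048b4105) (nat_lit 2307))
))) (.node (nat_lit 0x1000904a34104) (.node (nat_lit 0x1000904a30104) (.leaf (nat_lit 0x10009048b4121) (nat_lit 2563))
 (.node (nat_lit 0x1000904a30121) (.leaf (nat_lit 0x1000904a30104) (nat_lit 2048))
 (.leaf (nat_lit 0x1000904a30121) (nat_lit 2308))
)) (.node (nat_lit 0x1000904a34121) (.leaf (nat_lit 0x1000904a34104) (nat_lit 1793))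
 (.node (nat_lit 0x1000904aa0105) (.leaf (nat_lit 0x1000904a34121) (nat_lit 2052))
 (.leaf (nat_lit 0x1000904aa0105) (nat_lit 2564))
)))))) (.node (nat_lit 0x1000d04024124) (.node (nat_lit 0x1000d00aa0120) (.node (nat_lit 0x1000d00824120) (.node (nat_lit 0x1000904aa4120) (.node (nat_lit 0x1000904aa4105) (.leaf (nat_lit 0x1000904aa0120) (nat_lit 2304))
 (.leaf (nat_lit 0x1000904aa4105) (nat_lit 2308))
) (.node (nat_lit 0x1000d00820120) (.leaf (nat_lit 0x1000904aa4120) (nat_lit 2049))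
 (.node (nat_lit 0x1000d00820124) (.leaf (nat_lit 0x1000d00820120) (nat_lit 2565))
 (.leaf (nat_lit 0x1000d00820124) (nat_lit 2821))
))) (.node (nat_lit 0x1000d00830125) (.node (nat_lit 0x1000d00824124) (.leaf (nat_lit 0x1000d00824120) (nat_lit 2821))
 (.node (nat_lit 0x1000d00830121) (.leaf (nat_lit 0x1000d00824124) (nat_lit 3077))
 (.leaf (nat_lit 0x1000d00830121) (nat_lit 2821))
)) (.node (nat_lit 0x1000d00834121) (.leaf (nat_lit 0x1000d00830125) (nat_lit 2565))
 (.node (nat_lit 0x1000d00834125) (.leaf (nat_lit 0x1000d00834121) (nat_lit 2565))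
 (.leaf (nat_lit 0x1000d00834125) (nat_lit 2309))
)))) (.node (nat_lit 0x1000d00ab0124) (.node (nat_lit 0x1000d00aa4120) (.node (nat_lit 0x1000d00aa0125) (.leaf (nat_lit 0x1000d00aa0120) (nat_lit 2821))
 (.leaf (nat_lit 0x1000d00aa0125) (nat_lit 3077))
) (.node (nat_lit 0x1000d00aa4125) (.leaf (nat_lit 0x1000d00aa4120) (nat_lit 2565))
 (.node (nat_lit 0x1000d00ab0121) (.leaf (nat_lit 0x1000d00aa4125) (nat_lit 2821))
 (.leaf (nat_lit 0x1000d00ab0121) (nat_lit 2821))
))) (.node (nat_lit 0x1000d04020104) (.node (nat_lit 0x1000d00ab4121) (.leaf (nat_lit 0x1000d00ab0124) (nat_lit 2565))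
 (.node (nat_lit 0x1000d00ab4124) (.leaf (nat_lit 0x1000d00ab4121) (nat_lit 2565))
 (.leaf (nat_lit 0x1000d00ab4124) (nat_lit 2309))
)) (.node (nat_lit 0x1000d04020124) (.leaf (nat_lit 0x1000d04020104) (nat_lit 3333))
 (.node (nat_lit 0x1000d04024104) (.leaf (nat_lit 0x1000d04020124) (nat_lit 3077))
 (.leaf (nat_lit 0x1000d04024104) (nat_lit 3589))
))))) (.node (nat_lit 0x1000d042b4105) (.node (nat_lit 0x1000d04230104) (.node (nat_lit 0x1000d040a0125) (.node (nat_lit 0x1000d040a0105) (.leaf (nat_lit 0x1000d04024124) (nat_lit 3333))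
 (.leaf (nat_lit 0x1000d040a0105) (nat_lit 3077))
) (.node (nat_lit 0x1000d040a4105) (.leaf (nat_lit 0x1000d040a0125) (nat_lit 3333))
 (.node (nat_lit 0x1000d040a4125) (.leaf (nat_lit 0x1000d040a4105) (nat_lit 2821))
 (.leaf (nat_lit 0x1000d040a4125) (nat_lit 3077))
))) (.node (nat_lit 0x1000d04234125) (.node (nat_lit 0x1000d04230125) (.leaf (nat_lit 0x1000d04230104) (nat_lit 2053))
 (.node (nat_lit 0x1000d04234104) (.leaf (nat_lit 0x1000d04230125) (nat_lit 2309))
 (.leaf (nat_lit 0x1000d04234104) (nat_lit 1797))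
)) (.node (nat_lit 0x1000d042b0105) (.leaf (nat_lit 0x1000d04234125) (nat_lit 2053))
 (.node (nat_lit 0x1000d042b0124) (.leaf (nat_lit 0x1000d042b0105) (nat_lit 2565))
 (.leaf (nat_lit 0x1000d042b0124) (nat_lit 2309))
)))) (.node (nat_lit 0x1000d048b0105) (.node (nat_lit 0x1000d04820120) (.node (nat_lit 0x1000d042b4124) (.leaf (nat_lit 0x1000d042b4105) (nat_lit 2309))
 (.node (nat_lit 0x1000d04820104) (.leaf (nat_lit 0x1000d042b4124) (nat_lit 2053))
 (.leaf (nat_lit 0x1000d04820104) (nat_lit 3077))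
)) (.node (nat_lit 0x1000d04824104) (.leaf (nat_lit 0x1000d04820120) (nat_lit 2821))
 (.node (nat_lit 0x1000d04824120) (.leaf (nat_lit 0x1000d04824104) (nat_lit 3333))
 (.leaf (nat_lit 0x1000d04824120) (nat_lit 3077))
))) (.node (nat_lit 0x1000d048b4121) (.node (nat_lit 0x1000d048b0121) (.leaf (nat_lit 0x1000d048b0105) (nat_lit 2821))
 (.node (nat_lit 0x1000d048b4105) (.leaf (nat_lit 0x1000d048b0121) (nat_lit 3077))
 (.leaf (nat_lit 0x1000d048b4105) (nat_lit 2565))
)) (.node (nat_lit 0x1000d04a30104) (.leaf (nat_lit 0x1000d048b4121) (nat_lit 2821))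
 (.node (nat_lit 0x1000d04a30121) (.leaf (nat_lit 0x1000d04a30104) (nat_lit 2309))
 (.leaf (nat_lit 0x1000d04a30121) (nat_lit 2565))
))))))) (.node (nat_lit 0x10021018b4109) (.node (nat_lit 0x1002101080101) (.node (nat_lit 0x1002100290109) (.node (nat_lit 0x1000d04aa4120) (.node (nat_lit 0x1000d04aa0105) (.node (nat_lit 0x1000d04a34121) (.leaf (nat_lit 0x1000d04a34104) (nat_lit 2053))
 (.leaf (nat_lit 0x1000d04a34121) (nat_lit 2309))
) (.node (nat_lit 0x1000d04aa0120) (.leaf (nat_lit 0x1000d04aa0105) (nat_lit 2821))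
 (.node (nat_lit 0x1000d04aa4105) (.leaf (nat_lit 0x1000d04aa0120) (nat_lit 2565))
 (.leaf (nat_lit 0x1000d04aa4105) (nat_lit 2565))
))) (.node (nat_lit 0x100210028410c) (.node (nat_lit 0x1002100280108) (.leaf (nat_lit 0x1000d04aa4120) (nat_lit 2309))
 (.node (nat_lit 0x1002100280109) (.leaf (nat_lit 0x1002100280108) (nat_lit 1539))
 (.leaf (nat_lit 0x1002100280109) (nat_lit 1283))
)) (.node (nat_lit 0x100210028410d) (.leaf (nat_lit 0x100210028410c) (nat_lit 1282))
 (.node (nat_lit 0x1002100290108) (.leaf (nat_lit 0x100210028410d) (nat_lit 1538))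
 (.leaf (nat_lit 0x1002100290108) (nat_lit 1283))
)))) (.node (nat_lit 0x1002100aa4109) (.node (nat_lit 0x100210029410d) (.node (nat_lit 0x100210029410c) (.leaf (nat_lit 0x1002100290109) (nat_lit 1027))
 (.leaf (nat_lit 0x100210029410c) (nat_lit 1538))
) (.node (nat_lit 0x1002100aa0108) (.leaf (nat_lit 0x100210029410d) (nat_lit 1794))
 (.node (nat_lit 0x1002100aa010d) (.leaf (nat_lit 0x1002100aa0108) (nat_lit 1284))
 (.leaf (nat_lit 0x1002100aa010d) (nat_lit 1027))
))) (.node (nat_lit 0x1002100ab010d) (.node (nat_lit 0x1002100aa410c) (.leaf (nat_lit 0x1002100aa4109) (nat_lit 1540))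
 (.node (nat_lit 0x1002100ab0108) (.leaf (nat_lit 0x1002100aa410c) (nat_lit 1282))
 (.leaf (nat_lit 0x1002100ab0108) (nat_lit 1540))
)) (.node (nat_lit 0x1002100ab4109) (.leaf (nat_lit 0x1002100ab010d) (nat_lit 1283))
 (.node (nat_lit 0x1002100ab410c) (.leaf (nat_lit 0x1002100ab4109) (nat_lit 1796))
 (.leaf (nat_lit 0x1002100ab410c) (nat_lit 1538))
))))) (.node (nat_lit 0x1002101290108) (.node (nat_lit 0x10021010a010d) (.node (nat_lit 0x1002101090101) (.node (nat_lit 0x1002101080109) (.leaf (nat_lit 0x1002101080101) (nat_lit 768))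
 (.leaf (nat_lit 0x1002101080109) (nat_lit 1028))
) (.node (nat_lit 0x1002101090109) (.leaf (nat_lit 0x1002101090101) (nat_lit 513))
 (.node (nat_lit 0x10021010a0105) (.leaf (nat_lit 0x1002101090109) (nat_lit 772))
 (.leaf (nat_lit 0x10021010a0105) (nat_lit 1028))
))) (.node (nat_lit 0x1002101280101) (.node (nat_lit 0x10021010b0105) (.leaf (nat_lit 0x10021010a010d) (nat_lit 770))
 (.node (nat_lit 0x10021010b010d) (.leaf (nat_lit 0x10021010b0105) (nat_lit 1284))
 (.leaf (nat_lit 0x10021010b010d) (nat_lit 1026))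
)) (.node (nat_lit 0x1002101280108) (.leaf (nat_lit 0x1002101280101) (nat_lit 1027))
 (.node (nat_lit 0x1002101290101) (.leaf (nat_lit 0x1002101280108) (nat_lit 1284))
 (.leaf (nat_lit 0x1002101290101) (nat_lit 771))
)))) (.node (nat_lit 0x100210188410d) (.node (nat_lit 0x10021012b4105) (.node (nat_lit 0x10021012a4105) (.leaf (nat_lit 0x1002101290108) (nat_lit 1028))
 (.node (nat_lit 0x10021012a410c) (.leaf (nat_lit 0x10021012a4105) (nat_lit 1284))
 (.leaf (nat_lit 0x10021012a410c) (nat_lit 1026))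
)) (.node (nat_lit 0x10021012b410c) (.leaf (nat_lit 0x10021012b4105) (nat_lit 1540))
 (.node (nat_lit 0x1002101884101) (.leaf (nat_lit 0x10021012b410c) (nat_lit 1282))
 (.leaf (nat_lit 0x1002101884101) (nat_lit 2050))
))) (.node (nat_lit 0x10021018a4105) (.node (nat_lit 0x1002101894101) (.leaf (nat_lit 0x100210188410d) (nat_lit 1794))
 (.node (nat_lit 0x100210189410d) (.leaf (nat_lit 0x1002101894101) (nat_lit 2306))
 (.leaf (nat_lit 0x100210189410d) (nat_lit 2050))
)) (.node (nat_lit 0x10021018a4109) (.leaf (nat_lit 0x10021018a4105) (nat_lit 1539))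
 (.node (nat_lit 0x10021018b4105) (.leaf (nat_lit 0x10021018a4109) (nat_lit 1795))
 (.leaf (nat_lit 0x10021018b4105) (nat_lit 1795))
)))))) (.node (nat_lit 0x1002500ab010d) (.node (nat_lit 0x100250028410c) (.node (nat_lit 0x1002101aa0105) (.node (nat_lit 0x1002101a8410c) (.node (nat_lit 0x1002101a84101) (.leaf (nat_lit 0x10021018b4109) (nat_lit 2051))
 (.leaf (nat_lit 0x1002101a84101) (nat_lit 1794))
) (.node (nat_lit 0x1002101a94101) (.leaf (nat_lit 0x1002101a8410c) (nat_lit 1538))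
 (.node (nat_lit 0x1002101a9410c) (.leaf (nat_lit 0x1002101a94101) (nat_lit 2050))
 (.leaf (nat_lit 0x1002101a9410c) (nat_lit 1794))
))) (.node (nat_lit 0x1002101ab0108) (.node (nat_lit 0x1002101aa0108) (.leaf (nat_lit 0x1002101aa0105) (nat_lit 1283))
 (.node (nat_lit 0x1002101ab0105) (.leaf (nat_lit 0x1002101aa0108) (nat_lit 1539))
 (.leaf (nat_lit 0x1002101ab0105) (nat_lit 1539))
)) (.node (nat_lit 0x1002500280108) (.leaf (nat_lit 0x1002101ab0108) (nat_lit 1795))
 (.node (nat_lit 0x1002500280109) (.leaf (nat_lit 0x1002500280108) (nat_lit 1797))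
 (.leaf (nat_lit 0x1002500280109) (nat_lit 1541))
)))) (.node (nat_lit 0x100250029410d) (.node (nat_lit 0x1002500290108) (.node (nat_lit 0x100250028410d) (.leaf (nat_lit 0x100250028410c) (nat_lit 1541))
 (.leaf (nat_lit 0x100250028410d) (nat_lit 1797))
) (.node (nat_lit 0x1002500290109) (.leaf (nat_lit 0x1002500290108) (nat_lit 1541))
 (.node (nat_lit 0x100250029410c) (.leaf (nat_lit 0x1002500290109) (nat_lit 1285))
 (.leaf (nat_lit 0x100250029410c) (nat_lit 1797))
))) (.node (nat_lit 0x1002500aa4109) (.node (nat_lit 0x1002500aa0108) (.leaf (nat_lit 0x100250029410d) (nat_lit 2053))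
 (.node (nat_lit 0x1002500aa010d) (.leaf (nat_lit 0x1002500aa0108) (nat_lit 1541))
 (.leaf (nat_lit 0x1002500aa010d) (nat_lit 1285))
)) (.node (nat_lit 0x1002500aa410c) (.leaf (nat_lit 0x1002500aa4109) (nat_lit 1797))
 (.node (nat_lit 0x1002500ab0108) (.leaf (nat_lit 0x1002500aa410c) (nat_lit 1541))
 (.leaf (nat_lit 0x1002500ab0108) (nat_lit 1797))
))))) (.node (nat_lit 0x1002501280101) (.node (nat_lit 0x1002501090101) (.node (nat_lit 0x1002500ab410c) (.node (nat_lit 0x1002500ab4109) (.leaf (nat_lit 0x1002500ab010d) (nat_lit 1541))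
 (.leaf (nat_lit 0x1002500ab4109) (nat_lit 2053))
) (.node (nat_lit 0x1002501080101) (.leaf (nat_lit 0x1002500ab410c) (nat_lit 1797))
 (.node (nat_lit 0x1002501080109) (.leaf (nat_lit 0x1002501080101) (nat_lit 1029))
 (.leaf (nat_lit 0x1002501080109) (nat_lit 1285))
))) (.node (nat_lit 0x10025010a010d) (.node (nat_lit 0x1002501090109) (.leaf (nat_lit 0x1002501090101) (nat_lit 773))
 (.node (nat_lit 0x10025010a0105) (.leaf (nat_lit 0x1002501090109) (nat_lit 1029))
 (.leaf (nat_lit 0x10025010a0105) (nat_lit 1285))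
)) (.node (nat_lit 0x10025010b0105) (.leaf (nat_lit 0x10025010a010d) (nat_lit 1029))
 (.node (nat_lit 0x10025010b010d) (.leaf (nat_lit 0x10025010b0105) (nat_lit 1541))
 (.leaf (nat_lit 0x10025010b010d) (nat_lit 1285))
)))) (.node (nat_lit 0x10025012b4105) (.node (nat_lit 0x1002501290108) (.node (nat_lit 0x1002501280108) (.leaf (nat_lit 0x1002501280101) (nat_lit 1285))
 (.node (nat_lit 0x1002501290101) (.leaf (nat_lit 0x1002501280108) (nat_lit 1541))
 (.leaf (nat_lit 0x1002501290101) (nat_lit 1029))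
)) (.node (nat_lit 0x10025012a4105) (.leaf (nat_lit 0x1002501290108) (nat_lit 1285))
 (.node (nat_lit 0x10025012a410c) (.leaf (nat_lit 0x10025012a4105) (nat_lit 1541))
 (.leaf (nat_lit 0x10025012a410c) (nat_lit 1285))
))) (.node (nat_lit 0x100250188410d) (.node (nat_lit 0x10025012b410c) (.leaf (nat_lit 0x10025012b4105) (nat_lit 1797))
 (.node (nat_lit 0x1002501884101) (.leaf (nat_lit 0x10025012b410c) (nat_lit 1541))
 (.leaf (nat_lit 0x1002501884101) (nat_lit 2309))
)) (.node (nat_lit 0x1002501894101) (.leaf (nat_lit 0x100250188410d) (nat_lit 2053))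
 (.node (nat_lit 0x100250189410d) (.leaf (nat_lit 0x1002501894101) (nat_lit 2565))
 (.leaf (nat_lit 0x100250189410d) (nat_lit 2309))
)))))))) (.node (nat_lit 0x1002d05294101) (.node (nat_lit 0x1002905820128) (.node (nat_lit 0x1002900824129) (.node (nat_lit 0x1002501ab0108) (.node (nat_lit 0x1002501a8410c) (.node (nat_lit 0x10025018b4105) (.node (nat_lit 0x10025018a4109) (.leaf (nat_lit 0x10025018a4105) (nat_lit 1797))
 (.leaf (nat_lit 0x10025018a4109) (nat_lit 2053))
) (.node (nat_lit 0x10025018b4109) (.leaf (nat_lit 0x10025018b4105) (nat_lit 2053))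
 (.node (nat_lit 0x1002501a84101) (.leaf (nat_lit 0x10025018b4109) (nat_lit 2309))
 (.leaf (nat_lit 0x1002501a84101) (nat_lit 2053))
))) (.node (nat_lit 0x1002501aa0105) (.node (nat_lit 0x1002501a94101) (.leaf (nat_lit 0x1002501a8410c) (nat_lit 1797))
 (.node (nat_lit 0x1002501a9410c) (.leaf (nat_lit 0x1002501a94101) (nat_lit 2309))
 (.leaf (nat_lit 0x1002501a9410c) (nat_lit 2053))
)) (.node (nat_lit 0x1002501aa0108) (.leaf (nat_lit 0x1002501aa0105) (nat_lit 1541))
 (.node (nat_lit 0x1002501ab0105) (.leaf (nat_lit 0x1002501aa0108) (nat_lit 1797))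
 (.leaf (nat_lit 0x1002501ab0105) (nat_lit 1797))
)))) (.node (nat_lit 0x100290029012c) (.node (nat_lit 0x1002900280129) (.node (nat_lit 0x1002900280128) (.leaf (nat_lit 0x1002501ab0108) (nat_lit 2053))
 (.leaf (nat_lit 0x1002900280128) (nat_lit 1280))
) (.node (nat_lit 0x100290028412c) (.leaf (nat_lit 0x1002900280129) (nat_lit 1536))
 (.node (nat_lit 0x100290028412d) (.leaf (nat_lit 0x100290028412c) (nat_lit 1281))
 (.leaf (nat_lit 0x100290028412d) (nat_lit 1537))
))) (.node (nat_lit 0x1002900294129) (.node (nat_lit 0x100290029012d) (.leaf (nat_lit 0x100290029012c) (nat_lit 1536))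
 (.node (nat_lit 0x1002900294128) (.leaf (nat_lit 0x100290029012d) (nat_lit 1792))
 (.leaf (nat_lit 0x1002900294128) (nat_lit 1025))
)) (.node (nat_lit 0x1002900820128) (.leaf (nat_lit 0x1002900294129) (nat_lit 1281))
 (.node (nat_lit 0x100290082012c) (.leaf (nat_lit 0x1002900820128) (nat_lit 2561))
 (.leaf (nat_lit 0x100290082012c) (nat_lit 2305))
))))) (.node (nat_lit 0x1002905080129) (.node (nat_lit 0x100290083412c) (.node (nat_lit 0x1002900830129) (.node (nat_lit 0x100290082412d) (.leaf (nat_lit 0x1002900824129) (nat_lit 2305))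
 (.leaf (nat_lit 0x100290082412d) (nat_lit 2049))
) (.node (nat_lit 0x100290083012d) (.leaf (nat_lit 0x1002900830129) (nat_lit 2560))
 (.node (nat_lit 0x1002900834128) (.leaf (nat_lit 0x100290083012d) (nat_lit 2304))
 (.leaf (nat_lit 0x1002900834128) (nat_lit 2816))
))) (.node (nat_lit 0x1002905034104) (.node (nat_lit 0x1002905020104) (.leaf (nat_lit 0x100290083412c) (nat_lit 2560))
 (.node (nat_lit 0x100290502012c) (.leaf (nat_lit 0x1002905020104) (nat_lit 1793))
 (.leaf (nat_lit 0x100290502012c) (nat_lit 2049))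
)) (.node (nat_lit 0x100290503412c) (.leaf (nat_lit 0x1002905034104) (nat_lit 2048))
 (.node (nat_lit 0x1002905080101) (.leaf (nat_lit 0x100290503412c) (nat_lit 2304))
 (.leaf (nat_lit 0x1002905080101) (nat_lit 2048))
)))) (.node (nat_lit 0x100290523012d) (.node (nat_lit 0x1002905224104) (.node (nat_lit 0x1002905094101) (.leaf (nat_lit 0x1002905080129) (nat_lit 1792))
 (.node (nat_lit 0x1002905094129) (.leaf (nat_lit 0x1002905094101) (nat_lit 1793))
 (.leaf (nat_lit 0x1002905094129) (nat_lit 1537))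
)) (.node (nat_lit 0x100290522412d) (.leaf (nat_lit 0x1002905224104) (nat_lit 1537))
 (.node (nat_lit 0x1002905230104) (.leaf (nat_lit 0x100290522412d) (nat_lit 1793))
 (.leaf (nat_lit 0x1002905230104) (nat_lit 1792))
))) (.node (nat_lit 0x1002905294101) (.node (nat_lit 0x1002905280101) (.leaf (nat_lit 0x100290523012d) (nat_lit 2048))
 (.node (nat_lit 0x1002905280128) (.leaf (nat_lit 0x1002905280101) (nat_lit 1792))
 (.leaf (nat_lit 0x1002905280128) (nat_lit 1536))
)) (.node (nat_lit 0x1002905294128) (.leaf (nat_lit 0x1002905294101) (nat_lit 1537))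
 (.node (nat_lit 0x1002905820104) (.leaf (nat_lit 0x1002905294128) (nat_lit 1281))
 (.leaf (nat_lit 0x1002905820104) (nat_lit 2049))
)))))) (.node (nat_lit 0x1002d00294129) (.node (nat_lit 0x1002905a84101) (.node (nat_lit 0x1002905890101) (.node (nat_lit 0x1002905834128) (.node (nat_lit 0x1002905834104) (.leaf (nat_lit 0x1002905820128) (nat_lit 2305))
 (.leaf (nat_lit 0x1002905834104) (nat_lit 2304))
) (.node (nat_lit 0x1002905884101) (.leaf (nat_lit 0x1002905834128) (nat_lit 2560))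
 (.node (nat_lit 0x100290588412d) (.leaf (nat_lit 0x1002905884101) (nat_lit 2049))
 (.leaf (nat_lit 0x100290588412d) (nat_lit 1793))
))) (.node (nat_lit 0x1002905a24129) (.node (nat_lit 0x100290589012d) (.leaf (nat_lit 0x1002905890101) (nat_lit 2304))
 (.node (nat_lit 0x1002905a24104) (.leaf (nat_lit 0x100290589012d) (nat_lit 2048))
 (.leaf (nat_lit 0x1002905a24104) (nat_lit 1793))
)) (.node (nat_lit 0x1002905a30104) (.leaf (nat_lit 0x1002905a24129) (nat_lit 2049))
 (.node (nat_lit 0x1002905a30129) (.leaf (nat_lit 0x1002905a30104) (nat_lit 2048))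
 (.leaf (nat_lit 0x1002905a30129) (nat_lit 2304))
)))) (.node (nat_lit 0x1002d00280129) (.node (nat_lit 0x1002905a90101) (.node (nat_lit 0x1002905a8412c) (.leaf (nat_lit 0x1002905a84101) (nat_lit 1793))
 (.leaf (nat_lit 0x1002905a8412c) (nat_lit 1537))
) (.node (nat_lit 0x1002905a9012c) (.leaf (nat_lit 0x1002905a90101) (nat_lit 2048))
 (.node (nat_lit 0x1002d00280128) (.leaf (nat_lit 0x1002905a9012c) (nat_lit 1792))
 (.leaf (nat_lit 0x1002d00280128) (nat_lit 1541))
))) (.node (nat_lit 0x1002d0029012c) (.node (nat_lit 0x1002d0028412c) (.leaf (nat_lit 0x1002d00280129) (nat_lit 1797))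
 (.node (nat_lit 0x1002d0028412d) (.leaf (nat_lit 0x1002d0028412c) (nat_lit 1541))
 (.leaf (nat_lit 0x1002d0028412d) (nat_lit 1797))
)) (.node (nat_lit 0x1002d0029012d) (.leaf (nat_lit 0x1002d0029012c) (nat_lit 1797))
 (.node (nat_lit 0x1002d00294128) (.leaf (nat_lit 0x1002d0029012d) (nat_lit 2053))
 (.leaf (nat_lit 0x1002d00294128) (nat_lit 1285))
))))) (.node (nat_lit 0x1002d05034104) (.node (nat_lit 0x1002d00830129) (.node (nat_lit 0x1002d0082012c) (.node (nat_lit 0x1002d00820128) (.leaf (nat_lit 0x1002d00294129) (nat_lit 1541))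
 (.leaf (nat_lit 0x1002d00820128) (nat_lit 2821))
) (.node (nat_lit 0x1002d00824129) (.leaf (nat_lit 0x1002d0082012c) (nat_lit 2565))
 (.node (nat_lit 0x1002d0082412d) (.leaf (nat_lit 0x1002d00824129) (nat_lit 2565))
 (.leaf (nat_lit 0x1002d0082412d) (nat_lit 2309))
))) (.node (nat_lit 0x1002d0083412c) (.node (nat_lit 0x1002d0083012d) (.leaf (nat_lit 0x1002d00830129) (nat_lit 2821))
 (.node (nat_lit 0x1002d00834128) (.leaf (nat_lit 0x1002d0083012d) (nat_lit 2565))
 (.leaf (nat_lit 0x1002d00834128) (nat_lit 3077))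
)) (.node (nat_lit 0x1002d05020104) (.leaf (nat_lit 0x1002d0083412c) (nat_lit 2821))
 (.node (nat_lit 0x1002d0502012c) (.leaf (nat_lit 0x1002d05020104) (nat_lit 2053))
 (.leaf (nat_lit 0x1002d0502012c) (nat_lit 2309))
)))) (.node (nat_lit 0x1002d05224104) (.node (nat_lit 0x1002d05080129) (.node (nat_lit 0x1002d0503412c) (.leaf (nat_lit 0x1002d05034104) (nat_lit 2309))
 (.node (nat_lit 0x1002d05080101) (.leaf (nat_lit 0x1002d0503412c) (nat_lit 2565))
 (.leaf (nat_lit 0x1002d05080101) (nat_lit 2309))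
)) (.node (nat_lit 0x1002d05094101) (.leaf (nat_lit 0x1002d05080129) (nat_lit 2053))
 (.node (nat_lit 0x1002d05094129) (.leaf (nat_lit 0x1002d05094101) (nat_lit 2053))
 (.leaf (nat_lit 0x1002d05094129) (nat_lit 1797))
))) (.node (nat_lit 0x1002d0523012d) (.node (nat_lit 0x1002d0522412d) (.leaf (nat_lit 0x1002d05224104) (nat_lit 1797))
 (.node (nat_lit 0x1002d05230104) (.leaf (nat_lit 0x1002d0522412d) (nat_lit 2053))
 (.leaf (nat_lit 0x1002d05230104) (nat_lit 2053))
)) (.node (nat_lit 0x1002d05280101) (.leaf (nat_lit 0x1002d0523012d) (nat_lit 2309))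
 (.node (nat_lit 0x1002d05280128) (.leaf (nat_lit 0x1002d05280101) (nat_lit 2053))
 (.leaf (nat_lit 0x1002d05280128) (nat_lit 1797))
))))))) (.node (nat_lit 0x1004104824120) (.node (nat_lit 0x1004100824120) (.node (nat_lit 0x1002d05a24129) (.node (nat_lit 0x1002d05834128) (.node (nat_lit 0x1002d05820104) (.node (nat_lit 0x1002d05294128) (.leaf (nat_lit 0x1002d05294101) (nat_lit 1797))
 (.leaf (nat_lit 0x1002d05294128) (nat_lit 1541))
) (.node (nat_lit 0x1002d05820128) (.leaf (nat_lit 0x1002d05820104) (nat_lit 2309))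
 (.node (nat_lit 0x1002d05834104) (.leaf (nat_lit 0x1002d05820128) (nat_lit 2565))
 (.leaf (nat_lit 0x1002d05834104) (nat_lit 2565))
))) (.node (nat_lit 0x1002d05890101) (.node (nat_lit 0x1002d05884101) (.leaf (nat_lit 0x1002d05834128) (nat_lit 2821))
 (.node (nat_lit 0x1002d0588412d) (.leaf (nat_lit 0x1002d05884101) (nat_lit 2309))
 (.leaf (nat_lit 0x1002d0588412d) (nat_lit 2053))
)) (.node (nat_lit 0x1002d0589012d) (.leaf (nat_lit 0x1002d05890101) (nat_lit 2565))
 (.node (nat_lit 0x1002d05a24104) (.leaf (nat_lit 0x1002d0589012d) (nat_lit 2309))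
 (.leaf (nat_lit 0x1002d05a24104) (nat_lit 2053))
)))) (.node (nat_lit 0x1002d05a90101) (.node (nat_lit 0x1002d05a30129) (.node (nat_lit 0x1002d05a30104) (.leaf (nat_lit 0x1002d05a24129) (nat_lit 2309))
 (.leaf (nat_lit 0x1002d05a30104) (nat_lit 2309))
) (.node (nat_lit 0x1002d05a84101) (.leaf (nat_lit 0x1002d05a30129) (nat_lit 2565))
 (.node (nat_lit 0x1002d05a8412c) (.leaf (nat_lit 0x1002d05a84101) (nat_lit 2053))
 (.leaf (nat_lit 0x1002d05a8412c) (nat_lit 1797))
))) (.node (nat_lit 0x1004100804124) (.node (nat_lit 0x1002d05a9012c) (.leaf (nat_lit 0x1002d05a90101) (nat_lit 2309))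
 (.node (nat_lit 0x1004100804120) (.leaf (nat_lit 0x1002d05a9012c) (nat_lit 2053))
 (.leaf (nat_lit 0x1004100804120) (nat_lit 3072))
)) (.node (nat_lit 0x1004100814128) (.leaf (nat_lit 0x1004100804124) (nat_lit 3328))
 (.node (nat_lit 0x100410081412c) (.leaf (nat_lit 0x1004100814128) (nat_lit 2817))
 (.leaf (nat_lit 0x100410081412c) (nat_lit 2561))
))))) (.node (nat_lit 0x10041018b4128) (.node (nat_lit 0x100410188412c) (.node (nat_lit 0x1004100834128) (.node (nat_lit 0x1004100824124) (.leaf (nat_lit 0x1004100824120) (nat_lit 2817))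
 (.leaf (nat_lit 0x1004100824124) (nat_lit 3073))
) (.node (nat_lit 0x100410083412c) (.leaf (nat_lit 0x1004100834128) (nat_lit 3072))
 (.node (nat_lit 0x1004101884120) (.leaf (nat_lit 0x100410083412c) (nat_lit 2816))
 (.leaf (nat_lit 0x1004101884120) (nat_lit 2817))
))) (.node (nat_lit 0x10041018a4120) (.node (nat_lit 0x1004101894124) (.leaf (nat_lit 0x100410188412c) (nat_lit 3073))
 (.node (nat_lit 0x1004101894128) (.leaf (nat_lit 0x1004101894124) (nat_lit 2561))
 (.leaf (nat_lit 0x1004101894128) (nat_lit 2817))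
)) (.node (nat_lit 0x10041018a412c) (.leaf (nat_lit 0x10041018a4120) (nat_lit 3072))
 (.node (nat_lit 0x10041018b4124) (.leaf (nat_lit 0x10041018a412c) (nat_lit 3328))
 (.leaf (nat_lit 0x10041018b4124) (nat_lit 2816))
)))) (.node (nat_lit 0x100410408412c) (.node (nat_lit 0x1004104024104) (.node (nat_lit 0x1004104004104) (.leaf (nat_lit 0x10041018b4128) (nat_lit 3072))
 (.node (nat_lit 0x1004104004124) (.leaf (nat_lit 0x1004104004104) (nat_lit 3840))
 (.leaf (nat_lit 0x1004104004124) (nat_lit 3584))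
)) (.node (nat_lit 0x1004104024124) (.leaf (nat_lit 0x1004104024104) (nat_lit 3585))
 (.node (nat_lit 0x100410408410c) (.leaf (nat_lit 0x1004104024124) (nat_lit 3329))
 (.leaf (nat_lit 0x100410408410c) (nat_lit 3073))
))) (.node (nat_lit 0x1004104804104) (.node (nat_lit 0x10041040a410c) (.leaf (nat_lit 0x100410408412c) (nat_lit 3329))
 (.node (nat_lit 0x10041040a412c) (.leaf (nat_lit 0x10041040a410c) (nat_lit 3328))
 (.leaf (nat_lit 0x10041040a412c) (nat_lit 3584))
)) (.node (nat_lit 0x1004104804120) (.leaf (nat_lit 0x1004104804104) (nat_lit 3584))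
 (.node (nat_lit 0x1004104824104) (.leaf (nat_lit 0x1004104804120) (nat_lit 3328))
 (.leaf (nat_lit 0x1004104824104) (nat_lit 3329))
)))))) (.node (nat_lit 0x1004500804124) (.node (nat_lit 0x10041050b410c) (.node (nat_lit 0x1004105014104) (.node (nat_lit 0x1004104894128) (.node (nat_lit 0x100410489410c) (.leaf (nat_lit 0x1004104824120) (nat_lit 3073))
 (.leaf (nat_lit 0x100410489410c) (nat_lit 2817))
) (.node (nat_lit 0x10041048b410c) (.leaf (nat_lit 0x1004104894128) (nat_lit 3073))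
 (.node (nat_lit 0x10041048b4128) (.leaf (nat_lit 0x10041048b410c) (nat_lit 3072))
 (.leaf (nat_lit 0x10041048b4128) (nat_lit 3328))
))) (.node (nat_lit 0x100410503412c) (.node (nat_lit 0x100410501412c) (.leaf (nat_lit 0x1004105014104) (nat_lit 2049))
 (.node (nat_lit 0x1004105034104) (.leaf (nat_lit 0x100410501412c) (nat_lit 2305))
 (.leaf (nat_lit 0x1004105034104) (nat_lit 2304))
)) (.node (nat_lit 0x100410509410c) (.leaf (nat_lit 0x100410503412c) (nat_lit 2560))
 (.node (nat_lit 0x1004105094124) (.leaf (nat_lit 0x100410509410c) (nat_lit 2561))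
 (.leaf (nat_lit 0x1004105094124) (nat_lit 2305))
)))) (.node (nat_lit 0x1004105834128) (.node (nat_lit 0x1004105814104) (.node (nat_lit 0x10041050b4124) (.leaf (nat_lit 0x10041050b410c) (nat_lit 2816))
 (.leaf (nat_lit 0x10041050b4124) (nat_lit 2560))
) (.node (nat_lit 0x1004105814128) (.leaf (nat_lit 0x1004105814104) (nat_lit 2305))
 (.node (nat_lit 0x1004105834104) (.leaf (nat_lit 0x1004105814128) (nat_lit 2561))
 (.leaf (nat_lit 0x1004105834104) (nat_lit 2560))
))) (.node (nat_lit 0x10041058a410c) (.node (nat_lit 0x100410588410c) (.leaf (nat_lit 0x1004105834128) (nat_lit 2816))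
 (.node (nat_lit 0x1004105884120) (.leaf (nat_lit 0x100410588410c) (nat_lit 2817))
 (.leaf (nat_lit 0x1004105884120) (nat_lit 2561))
)) (.node (nat_lit 0x10041058a4120) (.leaf (nat_lit 0x10041058a410c) (nat_lit 3072))
 (.node (nat_lit 0x1004500804120) (.leaf (nat_lit 0x10041058a4120) (nat_lit 2816))
 (.leaf (nat_lit 0x1004500804120) (nat_lit 3333))
))))) (.node (nat_lit 0x10045018a4120) (.node (nat_lit 0x1004500834128) (.node (nat_lit 0x100450081412c) (.node (nat_lit 0x1004500814128) (.leaf (nat_lit 0x1004500804124) (nat_lit 3589))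
 (.leaf (nat_lit 0x1004500814128) (nat_lit 3077))
) (.node (nat_lit 0x1004500824120) (.leaf (nat_lit 0x100450081412c) (nat_lit 2821))
 (.node (nat_lit 0x1004500824124) (.leaf (nat_lit 0x1004500824120) (nat_lit 3077))
 (.leaf (nat_lit 0x1004500824124) (nat_lit 3333))
))) (.node (nat_lit 0x100450188412c) (.node (nat_lit 0x100450083412c) (.leaf (nat_lit 0x1004500834128) (nat_lit 3333))
 (.node (nat_lit 0x1004501884120) (.leaf (nat_lit 0x100450083412c) (nat_lit 3077))
 (.leaf (nat_lit 0x1004501884120) (nat_lit 3077))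
)) (.node (nat_lit 0x1004501894124) (.leaf (nat_lit 0x100450188412c) (nat_lit 3333))
 (.node (nat_lit 0x1004501894128) (.leaf (nat_lit 0x1004501894124) (nat_lit 2821))
 (.leaf (nat_lit 0x1004501894128) (nat_lit 3077))
)))) (.node (nat_lit 0x1004504024104) (.node (nat_lit 0x10045018b4128) (.node (nat_lit 0x10045018a412c) (.leaf (nat_lit 0x10045018a4120) (nat_lit 3333))
 (.node (nat_lit 0x10045018b4124) (.leaf (nat_lit 0x10045018a412c) (nat_lit 3589))
 (.leaf (nat_lit 0x10045018b4124) (nat_lit 3077))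
)) (.node (nat_lit 0x1004504004104) (.leaf (nat_lit 0x10045018b4128) (nat_lit 3333))
 (.node (nat_lit 0x1004504004124) (.leaf (nat_lit 0x1004504004104) (nat_lit 4101))
 (.leaf (nat_lit 0x1004504004124) (nat_lit 3845))
))) (.node (nat_lit 0x100450408412c) (.node (nat_lit 0x1004504024124) (.leaf (nat_lit 0x1004504024104) (nat_lit 3845))
 (.node (nat_lit 0x100450408410c) (.leaf (nat_lit 0x1004504024124) (nat_lit 3589))
 (.leaf (nat_lit 0x100450408410c) (nat_lit 3333))
)) (.node (nat_lit 0x10045040a410c) (.leaf (nat_lit 0x100450408412c) (nat_lit 3589))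
 (.node (nat_lit 0x10045040a412c) (.leaf (nat_lit 0x10045040a410c) (nat_lit 3589))
 (.leaf (nat_lit 0x10045040a412c) (nat_lit 3845))
))))))))) (.node (nat_lit 0x10065010a0125) (.node (nat_lit 0x1004d04020104) (.node (nat_lit 0x100490408412d) (.node (nat_lit 0x10045058a410c) (.node (nat_lit 0x100450503412c) (.node (nat_lit 0x1004504894128) (.node (nat_lit 0x1004504824104) (.node (nat_lit 0x1004504804120) (.leaf (nat_lit 0x1004504804104) (nat_lit 3845))
 (.leaf (nat_lit 0x1004504804120) (nat_lit 3589))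
) (.node (nat_lit 0x1004504824120) (.leaf (nat_lit 0x1004504824104) (nat_lit 3589))
 (.node (nat_lit 0x100450489410c) (.leaf (nat_lit 0x1004504824120) (nat_lit 3333))
 (.leaf (nat_lit 0x100450489410c) (nat_lit 3077))
))) (.node (nat_lit 0x1004505014104) (.node (nat_lit 0x10045048b410c) (.leaf (nat_lit 0x1004504894128) (nat_lit 3333))
 (.node (nat_lit 0x10045048b4128) (.leaf (nat_lit 0x10045048b410c) (nat_lit 3333))
 (.leaf (nat_lit 0x10045048b4128) (nat_lit 3589))
)) (.node (nat_lit 0x100450501412c) (.leaf (nat_lit 0x1004505014104) (nat_lit 2309))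
 (.node (nat_lit 0x1004505034104) (.leaf (nat_lit 0x100450501412c) (nat_lit 2565))
 (.leaf (nat_lit 0x1004505034104) (nat_lit 2565))
)))) (.node (nat_lit 0x1004505814104) (.node (nat_lit 0x1004505094124) (.node (nat_lit 0x100450509410c) (.leaf (nat_lit 0x100450503412c) (nat_lit 2821))
 (.leaf (nat_lit 0x100450509410c) (nat_lit 2821))
) (.node (nat_lit 0x10045050b410c) (.leaf (nat_lit 0x1004505094124) (nat_lit 2565))
 (.node (nat_lit 0x10045050b4124) (.leaf (nat_lit 0x10045050b410c) (nat_lit 3077))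
 (.leaf (nat_lit 0x10045050b4124) (nat_lit 2821))
))) (.node (nat_lit 0x1004505834128) (.node (nat_lit 0x1004505814128) (.leaf (nat_lit 0x1004505814104) (nat_lit 2565))
 (.node (nat_lit 0x1004505834104) (.leaf (nat_lit 0x1004505814128) (nat_lit 2821))
 (.leaf (nat_lit 0x1004505834104) (nat_lit 2821))
)) (.node (nat_lit 0x100450588410c) (.leaf (nat_lit 0x1004505834128) (nat_lit 3077))
 (.node (nat_lit 0x1004505884120) (.leaf (nat_lit 0x100450588410c) (nat_lit 3077))
 (.leaf (nat_lit 0x1004505884120) (nat_lit 2821))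
))))) (.node (nat_lit 0x1004901a8412d) (.node (nat_lit 0x100490081412d) (.node (nat_lit 0x1004900804120) (.node (nat_lit 0x10045058a4120) (.leaf (nat_lit 0x10045058a410c) (nat_lit 3333))
 (.leaf (nat_lit 0x10045058a4120) (nat_lit 3077))
) (.node (nat_lit 0x1004900804124) (.leaf (nat_lit 0x1004900804120) (nat_lit 2816))
 (.node (nat_lit 0x1004900814129) (.leaf (nat_lit 0x1004900804124) (nat_lit 3072))
 (.leaf (nat_lit 0x1004900814129) (nat_lit 2561))
))) (.node (nat_lit 0x1004900830129) (.node (nat_lit 0x1004900820120) (.leaf (nat_lit 0x100490081412d) (nat_lit 2305))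
 (.node (nat_lit 0x1004900820124) (.leaf (nat_lit 0x1004900820120) (nat_lit 2561))
 (.leaf (nat_lit 0x1004900820124) (nat_lit 2817))
)) (.node (nat_lit 0x100490083012d) (.leaf (nat_lit 0x1004900830129) (nat_lit 2816))
 (.node (nat_lit 0x1004901a84120) (.leaf (nat_lit 0x100490083012d) (nat_lit 2560))
 (.leaf (nat_lit 0x1004901a84120) (nat_lit 2561))
)))) (.node (nat_lit 0x1004901ab0129) (.node (nat_lit 0x1004901aa0120) (.node (nat_lit 0x1004901a94124) (.leaf (nat_lit 0x1004901a8412d) (nat_lit 2817))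
 (.node (nat_lit 0x1004901a94129) (.leaf (nat_lit 0x1004901a94124) (nat_lit 2305))
 (.leaf (nat_lit 0x1004901a94129) (nat_lit 2561))
)) (.node (nat_lit 0x1004901aa012d) (.leaf (nat_lit 0x1004901aa0120) (nat_lit 2816))
 (.node (nat_lit 0x1004901ab0124) (.leaf (nat_lit 0x1004901aa012d) (nat_lit 3072))
 (.leaf (nat_lit 0x1004901ab0124) (nat_lit 2560))
))) (.node (nat_lit 0x1004904020104) (.node (nat_lit 0x1004904004104) (.leaf (nat_lit 0x1004901ab0129) (nat_lit 2816))
 (.node (nat_lit 0x1004904004124) (.leaf (nat_lit 0x1004904004104) (nat_lit 3584))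
 (.leaf (nat_lit 0x1004904004124) (nat_lit 3328))
)) (.node (nat_lit 0x1004904020124) (.leaf (nat_lit 0x1004904020104) (nat_lit 3329))
 (.node (nat_lit 0x100490408410d) (.leaf (nat_lit 0x1004904020124) (nat_lit 3073))
 (.leaf (nat_lit 0x100490408410d) (nat_lit 2817))
)))))) (.node (nat_lit 0x1004905a30129) (.node (nat_lit 0x1004905214104) (.node (nat_lit 0x1004904820104) (.node (nat_lit 0x10049040a012d) (.node (nat_lit 0x10049040a010d) (.leaf (nat_lit 0x100490408412d) (nat_lit 3073))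
 (.leaf (nat_lit 0x10049040a010d) (nat_lit 3072))
) (.node (nat_lit 0x1004904804104) (.leaf (nat_lit 0x10049040a012d) (nat_lit 3328))
 (.node (nat_lit 0x1004904804120) (.leaf (nat_lit 0x1004904804104) (nat_lit 3328))
 (.leaf (nat_lit 0x1004904804120) (nat_lit 3072))
))) (.node (nat_lit 0x1004904894129) (.node (nat_lit 0x1004904820120) (.leaf (nat_lit 0x1004904820104) (nat_lit 3073))
 (.node (nat_lit 0x100490489410d) (.leaf (nat_lit 0x1004904820120) (nat_lit 2817))
 (.leaf (nat_lit 0x100490489410d) (nat_lit 2561))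
)) (.node (nat_lit 0x10049048b010d) (.leaf (nat_lit 0x1004904894129) (nat_lit 2817))
 (.node (nat_lit 0x10049048b0129) (.leaf (nat_lit 0x10049048b010d) (nat_lit 2816))
 (.leaf (nat_lit 0x10049048b0129) (nat_lit 3072))
)))) (.node (nat_lit 0x1004905294124) (.node (nat_lit 0x1004905230104) (.node (nat_lit 0x100490521412d) (.leaf (nat_lit 0x1004905214104) (nat_lit 1793))
 (.leaf (nat_lit 0x100490521412d) (nat_lit 2049))
) (.node (nat_lit 0x100490523012d) (.leaf (nat_lit 0x1004905230104) (nat_lit 2048))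
 (.node (nat_lit 0x100490529410d) (.leaf (nat_lit 0x100490523012d) (nat_lit 2304))
 (.leaf (nat_lit 0x100490529410d) (nat_lit 2305))
))) (.node (nat_lit 0x1004905a14104) (.node (nat_lit 0x10049052b010d) (.leaf (nat_lit 0x1004905294124) (nat_lit 2049))
 (.node (nat_lit 0x10049052b0124) (.leaf (nat_lit 0x10049052b010d) (nat_lit 2560))
 (.leaf (nat_lit 0x10049052b0124) (nat_lit 2304))
)) (.node (nat_lit 0x1004905a14129) (.leaf (nat_lit 0x1004905a14104) (nat_lit 2049))
 (.node (nat_lit 0x1004905a30104) (.leaf (nat_lit 0x1004905a14129) (nat_lit 2305))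
 (.leaf (nat_lit 0x1004905a30104) (nat_lit 2304))
))))) (.node (nat_lit 0x1004d00830129) (.node (nat_lit 0x1004d00804120) (.node (nat_lit 0x1004905a84120) (.node (nat_lit 0x1004905a8410d) (.leaf (nat_lit 0x1004905a30129) (nat_lit 2560))
 (.leaf (nat_lit 0x1004905a8410d) (nat_lit 2561))
) (.node (nat_lit 0x1004905aa010d) (.leaf (nat_lit 0x1004905a84120) (nat_lit 2305))
 (.node (nat_lit 0x1004905aa0120) (.leaf (nat_lit 0x1004905aa010d) (nat_lit 2816))
 (.leaf (nat_lit 0x1004905aa0120) (nat_lit 2560))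
))) (.node (nat_lit 0x1004d0081412d) (.node (nat_lit 0x1004d00804124) (.leaf (nat_lit 0x1004d00804120) (nat_lit 3077))
 (.node (nat_lit 0x1004d00814129) (.leaf (nat_lit 0x1004d00804124) (nat_lit 3333))
 (.leaf (nat_lit 0x1004d00814129) (nat_lit 2821))
)) (.node (nat_lit 0x1004d00820120) (.leaf (nat_lit 0x1004d0081412d) (nat_lit 2565))
 (.node (nat_lit 0x1004d00820124) (.leaf (nat_lit 0x1004d00820120) (nat_lit 2821))
 (.leaf (nat_lit 0x1004d00820124) (nat_lit 3077))
)))) (.node (nat_lit 0x1004d01aa0120) (.node (nat_lit 0x1004d01a8412d) (.node (nat_lit 0x1004d0083012d) (.leaf (nat_lit 0x1004d00830129) (nat_lit 3077))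
 (.node (nat_lit 0x1004d01a84120) (.leaf (nat_lit 0x1004d0083012d) (nat_lit 2821))
 (.leaf (nat_lit 0x1004d01a84120) (nat_lit 2821))
)) (.node (nat_lit 0x1004d01a94124) (.leaf (nat_lit 0x1004d01a8412d) (nat_lit 3077))
 (.node (nat_lit 0x1004d01a94129) (.leaf (nat_lit 0x1004d01a94124) (nat_lit 2565))
 (.leaf (nat_lit 0x1004d01a94129) (nat_lit 2821))
))) (.node (nat_lit 0x1004d01ab0129) (.node (nat_lit 0x1004d01aa012d) (.leaf (nat_lit 0x1004d01aa0120) (nat_lit 3077))
 (.node (nat_lit 0x1004d01ab0124) (.leaf (nat_lit 0x1004d01aa012d) (nat_lit 3333))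
 (.leaf (nat_lit 0x1004d01ab0124) (nat_lit 2821))
)) (.node (nat_lit 0x1004d04004104) (.leaf (nat_lit 0x1004d01ab0129) (nat_lit 3077))
 (.node (nat_lit 0x1004d04004124) (.leaf (nat_lit 0x1004d04004104) (nat_lit 3845))
 (.leaf (nat_lit 0x1004d04004124) (nat_lit 3589))
))))))) (.node (nat_lit 0x10061010b0129) (.node (nat_lit 0x1004d05a14104) (.node (nat_lit 0x1004d04894129) (.node (nat_lit 0x1004d040a012d) (.node (nat_lit 0x1004d0408410d) (.node (nat_lit 0x1004d04020124) (.leaf (nat_lit 0x1004d04020104) (nat_lit 3589))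
 (.leaf (nat_lit 0x1004d04020124) (nat_lit 3333))
) (.node (nat_lit 0x1004d0408412d) (.leaf (nat_lit 0x1004d0408410d) (nat_lit 3077))
 (.node (nat_lit 0x1004d040a010d) (.leaf (nat_lit 0x1004d0408412d) (nat_lit 3333))
 (.leaf (nat_lit 0x1004d040a010d) (nat_lit 3333))
))) (.node (nat_lit 0x1004d04820104) (.node (nat_lit 0x1004d04804104) (.leaf (nat_lit 0x1004d040a012d) (nat_lit 3589))
 (.node (nat_lit 0x1004d04804120) (.leaf (nat_lit 0x1004d04804104) (nat_lit 3589))
 (.leaf (nat_lit 0x1004d04804120) (nat_lit 3333))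
)) (.node (nat_lit 0x1004d04820120) (.leaf (nat_lit 0x1004d04820104) (nat_lit 3333))
 (.node (nat_lit 0x1004d0489410d) (.leaf (nat_lit 0x1004d04820120) (nat_lit 3077))
 (.leaf (nat_lit 0x1004d0489410d) (nat_lit 2821))
)))) (.node (nat_lit 0x1004d05230104) (.node (nat_lit 0x1004d048b0129) (.node (nat_lit 0x1004d048b010d) (.leaf (nat_lit 0x1004d04894129) (nat_lit 3077))
 (.leaf (nat_lit 0x1004d048b010d) (nat_lit 3077))
) (.node (nat_lit 0x1004d05214104) (.leaf (nat_lit 0x1004d048b0129) (nat_lit 3333))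
 (.node (nat_lit 0x1004d0521412d) (.leaf (nat_lit 0x1004d05214104) (nat_lit 2053))
 (.leaf (nat_lit 0x1004d0521412d) (nat_lit 2309))
))) (.node (nat_lit 0x1004d05294124) (.node (nat_lit 0x1004d0523012d) (.leaf (nat_lit 0x1004d05230104) (nat_lit 2309))
 (.node (nat_lit 0x1004d0529410d) (.leaf (nat_lit 0x1004d0523012d) (nat_lit 2565))
 (.leaf (nat_lit 0x1004d0529410d) (nat_lit 2565))
)) (.node (nat_lit 0x1004d052b010d) (.leaf (nat_lit 0x1004d05294124) (nat_lit 2309))
 (.node (nat_lit 0x1004d052b0124) (.leaf (nat_lit 0x1004d052b010d) (nat_lit 2821))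
 (.leaf (nat_lit 0x1004d052b0124) (nat_lit 2565))
))))) (.node (nat_lit 0x100610081412d) (.node (nat_lit 0x1004d05a84120) (.node (nat_lit 0x1004d05a30104) (.node (nat_lit 0x1004d05a14129) (.leaf (nat_lit 0x1004d05a14104) (nat_lit 2309))
 (.leaf (nat_lit 0x1004d05a14129) (nat_lit 2565))
) (.node (nat_lit 0x1004d05a30129) (.leaf (nat_lit 0x1004d05a30104) (nat_lit 2565))
 (.node (nat_lit 0x1004d05a8410d) (.leaf (nat_lit 0x1004d05a30129) (nat_lit 2821))
 (.leaf (nat_lit 0x1004d05a8410d) (nat_lit 2821))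
))) (.node (nat_lit 0x1006100804121) (.node (nat_lit 0x1004d05aa010d) (.leaf (nat_lit 0x1004d05a84120) (nat_lit 2565))
 (.node (nat_lit 0x1004d05aa0120) (.leaf (nat_lit 0x1004d05aa010d) (nat_lit 3077))
 (.leaf (nat_lit 0x1004d05aa0120) (nat_lit 2821))
)) (.node (nat_lit 0x1006100804125) (.leaf (nat_lit 0x1006100804121) (nat_lit 1795))
 (.node (nat_lit 0x1006100814129) (.leaf (nat_lit 0x1006100804125) (nat_lit 1539))
 (.leaf (nat_lit 0x1006100814129) (nat_lit 2306))
)))) (.node (nat_lit 0x1006101080129) (.node (nat_lit 0x1006100834121) (.node (nat_lit 0x1006100824129) (.leaf (nat_lit 0x100610081412d) (nat_lit 2050))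
 (.node (nat_lit 0x100610082412d) (.leaf (nat_lit 0x1006100824129) (nat_lit 2050))
 (.leaf (nat_lit 0x100610082412d) (nat_lit 1794))
)) (.node (nat_lit 0x1006100834125) (.leaf (nat_lit 0x1006100834121) (nat_lit 2051))
 (.node (nat_lit 0x1006101080121) (.leaf (nat_lit 0x1006100834125) (nat_lit 1795))
 (.leaf (nat_lit 0x1006101080121) (nat_lit 1028))
))) (.node (nat_lit 0x10061010a0125) (.node (nat_lit 0x1006101090125) (.leaf (nat_lit 0x1006101080129) (nat_lit 768))
 (.node (nat_lit 0x100610109012d) (.leaf (nat_lit 0x1006101090125) (nat_lit 1284))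
 (.leaf (nat_lit 0x100610109012d) (nat_lit 1024))
)) (.node (nat_lit 0x10061010a012d) (.leaf (nat_lit 0x10061010a0125) (nat_lit 1028))
 (.node (nat_lit 0x10061010b0121) (.leaf (nat_lit 0x10061010a012d) (nat_lit 769))
 (.leaf (nat_lit 0x10061010b0121) (nat_lit 772))
)))))) (.node (nat_lit 0x1006105280121) (.node (nat_lit 0x1006104a34104) (.node (nat_lit 0x1006104280108) (.node (nat_lit 0x1006104204125) (.node (nat_lit 0x1006104204104) (.leaf (nat_lit 0x10061010b0129) (nat_lit 513))
 (.leaf (nat_lit 0x1006104204104) (nat_lit 1026))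
) (.node (nat_lit 0x1006104234104) (.leaf (nat_lit 0x1006104204125) (nat_lit 1284))
 (.node (nat_lit 0x1006104234125) (.leaf (nat_lit 0x1006104234104) (nat_lit 1282))
 (.leaf (nat_lit 0x1006104234125) (nat_lit 1540))
))) (.node (nat_lit 0x10061042b0129) (.node (nat_lit 0x1006104280129) (.leaf (nat_lit 0x1006104280108) (nat_lit 1284))
 (.node (nat_lit 0x10061042b0108) (.leaf (nat_lit 0x1006104280129) (nat_lit 1027))
 (.leaf (nat_lit 0x10061042b0108) (nat_lit 1028))
)) (.node (nat_lit 0x1006104a04104) (.leaf (nat_lit 0x10061042b0129) (nat_lit 771))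
 (.node (nat_lit 0x1006104a04121) (.leaf (nat_lit 0x1006104a04104) (nat_lit 1282))
 (.leaf (nat_lit 0x1006104a04121) (nat_lit 1540))
)))) (.node (nat_lit 0x1006104aa012d) (.node (nat_lit 0x1006104a90108) (.node (nat_lit 0x1006104a34121) (.leaf (nat_lit 0x1006104a34104) (nat_lit 1538))
 (.leaf (nat_lit 0x1006104a34121) (nat_lit 1796))
) (.node (nat_lit 0x1006104a9012d) (.leaf (nat_lit 0x1006104a90108) (nat_lit 1540))
 (.node (nat_lit 0x1006104aa0108) (.leaf (nat_lit 0x1006104a9012d) (nat_lit 1283))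
 (.leaf (nat_lit 0x1006104aa0108) (nat_lit 1284))
))) (.node (nat_lit 0x1006105224104) (.node (nat_lit 0x1006105214104) (.leaf (nat_lit 0x1006104aa012d) (nat_lit 1027))
 (.node (nat_lit 0x100610521412d) (.leaf (nat_lit 0x1006105214104) (nat_lit 1538))
 (.leaf (nat_lit 0x100610521412d) (nat_lit 1794))
)) (.node (nat_lit 0x100610522412d) (.leaf (nat_lit 0x1006105224104) (nat_lit 1282))
 (.node (nat_lit 0x1006105280108) (.leaf (nat_lit 0x100610522412d) (nat_lit 1538))
 (.leaf (nat_lit 0x1006105280108) (nat_lit 1539))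
))))) (.node (nat_lit 0x1006500804121) (.node (nat_lit 0x1006105a24104) (.node (nat_lit 0x10061052b0121) (.node (nat_lit 0x10061052b0108) (.leaf (nat_lit 0x1006105280121) (nat_lit 1283))
 (.leaf (nat_lit 0x10061052b0108) (nat_lit 1283))
) (.node (nat_lit 0x1006105a14104) (.leaf (nat_lit 0x10061052b0121) (nat_lit 1027))
 (.node (nat_lit 0x1006105a14129) (.leaf (nat_lit 0x1006105a14104) (nat_lit 1794))
 (.leaf (nat_lit 0x1006105a14129) (nat_lit 2050))
))) (.node (nat_lit 0x1006105a90125) (.node (nat_lit 0x1006105a24129) (.leaf (nat_lit 0x1006105a24104) (nat_lit 1538))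
 (.node (nat_lit 0x1006105a90108) (.leaf (nat_lit 0x1006105a24129) (nat_lit 1794))
 (.leaf (nat_lit 0x1006105a90108) (nat_lit 1795))
)) (.node (nat_lit 0x1006105aa0108) (.leaf (nat_lit 0x1006105a90125) (nat_lit 1539))
 (.node (nat_lit 0x1006105aa0125) (.leaf (nat_lit 0x1006105aa0108) (nat_lit 1539))
 (.leaf (nat_lit 0x1006105aa0125) (nat_lit 1283))
)))) (.node (nat_lit 0x1006500834121) (.node (nat_lit 0x100650081412d) (.node (nat_lit 0x1006500804125) (.leaf (nat_lit 0x1006500804121) (nat_lit 2053))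
 (.node (nat_lit 0x1006500814129) (.leaf (nat_lit 0x1006500804125) (nat_lit 1797))
 (.leaf (nat_lit 0x1006500814129) (nat_lit 2565))
)) (.node (nat_lit 0x1006500824129) (.leaf (nat_lit 0x100650081412d) (nat_lit 2309))
 (.node (nat_lit 0x100650082412d) (.leaf (nat_lit 0x1006500824129) (nat_lit 2309))
 (.leaf (nat_lit 0x100650082412d) (nat_lit 2053))
))) (.node (nat_lit 0x1006501080129) (.node (nat_lit 0x1006500834125) (.leaf (nat_lit 0x1006500834121) (nat_lit 2309))
 (.node (nat_lit 0x1006501080121) (.leaf (nat_lit 0x1006500834125) (nat_lit 2053))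
 (.leaf (nat_lit 0x1006501080121) (nat_lit 1285))
)) (.node (nat_lit 0x1006501090125) (.leaf (nat_lit 0x1006501080129) (nat_lit 1029))
 (.node (nat_lit 0x100650109012d) (.leaf (nat_lit 0x1006501090125) (nat_lit 1541))
 (.leaf (nat_lit 0x100650109012d) (nat_lit 1285))
)))))))) (.node (nat_lit 0x1006d00830121) (.node (nat_lit 0x1006901280128) (.node (nat_lit 0x1006505224104) (.node (nat_lit 0x10065042b0129) (.node (nat_lit 0x1006504204125) (.node (nat_lit 0x10065010b0121) (.node (nat_lit 0x10065010a012d) (.leaf (nat_lit 0x10065010a0125) (nat_lit 1285))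
 (.leaf (nat_lit 0x10065010a012d) (nat_lit 1029))
) (.node (nat_lit 0x10065010b0129) (.leaf (nat_lit 0x10065010b0121) (nat_lit 1029))
 (.node (nat_lit 0x1006504204104) (.leaf (nat_lit 0x10065010b0129) (nat_lit 773))
 (.leaf (nat_lit 0x1006504204104) (nat_lit 1285))
))) (.node (nat_lit 0x1006504280108) (.node (nat_lit 0x1006504234104) (.leaf (nat_lit 0x1006504204125) (nat_lit 1541))
 (.node (nat_lit 0x1006504234125) (.leaf (nat_lit 0x1006504234104) (nat_lit 1541))
 (.leaf (nat_lit 0x1006504234125) (nat_lit 1797))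
)) (.node (nat_lit 0x1006504280129) (.leaf (nat_lit 0x1006504280108) (nat_lit 1541))
 (.node (nat_lit 0x10065042b0108) (.leaf (nat_lit 0x1006504280129) (nat_lit 1285))
 (.leaf (nat_lit 0x10065042b0108) (nat_lit 1285))
)))) (.node (nat_lit 0x1006504a90108) (.node (nat_lit 0x1006504a04121) (.node (nat_lit 0x1006504a04104) (.leaf (nat_lit 0x10065042b0129) (nat_lit 1029))
 (.leaf (nat_lit 0x1006504a04104) (nat_lit 1541))
) (.node (nat_lit 0x1006504a34104) (.leaf (nat_lit 0x1006504a04121) (nat_lit 1797))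
 (.node (nat_lit 0x1006504a34121) (.leaf (nat_lit 0x1006504a34104) (nat_lit 1797))
 (.leaf (nat_lit 0x1006504a34121) (nat_lit 2053))
))) (.node (nat_lit 0x1006504aa012d) (.node (nat_lit 0x1006504a9012d) (.leaf (nat_lit 0x1006504a90108) (nat_lit 1797))
 (.node (nat_lit 0x1006504aa0108) (.leaf (nat_lit 0x1006504a9012d) (nat_lit 1541))
 (.leaf (nat_lit 0x1006504aa0108) (nat_lit 1541))
)) (.node (nat_lit 0x1006505214104) (.leaf (nat_lit 0x1006504aa012d) (nat_lit 1285))
 (.node (nat_lit 0x100650521412d) (.leaf (nat_lit 0x1006505214104) (nat_lit 1797))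
 (.leaf (nat_lit 0x100650521412d) (nat_lit 2053))
))))) (.node (nat_lit 0x1006505a90125) (.node (nat_lit 0x10065052b0121) (.node (nat_lit 0x1006505280108) (.node (nat_lit 0x100650522412d) (.leaf (nat_lit 0x1006505224104) (nat_lit 1541))
 (.leaf (nat_lit 0x100650522412d) (nat_lit 1797))
) (.node (nat_lit 0x1006505280121) (.leaf (nat_lit 0x1006505280108) (nat_lit 1797))
 (.node (nat_lit 0x10065052b0108) (.leaf (nat_lit 0x1006505280121) (nat_lit 1541))
 (.leaf (nat_lit 0x10065052b0108) (nat_lit 1541))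
))) (.node (nat_lit 0x1006505a24104) (.node (nat_lit 0x1006505a14104) (.leaf (nat_lit 0x10065052b0121) (nat_lit 1285))
 (.node (nat_lit 0x1006505a14129) (.leaf (nat_lit 0x1006505a14104) (nat_lit 2053))
 (.leaf (nat_lit 0x1006505a14129) (nat_lit 2309))
)) (.node (nat_lit 0x1006505a24129) (.leaf (nat_lit 0x1006505a24104) (nat_lit 1797))
 (.node (nat_lit 0x1006505a90108) (.leaf (nat_lit 0x1006505a24129) (nat_lit 2053))
 (.leaf (nat_lit 0x1006505a90108) (nat_lit 2053))
)))) (.node (nat_lit 0x100690081412c) (.node (nat_lit 0x1006900804121) (.node (nat_lit 0x1006505aa0108) (.leaf (nat_lit 0x1006505a90125) (nat_lit 1797))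
 (.node (nat_lit 0x1006505aa0125) (.leaf (nat_lit 0x1006505aa0108) (nat_lit 1797))
 (.leaf (nat_lit 0x1006505aa0125) (nat_lit 1541))
)) (.node (nat_lit 0x1006900804125) (.leaf (nat_lit 0x1006900804121) (nat_lit 2051))
 (.node (nat_lit 0x1006900814128) (.leaf (nat_lit 0x1006900804125) (nat_lit 1795))
 (.leaf (nat_lit 0x1006900814128) (nat_lit 2562))
))) (.node (nat_lit 0x1006900830121) (.node (nat_lit 0x1006900820128) (.leaf (nat_lit 0x100690081412c) (nat_lit 2306))
 (.node (nat_lit 0x100690082012c) (.leaf (nat_lit 0x1006900820128) (nat_lit 2306))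
 (.leaf (nat_lit 0x100690082012c) (nat_lit 2050))
)) (.node (nat_lit 0x1006900830125) (.leaf (nat_lit 0x1006900830121) (nat_lit 2307))
 (.node (nat_lit 0x1006901280121) (.leaf (nat_lit 0x1006900830125) (nat_lit 2051))
 (.leaf (nat_lit 0x1006901280121) (nat_lit 1284))
)))))) (.node (nat_lit 0x1006904aa412c) (.node (nat_lit 0x1006904280109) (.node (nat_lit 0x10069012b4121) (.node (nat_lit 0x100690129012c) (.node (nat_lit 0x1006901290125) (.leaf (nat_lit 0x1006901280128) (nat_lit 1024))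
 (.leaf (nat_lit 0x1006901290125) (nat_lit 1540))
) (.node (nat_lit 0x10069012a4125) (.leaf (nat_lit 0x100690129012c) (nat_lit 1280))
 (.node (nat_lit 0x10069012a412c) (.leaf (nat_lit 0x10069012a4125) (nat_lit 1284))
 (.leaf (nat_lit 0x10069012a412c) (nat_lit 1025))
))) (.node (nat_lit 0x1006904204125) (.node (nat_lit 0x10069012b4128) (.leaf (nat_lit 0x10069012b4121) (nat_lit 1028))
 (.node (nat_lit 0x1006904204104) (.leaf (nat_lit 0x10069012b4128) (nat_lit 769))
 (.leaf (nat_lit 0x1006904204104) (nat_lit 1281))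
)) (.node (nat_lit 0x1006904230104) (.leaf (nat_lit 0x1006904204125) (nat_lit 1540))
 (.node (nat_lit 0x1006904230125) (.leaf (nat_lit 0x1006904230104) (nat_lit 1536))
 (.leaf (nat_lit 0x1006904230125) (nat_lit 1796))
)))) (.node (nat_lit 0x1006904a04121) (.node (nat_lit 0x10069042b4109) (.node (nat_lit 0x1006904280128) (.leaf (nat_lit 0x1006904280109) (nat_lit 1540))
 (.leaf (nat_lit 0x1006904280128) (nat_lit 1280))
) (.node (nat_lit 0x10069042b4128) (.leaf (nat_lit 0x10069042b4109) (nat_lit 1284))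
 (.node (nat_lit 0x1006904a04104) (.leaf (nat_lit 0x10069042b4128) (nat_lit 1025))
 (.leaf (nat_lit 0x1006904a04104) (nat_lit 1537))
))) (.node (nat_lit 0x1006904a90109) (.node (nat_lit 0x1006904a30104) (.leaf (nat_lit 0x1006904a04121) (nat_lit 1796))
 (.node (nat_lit 0x1006904a30121) (.leaf (nat_lit 0x1006904a30104) (nat_lit 1792))
 (.leaf (nat_lit 0x1006904a30121) (nat_lit 2052))
)) (.node (nat_lit 0x1006904a9012c) (.leaf (nat_lit 0x1006904a90109) (nat_lit 1796))
 (.node (nat_lit 0x1006904aa4109) (.leaf (nat_lit 0x1006904a9012c) (nat_lit 1536))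
 (.leaf (nat_lit 0x1006904aa4109) (nat_lit 1540))
))))) (.node (nat_lit 0x1006905820104) (.node (nat_lit 0x1006905080109) (.node (nat_lit 0x100690501412c) (.node (nat_lit 0x1006905014104) (.leaf (nat_lit 0x1006904aa412c) (nat_lit 1281))
 (.leaf (nat_lit 0x1006905014104) (nat_lit 1794))
) (.node (nat_lit 0x1006905020104) (.leaf (nat_lit 0x100690501412c) (nat_lit 2050))
 (.node (nat_lit 0x100690502012c) (.leaf (nat_lit 0x1006905020104) (nat_lit 1538))
 (.leaf (nat_lit 0x100690502012c) (nat_lit 1794))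
))) (.node (nat_lit 0x10069050b4121) (.node (nat_lit 0x1006905080121) (.leaf (nat_lit 0x1006905080109) (nat_lit 1795))
 (.node (nat_lit 0x10069050b4109) (.leaf (nat_lit 0x1006905080121) (nat_lit 1539))
 (.leaf (nat_lit 0x10069050b4109) (nat_lit 1539))
)) (.node (nat_lit 0x1006905814104) (.leaf (nat_lit 0x10069050b4121) (nat_lit 1283))
 (.node (nat_lit 0x1006905814128) (.leaf (nat_lit 0x1006905814104) (nat_lit 2050))
 (.leaf (nat_lit 0x1006905814128) (nat_lit 2306))
)))) (.node (nat_lit 0x1006d00804121) (.node (nat_lit 0x1006905890125) (.node (nat_lit 0x1006905820128) (.leaf (nat_lit 0x1006905820104) (nat_lit 1794))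
 (.node (nat_lit 0x1006905890109) (.leaf (nat_lit 0x1006905820128) (nat_lit 2050))
 (.leaf (nat_lit 0x1006905890109) (nat_lit 2051))
)) (.node (nat_lit 0x10069058a4109) (.leaf (nat_lit 0x1006905890125) (nat_lit 1795))
 (.node (nat_lit 0x10069058a4125) (.leaf (nat_lit 0x10069058a4109) (nat_lit 1795))
 (.leaf (nat_lit 0x10069058a4125) (nat_lit 1539))
))) (.node (nat_lit 0x1006d0081412c) (.node (nat_lit 0x1006d00804125) (.leaf (nat_lit 0x1006d00804121) (nat_lit 2309))
 (.node (nat_lit 0x1006d00814128) (.leaf (nat_lit 0x1006d00804125) (nat_lit 2053))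
 (.leaf (nat_lit 0x1006d00814128) (nat_lit 2821))
)) (.node (nat_lit 0x1006d00820128) (.leaf (nat_lit 0x1006d0081412c) (nat_lit 2565))
 (.node (nat_lit 0x1006d0082012c) (.leaf (nat_lit 0x1006d00820128) (nat_lit 2565))
 (.leaf (nat_lit 0x1006d0082012c) (nat_lit 2309))
))))))) (.node (nat_lit 0x1010100214129) (.node (nat_lit 0x1006d04a90109) (.node (nat_lit 0x1006d04204125) (.node (nat_lit 0x1006d0129012c) (.node (nat_lit 0x1006d01280121) (.node (nat_lit 0x1006d00830125) (.leaf (nat_lit 0x1006d00830121) (nat_lit 2565))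
 (.leaf (nat_lit 0x1006d00830125) (nat_lit 2309))
) (.node (nat_lit 0x1006d01280128) (.leaf (nat_lit 0x1006d01280121) (nat_lit 1541))
 (.node (nat_lit 0x1006d01290125) (.leaf (nat_lit 0x1006d01280128) (nat_lit 1285))
 (.leaf (nat_lit 0x1006d01290125) (nat_lit 1797))
))) (.node (nat_lit 0x1006d012b4121) (.node (nat_lit 0x1006d012a4125) (.leaf (nat_lit 0x1006d0129012c) (nat_lit 1541))
 (.node (nat_lit 0x1006d012a412c) (.leaf (nat_lit 0x1006d012a4125) (nat_lit 1541))
 (.leaf (nat_lit 0x1006d012a412c) (nat_lit 1285))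
)) (.node (nat_lit 0x1006d012b4128) (.leaf (nat_lit 0x1006d012b4121) (nat_lit 1285))
 (.node (nat_lit 0x1006d04204104) (.leaf (nat_lit 0x1006d012b4128) (nat_lit 1029))
 (.leaf (nat_lit 0x1006d04204104) (nat_lit 1541))
)))) (.node (nat_lit 0x1006d042b4109) (.node (nat_lit 0x1006d04230125) (.node (nat_lit 0x1006d04230104) (.leaf (nat_lit 0x1006d04204125) (nat_lit 1797))
 (.leaf (nat_lit 0x1006d04230104) (nat_lit 1797))
) (.node (nat_lit 0x1006d04280109) (.leaf (nat_lit 0x1006d04230125) (nat_lit 2053))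
 (.node (nat_lit 0x1006d04280128) (.leaf (nat_lit 0x1006d04280109) (nat_lit 1797))
 (.leaf (nat_lit 0x1006d04280128) (nat_lit 1541))
))) (.node (nat_lit 0x1006d04a04121) (.node (nat_lit 0x1006d042b4128) (.leaf (nat_lit 0x1006d042b4109) (nat_lit 1541))
 (.node (nat_lit 0x1006d04a04104) (.leaf (nat_lit 0x1006d042b4128) (nat_lit 1285))
 (.leaf (nat_lit 0x1006d04a04104) (nat_lit 1797))
)) (.node (nat_lit 0x1006d04a30104) (.leaf (nat_lit 0x1006d04a04121) (nat_lit 2053))
 (.node (nat_lit 0x1006d04a30121) (.leaf (nat_lit 0x1006d04a30104) (nat_lit 2053))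
 (.leaf (nat_lit 0x1006d04a30121) (nat_lit 2309))
))))) (.node (nat_lit 0x1006d050b4121) (.node (nat_lit 0x1006d0501412c) (.node (nat_lit 0x1006d04aa4109) (.node (nat_lit 0x1006d04a9012c) (.leaf (nat_lit 0x1006d04a90109) (nat_lit 2053))
 (.leaf (nat_lit 0x1006d04a9012c) (nat_lit 1797))
) (.node (nat_lit 0x1006d04aa412c) (.leaf (nat_lit 0x1006d04aa4109) (nat_lit 1797))
 (.node (nat_lit 0x1006d05014104) (.leaf (nat_lit 0x1006d04aa412c) (nat_lit 1541))
 (.leaf (nat_lit 0x1006d05014104) (nat_lit 2053))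
))) (.node (nat_lit 0x1006d05080109) (.node (nat_lit 0x1006d05020104) (.leaf (nat_lit 0x1006d0501412c) (nat_lit 2309))
 (.node (nat_lit 0x1006d0502012c) (.leaf (nat_lit 0x1006d05020104) (nat_lit 1797))
 (.leaf (nat_lit 0x1006d0502012c) (nat_lit 2053))
)) (.node (nat_lit 0x1006d05080121) (.leaf (nat_lit 0x1006d05080109) (nat_lit 2053))
 (.node (nat_lit 0x1006d050b4109) (.leaf (nat_lit 0x1006d05080121) (nat_lit 1797))
 (.leaf (nat_lit 0x1006d050b4109) (nat_lit 1797))
)))) (.node (nat_lit 0x1006d05890125) (.node (nat_lit 0x1006d05820104) (.node (nat_lit 0x1006d05814104) (.leaf (nat_lit 0x1006d050b4121) (nat_lit 1541))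
 (.node (nat_lit 0x1006d05814128) (.leaf (nat_lit 0x1006d05814104) (nat_lit 2309))
 (.leaf (nat_lit 0x1006d05814128) (nat_lit 2565))
)) (.node (nat_lit 0x1006d05820128) (.leaf (nat_lit 0x1006d05820104) (nat_lit 2053))
 (.node (nat_lit 0x1006d05890109) (.leaf (nat_lit 0x1006d05820128) (nat_lit 2309))
 (.leaf (nat_lit 0x1006d05890109) (nat_lit 2309))
))) (.node (nat_lit 0x1010100210108) (.node (nat_lit 0x1006d058a4109) (.leaf (nat_lit 0x1006d05890125) (nat_lit 2053))
 (.node (nat_lit 0x1006d058a4125) (.leaf (nat_lit 0x1006d058a4109) (nat_lit 2053))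
 (.leaf (nat_lit 0x1006d058a4125) (nat_lit 1797))
)) (.node (nat_lit 0x1010100210109) (.leaf (nat_lit 0x1010100210108) (nat_lit 771))
 (.node (nat_lit 0x1010100214128) (.leaf (nat_lit 0x1010100210109) (nat_lit 515))
 (.leaf (nat_lit 0x1010100214128) (nat_lit 1026))
)))))) (.node (nat_lit 0x1010104230129) (.node (nat_lit 0x10101010b0121) (.node (nat_lit 0x1010101010101) (.node (nat_lit 0x1010100290109) (.node (nat_lit 0x1010100290108) (.leaf (nat_lit 0x1010100214129) (nat_lit 1282))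
 (.leaf (nat_lit 0x1010100290108) (nat_lit 1027))
) (.node (nat_lit 0x1010100294128) (.leaf (nat_lit 0x1010100290109) (nat_lit 771))
 (.node (nat_lit 0x1010100294129) (.leaf (nat_lit 0x1010100294128) (nat_lit 770))
 (.leaf (nat_lit 0x1010100294129) (nat_lit 1026))
))) (.node (nat_lit 0x1010101030129) (.node (nat_lit 0x1010101010109) (.leaf (nat_lit 0x1010101010101) (nat_lit 0))
 (.node (nat_lit 0x1010101030121) (.leaf (nat_lit 0x1010101010109) (nat_lit 260))
 (.leaf (nat_lit 0x1010101030121) (nat_lit 772))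
)) (.node (nat_lit 0x1010101090101) (.leaf (nat_lit 0x1010101030129) (nat_lit 514))
 (.node (nat_lit 0x1010101090109) (.leaf (nat_lit 0x1010101090101) (nat_lit 256))
 (.leaf (nat_lit 0x1010101090109) (nat_lit 516))
)))) (.node (nat_lit 0x1010101234128) (.node (nat_lit 0x1010101210101) (.node (nat_lit 0x10101010b0129) (.leaf (nat_lit 0x10101010b0121) (nat_lit 516))
 (.leaf (nat_lit 0x10101010b0129) (nat_lit 258))
) (.node (nat_lit 0x1010101210108) (.leaf (nat_lit 0x1010101210101) (nat_lit 259))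
 (.node (nat_lit 0x1010101234121) (.leaf (nat_lit 0x1010101210108) (nat_lit 516))
 (.leaf (nat_lit 0x1010101234121) (nat_lit 1028))
))) (.node (nat_lit 0x10101012b4121) (.node (nat_lit 0x1010101290101) (.leaf (nat_lit 0x1010101234128) (nat_lit 770))
 (.node (nat_lit 0x1010101290108) (.leaf (nat_lit 0x1010101290101) (nat_lit 515))
 (.leaf (nat_lit 0x1010101290108) (nat_lit 772))
)) (.node (nat_lit 0x10101012b4128) (.leaf (nat_lit 0x10101012b4121) (nat_lit 772))
 (.node (nat_lit 0x1010104230108) (.leaf (nat_lit 0x10101012b4128) (nat_lit 514))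
 (.leaf (nat_lit 0x1010104230108) (nat_lit 1028))
))))) (.node (nat_lit 0x1010105094101) (.node (nat_lit 0x10101042b4109) (.node (nat_lit 0x1010104234128) (.node (nat_lit 0x1010104234109) (.leaf (nat_lit 0x1010104230129) (nat_lit 771))
 (.leaf (nat_lit 0x1010104234109) (nat_lit 1284))
) (.node (nat_lit 0x10101042b0108) (.leaf (nat_lit 0x1010104234128) (nat_lit 1026))
 (.node (nat_lit 0x10101042b0129) (.leaf (nat_lit 0x10101042b0108) (nat_lit 772))
 (.leaf (nat_lit 0x10101042b0129) (nat_lit 515))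
))) (.node (nat_lit 0x1010105014129) (.node (nat_lit 0x10101042b4128) (.leaf (nat_lit 0x10101042b4109) (nat_lit 1028))
 (.node (nat_lit 0x1010105014101) (.leaf (nat_lit 0x10101042b4128) (nat_lit 770))
 (.leaf (nat_lit 0x1010105014101) (nat_lit 1794))
)) (.node (nat_lit 0x1010105034109) (.leaf (nat_lit 0x1010105014129) (nat_lit 1538))
 (.node (nat_lit 0x1010105034121) (.leaf (nat_lit 0x1010105034109) (nat_lit 1539))
 (.leaf (nat_lit 0x1010105034121) (nat_lit 1283))
)))) (.node (nat_lit 0x1010105230108) (.node (nat_lit 0x10101050b4121) (.node (nat_lit 0x1010105094129) (.leaf (nat_lit 0x1010105094101) (nat_lit 1538))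
 (.node (nat_lit 0x10101050b4109) (.leaf (nat_lit 0x1010105094129) (nat_lit 1282))
 (.leaf (nat_lit 0x10101050b4109) (nat_lit 1283))
)) (.node (nat_lit 0x1010105214101) (.leaf (nat_lit 0x10101050b4121) (nat_lit 1027))
 (.node (nat_lit 0x1010105214128) (.leaf (nat_lit 0x1010105214101) (nat_lit 1538))
 (.leaf (nat_lit 0x1010105214128) (nat_lit 1282))
))) (.node (nat_lit 0x1010105294128) (.node (nat_lit 0x1010105230121) (.leaf (nat_lit 0x1010105230108) (nat_lit 1283))
 (.node (nat_lit 0x1010105294101) (.leaf (nat_lit 0x1010105230121) (nat_lit 1027))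
 (.leaf (nat_lit 0x1010105294101) (nat_lit 1282))
)) (.node (nat_lit 0x10101052b0108) (.leaf (nat_lit 0x1010105294128) (nat_lit 1026))
 (.node (nat_lit 0x10101052b0121) (.leaf (nat_lit 0x10101052b0108) (nat_lit 1027))
 (.leaf (nat_lit 0x10101052b0121) (nat_lit 771))
)))))))))) (.node (nat_lit 0x1014104004105) (.node (nat_lit 0x1012105884101) (.node (nat_lit 0x1010905a2410d) (.node (nat_lit 0x1010505294128) (.node (nat_lit 0x10105012b4121) (.node (nat_lit 0x1010501030129) (.node (nat_lit 0x1010500290109) (.node (nat_lit 0x1010500214128) (.node (nat_lit 0x1010500210109) (.leaf (nat_lit 0x1010500210108) (nat_lit 1029))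
 (.leaf (nat_lit 0x1010500210109) (nat_lit 773))
) (.node (nat_lit 0x1010500214129) (.leaf (nat_lit 0x1010500214128) (nat_lit 1285))
 (.node (nat_lit 0x1010500290108) (.leaf (nat_lit 0x1010500214129) (nat_lit 1541))
 (.leaf (nat_lit 0x1010500290108) (nat_lit 1285))
))) (.node (nat_lit 0x1010501010101) (.node (nat_lit 0x1010500294128) (.leaf (nat_lit 0x1010500290109) (nat_lit 1029))
 (.node (nat_lit 0x1010500294129) (.leaf (nat_lit 0x1010500294128) (nat_lit 1029))
 (.leaf (nat_lit 0x1010500294129) (nat_lit 1285))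
)) (.node (nat_lit 0x1010501010109) (.leaf (nat_lit 0x1010501010101) (nat_lit 261))
 (.node (nat_lit 0x1010501030121) (.leaf (nat_lit 0x1010501010109) (nat_lit 517))
 (.leaf (nat_lit 0x1010501030121) (nat_lit 1029))
)))) (.node (nat_lit 0x1010501210101) (.node (nat_lit 0x1010501090109) (.node (nat_lit 0x1010501090101) (.leaf (nat_lit 0x1010501030129) (nat_lit 773))
 (.leaf (nat_lit 0x1010501090101) (nat_lit 517))
) (.node (nat_lit 0x10105010b0121) (.leaf (nat_lit 0x1010501090109) (nat_lit 773))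
 (.node (nat_lit 0x10105010b0129) (.leaf (nat_lit 0x10105010b0121) (nat_lit 773))
 (.leaf (nat_lit 0x10105010b0129) (nat_lit 517))
))) (.node (nat_lit 0x1010501234128) (.node (nat_lit 0x1010501210108) (.leaf (nat_lit 0x1010501210101) (nat_lit 517))
 (.node (nat_lit 0x1010501234121) (.leaf (nat_lit 0x1010501210108) (nat_lit 773))
 (.leaf (nat_lit 0x1010501234121) (nat_lit 1285))
)) (.node (nat_lit 0x1010501290101) (.leaf (nat_lit 0x1010501234128) (nat_lit 1029))
 (.node (nat_lit 0x1010501290108) (.leaf (nat_lit 0x1010501290101) (nat_lit 773))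
 (.leaf (nat_lit 0x1010501290108) (nat_lit 1029))
))))) (.node (nat_lit 0x1010505014129) (.node (nat_lit 0x1010504234128) (.node (nat_lit 0x1010504230108) (.node (nat_lit 0x10105012b4128) (.leaf (nat_lit 0x10105012b4121) (nat_lit 1029))
 (.leaf (nat_lit 0x10105012b4128) (nat_lit 773))
) (.node (nat_lit 0x1010504230129) (.leaf (nat_lit 0x1010504230108) (nat_lit 1285))
 (.node (nat_lit 0x1010504234109) (.leaf (nat_lit 0x1010504230129) (nat_lit 1029))
 (.leaf (nat_lit 0x1010504234109) (nat_lit 1541))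
))) (.node (nat_lit 0x10105042b4109) (.node (nat_lit 0x10105042b0108) (.leaf (nat_lit 0x1010504234128) (nat_lit 1285))
 (.node (nat_lit 0x10105042b0129) (.leaf (nat_lit 0x10105042b0108) (nat_lit 1029))
 (.leaf (nat_lit 0x10105042b0129) (nat_lit 773))
)) (.node (nat_lit 0x10105042b4128) (.leaf (nat_lit 0x10105042b4109) (nat_lit 1285))
 (.node (nat_lit 0x1010505014101) (.leaf (nat_lit 0x10105042b4128) (nat_lit 1029))
 (.leaf (nat_lit 0x1010505014101) (nat_lit 2053))
)))) (.node (nat_lit 0x10105050b4121) (.node (nat_lit 0x1010505094101) (.node (nat_lit 0x1010505034109) (.leaf (nat_lit 0x1010505014129) (nat_lit 1797))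
 (.node (nat_lit 0x1010505034121) (.leaf (nat_lit 0x1010505034109) (nat_lit 1797))
 (.leaf (nat_lit 0x1010505034121) (nat_lit 1541))
)) (.node (nat_lit 0x1010505094129) (.leaf (nat_lit 0x1010505094101) (nat_lit 1797))
 (.node (nat_lit 0x10105050b4109) (.leaf (nat_lit 0x1010505094129) (nat_lit 1541))
 (.leaf (nat_lit 0x10105050b4109) (nat_lit 1541))
))) (.node (nat_lit 0x1010505230108) (.node (nat_lit 0x1010505214101) (.leaf (nat_lit 0x10105050b4121) (nat_lit 1285))
 (.node (nat_lit 0x1010505214128) (.leaf (nat_lit 0x1010505214101) (nat_lit 1797))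
 (.leaf (nat_lit 0x1010505214128) (nat_lit 1541))
)) (.node (nat_lit 0x1010505230121) (.leaf (nat_lit 0x1010505230108) (nat_lit 1541))
 (.node (nat_lit 0x1010505294101) (.leaf (nat_lit 0x1010505230121) (nat_lit 1285))
 (.leaf (nat_lit 0x1010505294101) (nat_lit 1541))
)))))) (.node (nat_lit 0x1010901a2412d) (.node (nat_lit 0x1010901810101) (.node (nat_lit 0x101090021412c) (.node (nat_lit 0x10105052b0121) (.node (nat_lit 0x10105052b0108) (.leaf (nat_lit 0x1010505294128) (nat_lit 1285))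
 (.leaf (nat_lit 0x10105052b0108) (nat_lit 1285))
) (.node (nat_lit 0x101090021010c) (.leaf (nat_lit 0x10105052b0121) (nat_lit 1029))
 (.node (nat_lit 0x101090021010d) (.leaf (nat_lit 0x101090021010c) (nat_lit 2048))
 (.leaf (nat_lit 0x101090021010d) (nat_lit 2304))
))) (.node (nat_lit 0x101090029012d) (.node (nat_lit 0x101090021412d) (.leaf (nat_lit 0x101090021412c) (nat_lit 1537))
 (.node (nat_lit 0x101090029012c) (.leaf (nat_lit 0x101090021412d) (nat_lit 1793))
 (.leaf (nat_lit 0x101090029012c) (nat_lit 1792))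
)) (.node (nat_lit 0x101090029410c) (.leaf (nat_lit 0x101090029012d) (nat_lit 2048))
 (.node (nat_lit 0x101090029410d) (.leaf (nat_lit 0x101090029410c) (nat_lit 1793))
 (.leaf (nat_lit 0x101090029410d) (nat_lit 2049))
)))) (.node (nat_lit 0x101090189410d) (.node (nat_lit 0x1010901820120) (.node (nat_lit 0x101090181010d) (.leaf (nat_lit 0x1010901810101) (nat_lit 2816))
 (.leaf (nat_lit 0x101090181010d) (nat_lit 2560))
) (.node (nat_lit 0x101090182012c) (.leaf (nat_lit 0x1010901820120) (nat_lit 2561))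
 (.node (nat_lit 0x1010901894101) (.leaf (nat_lit 0x101090182012c) (nat_lit 2817))
 (.leaf (nat_lit 0x1010901894101) (nat_lit 2561))
))) (.node (nat_lit 0x1010901a10101) (.node (nat_lit 0x10109018a4120) (.leaf (nat_lit 0x101090189410d) (nat_lit 2305))
 (.node (nat_lit 0x10109018a412c) (.leaf (nat_lit 0x10109018a4120) (nat_lit 2816))
 (.leaf (nat_lit 0x10109018a412c) (nat_lit 3072))
)) (.node (nat_lit 0x1010901a1010c) (.leaf (nat_lit 0x1010901a10101) (nat_lit 2560))
 (.node (nat_lit 0x1010901a24120) (.leaf (nat_lit 0x1010901a1010c) (nat_lit 2304))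
 (.leaf (nat_lit 0x1010901a24120) (nat_lit 2305))
))))) (.node (nat_lit 0x10109040a410c) (.node (nat_lit 0x101090402010c) (.node (nat_lit 0x1010901a9410c) (.node (nat_lit 0x1010901a94101) (.leaf (nat_lit 0x1010901a2412d) (nat_lit 2561))
 (.leaf (nat_lit 0x1010901a94101) (nat_lit 2305))
) (.node (nat_lit 0x1010901aa0120) (.leaf (nat_lit 0x1010901a9410c) (nat_lit 2049))
 (.node (nat_lit 0x1010901aa012d) (.leaf (nat_lit 0x1010901aa0120) (nat_lit 2560))
 (.leaf (nat_lit 0x1010901aa012d) (nat_lit 2816))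
))) (.node (nat_lit 0x101090402412d) (.node (nat_lit 0x101090402012c) (.leaf (nat_lit 0x101090402010c) (nat_lit 2817))
 (.node (nat_lit 0x101090402410d) (.leaf (nat_lit 0x101090402012c) (nat_lit 3073))
 (.leaf (nat_lit 0x101090402410d) (nat_lit 2561))
)) (.node (nat_lit 0x10109040a010d) (.leaf (nat_lit 0x101090402412d) (nat_lit 2817))
 (.node (nat_lit 0x10109040a012d) (.leaf (nat_lit 0x10109040a010d) (nat_lit 2816))
 (.leaf (nat_lit 0x10109040a012d) (nat_lit 3072))
)))) (.node (nat_lit 0x1010905890101) (.node (nat_lit 0x101090581412d) (.node (nat_lit 0x10109040a412c) (.leaf (nat_lit 0x10109040a410c) (nat_lit 3072))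
 (.node (nat_lit 0x1010905814101) (.leaf (nat_lit 0x10109040a412c) (nat_lit 3328))
 (.leaf (nat_lit 0x1010905814101) (nat_lit 2305))
)) (.node (nat_lit 0x101090582010c) (.leaf (nat_lit 0x101090581412d) (nat_lit 2049))
 (.node (nat_lit 0x1010905820120) (.leaf (nat_lit 0x101090582010c) (nat_lit 2561))
 (.leaf (nat_lit 0x1010905820120) (nat_lit 2305))
))) (.node (nat_lit 0x10109058a4120) (.node (nat_lit 0x101090589012d) (.leaf (nat_lit 0x1010905890101) (nat_lit 2560))
 (.node (nat_lit 0x10109058a410c) (.leaf (nat_lit 0x101090589012d) (nat_lit 2304))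
 (.leaf (nat_lit 0x10109058a410c) (nat_lit 2816))
)) (.node (nat_lit 0x1010905a14101) (.leaf (nat_lit 0x10109058a4120) (nat_lit 2560))
 (.node (nat_lit 0x1010905a1412c) (.leaf (nat_lit 0x1010905a14101) (nat_lit 2049))
 (.leaf (nat_lit 0x1010905a1412c) (nat_lit 1793))
))))))) (.node (nat_lit 0x1010d058a4120) (.node (nat_lit 0x1010d01a10101) (.node (nat_lit 0x1010d0029012d) (.node (nat_lit 0x1010905aa0120) (.node (nat_lit 0x1010905a90101) (.node (nat_lit 0x1010905a24120) (.leaf (nat_lit 0x1010905a2410d) (nat_lit 2305))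
 (.leaf (nat_lit 0x1010905a24120) (nat_lit 2049))
) (.node (nat_lit 0x1010905a9012c) (.leaf (nat_lit 0x1010905a90101) (nat_lit 2304))
 (.node (nat_lit 0x1010905aa010d) (.leaf (nat_lit 0x1010905a9012c) (nat_lit 2048))
 (.leaf (nat_lit 0x1010905aa010d) (nat_lit 2560))
))) (.node (nat_lit 0x1010d0021412c) (.node (nat_lit 0x1010d0021010c) (.leaf (nat_lit 0x1010905aa0120) (nat_lit 2304))
 (.node (nat_lit 0x1010d0021010d) (.leaf (nat_lit 0x1010d0021010c) (nat_lit 2309))
 (.leaf (nat_lit 0x1010d0021010d) (nat_lit 2565))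
)) (.node (nat_lit 0x1010d0021412d) (.leaf (nat_lit 0x1010d0021412c) (nat_lit 1797))
 (.node (nat_lit 0x1010d0029012c) (.leaf (nat_lit 0x1010d0021412d) (nat_lit 2053))
 (.leaf (nat_lit 0x1010d0029012c) (nat_lit 2053))
)))) (.node (nat_lit 0x1010d01820120) (.node (nat_lit 0x1010d0029410d) (.node (nat_lit 0x1010d0029410c) (.leaf (nat_lit 0x1010d0029012d) (nat_lit 2309))
 (.leaf (nat_lit 0x1010d0029410c) (nat_lit 2053))
) (.node (nat_lit 0x1010d01810101) (.leaf (nat_lit 0x1010d0029410d) (nat_lit 2309))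
 (.node (nat_lit 0x1010d0181010d) (.leaf (nat_lit 0x1010d01810101) (nat_lit 3077))
 (.leaf (nat_lit 0x1010d0181010d) (nat_lit 2821))
))) (.node (nat_lit 0x1010d0189410d) (.node (nat_lit 0x1010d0182012c) (.leaf (nat_lit 0x1010d01820120) (nat_lit 2821))
 (.node (nat_lit 0x1010d01894101) (.leaf (nat_lit 0x1010d0182012c) (nat_lit 3077))
 (.leaf (nat_lit 0x1010d01894101) (nat_lit 2821))
)) (.node (nat_lit 0x1010d018a4120) (.leaf (nat_lit 0x1010d0189410d) (nat_lit 2565))
 (.node (nat_lit 0x1010d018a412c) (.leaf (nat_lit 0x1010d018a4120) (nat_lit 3077))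
 (.leaf (nat_lit 0x1010d018a412c) (nat_lit 3333))
))))) (.node (nat_lit 0x1010d0402412d) (.node (nat_lit 0x1010d01a9410c) (.node (nat_lit 0x1010d01a24120) (.node (nat_lit 0x1010d01a1010c) (.leaf (nat_lit 0x1010d01a10101) (nat_lit 2821))
 (.leaf (nat_lit 0x1010d01a1010c) (nat_lit 2565))
) (.node (nat_lit 0x1010d01a2412d) (.leaf (nat_lit 0x1010d01a24120) (nat_lit 2565))
 (.node (nat_lit 0x1010d01a94101) (.leaf (nat_lit 0x1010d01a2412d) (nat_lit 2821))
 (.leaf (nat_lit 0x1010d01a94101) (nat_lit 2565))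
))) (.node (nat_lit 0x1010d0402010c) (.node (nat_lit 0x1010d01aa0120) (.leaf (nat_lit 0x1010d01a9410c) (nat_lit 2309))
 (.node (nat_lit 0x1010d01aa012d) (.leaf (nat_lit 0x1010d01aa0120) (nat_lit 2821))
 (.leaf (nat_lit 0x1010d01aa012d) (nat_lit 3077))
)) (.node (nat_lit 0x1010d0402012c) (.leaf (nat_lit 0x1010d0402010c) (nat_lit 3077))
 (.node (nat_lit 0x1010d0402410d) (.leaf (nat_lit 0x1010d0402012c) (nat_lit 3333))
 (.leaf (nat_lit 0x1010d0402410d) (nat_lit 2821))
)))) (.node (nat_lit 0x1010d0581412d) (.node (nat_lit 0x1010d040a410c) (.node (nat_lit 0x1010d040a010d) (.leaf (nat_lit 0x1010d0402412d) (nat_lit 3077))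
 (.node (nat_lit 0x1010d040a012d) (.leaf (nat_lit 0x1010d040a010d) (nat_lit 3077))
 (.leaf (nat_lit 0x1010d040a012d) (nat_lit 3333))
)) (.node (nat_lit 0x1010d040a412c) (.leaf (nat_lit 0x1010d040a410c) (nat_lit 3333))
 (.node (nat_lit 0x1010d05814101) (.leaf (nat_lit 0x1010d040a412c) (nat_lit 3589))
 (.leaf (nat_lit 0x1010d05814101) (nat_lit 2565))
))) (.node (nat_lit 0x1010d05890101) (.node (nat_lit 0x1010d0582010c) (.leaf (nat_lit 0x1010d0581412d) (nat_lit 2309))
 (.node (nat_lit 0x1010d05820120) (.leaf (nat_lit 0x1010d0582010c) (nat_lit 2821))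
 (.leaf (nat_lit 0x1010d05820120) (nat_lit 2565))
)) (.node (nat_lit 0x1010d0589012d) (.leaf (nat_lit 0x1010d05890101) (nat_lit 2821))
 (.node (nat_lit 0x1010d058a410c) (.leaf (nat_lit 0x1010d0589012d) (nat_lit 2565))
 (.leaf (nat_lit 0x1010d058a410c) (nat_lit 3077))
)))))) (.node (nat_lit 0x1012101080109) (.node (nat_lit 0x101210021412c) (.node (nat_lit 0x1010d05a90101) (.node (nat_lit 0x1010d05a1412c) (.node (nat_lit 0x1010d05a14101) (.leaf (nat_lit 0x1010d058a4120) (nat_lit 2821))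
 (.leaf (nat_lit 0x1010d05a14101) (nat_lit 2309))
) (.node (nat_lit 0x1010d05a2410d) (.leaf (nat_lit 0x1010d05a1412c) (nat_lit 2053))
 (.node (nat_lit 0x1010d05a24120) (.leaf (nat_lit 0x1010d05a2410d) (nat_lit 2565))
 (.leaf (nat_lit 0x1010d05a24120) (nat_lit 2309))
))) (.node (nat_lit 0x1010d05aa0120) (.node (nat_lit 0x1010d05a9012c) (.leaf (nat_lit 0x1010d05a90101) (nat_lit 2565))
 (.node (nat_lit 0x1010d05aa010d) (.leaf (nat_lit 0x1010d05a9012c) (nat_lit 2309))
 (.leaf (nat_lit 0x1010d05aa010d) (nat_lit 2821))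
)) (.node (nat_lit 0x1012100210108) (.leaf (nat_lit 0x1010d05aa0120) (nat_lit 2565))
 (.node (nat_lit 0x1012100210109) (.leaf (nat_lit 0x1012100210108) (nat_lit 1027))
 (.leaf (nat_lit 0x1012100210109) (nat_lit 771))
)))) (.node (nat_lit 0x101210028412d) (.node (nat_lit 0x1012100280108) (.node (nat_lit 0x101210021412d) (.leaf (nat_lit 0x101210021412c) (nat_lit 1282))
 (.leaf (nat_lit 0x101210021412d) (nat_lit 1538))
) (.node (nat_lit 0x1012100280109) (.leaf (nat_lit 0x1012100280108) (nat_lit 1283))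
 (.node (nat_lit 0x101210028412c) (.leaf (nat_lit 0x1012100280109) (nat_lit 1027))
 (.leaf (nat_lit 0x101210028412c) (nat_lit 1026))
))) (.node (nat_lit 0x1012101030125) (.node (nat_lit 0x1012101010101) (.leaf (nat_lit 0x101210028412d) (nat_lit 1282))
 (.node (nat_lit 0x1012101010109) (.leaf (nat_lit 0x1012101010101) (nat_lit 257))
 (.leaf (nat_lit 0x1012101010109) (nat_lit 516))
)) (.node (nat_lit 0x101210103012d) (.leaf (nat_lit 0x1012101030125) (nat_lit 1028))
 (.node (nat_lit 0x1012101080101) (.leaf (nat_lit 0x101210103012d) (nat_lit 770))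
 (.leaf (nat_lit 0x1012101080101) (nat_lit 512))
))))) (.node (nat_lit 0x1012104a30108) (.node (nat_lit 0x1012101234125) (.node (nat_lit 0x10121010a012d) (.node (nat_lit 0x10121010a0125) (.leaf (nat_lit 0x1012101080109) (nat_lit 772))
 (.leaf (nat_lit 0x10121010a0125) (nat_lit 772))
) (.node (nat_lit 0x1012101210101) (.leaf (nat_lit 0x10121010a012d) (nat_lit 514))
 (.node (nat_lit 0x1012101210108) (.leaf (nat_lit 0x1012101210101) (nat_lit 515))
 (.leaf (nat_lit 0x1012101210108) (nat_lit 772))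
))) (.node (nat_lit 0x1012101280108) (.node (nat_lit 0x101210123412c) (.leaf (nat_lit 0x1012101234125) (nat_lit 1284))
 (.node (nat_lit 0x1012101280101) (.leaf (nat_lit 0x101210123412c) (nat_lit 1026))
 (.leaf (nat_lit 0x1012101280101) (nat_lit 771))
)) (.node (nat_lit 0x10121012a4125) (.leaf (nat_lit 0x1012101280108) (nat_lit 1028))
 (.node (nat_lit 0x10121012a412c) (.leaf (nat_lit 0x10121012a4125) (nat_lit 1028))
 (.leaf (nat_lit 0x10121012a412c) (nat_lit 770))
)))) (.node (nat_lit 0x1012104aa4109) (.node (nat_lit 0x1012104a3412c) (.node (nat_lit 0x1012104a3012d) (.leaf (nat_lit 0x1012104a30108) (nat_lit 1284))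
 (.node (nat_lit 0x1012104a34109) (.leaf (nat_lit 0x1012104a3012d) (nat_lit 1027))
 (.leaf (nat_lit 0x1012104a34109) (nat_lit 1540))
)) (.node (nat_lit 0x1012104aa0108) (.leaf (nat_lit 0x1012104a3412c) (nat_lit 1282))
 (.node (nat_lit 0x1012104aa012d) (.leaf (nat_lit 0x1012104aa0108) (nat_lit 1028))
 (.leaf (nat_lit 0x1012104aa012d) (nat_lit 771))
))) (.node (nat_lit 0x101210581412d) (.node (nat_lit 0x1012104aa412c) (.leaf (nat_lit 0x1012104aa4109) (nat_lit 1284))
 (.node (nat_lit 0x1012105814101) (.leaf (nat_lit 0x1012104aa412c) (nat_lit 1026))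
 (.leaf (nat_lit 0x1012105814101) (nat_lit 2050))
)) (.node (nat_lit 0x1012105834109) (.leaf (nat_lit 0x101210581412d) (nat_lit 1794))
 (.node (nat_lit 0x1012105834125) (.leaf (nat_lit 0x1012105834109) (nat_lit 1795))
 (.leaf (nat_lit 0x1012105834125) (nat_lit 1539))
)))))))) (.node (nat_lit 0x10129048b410c) (.node (nat_lit 0x101250581412d) (.node (nat_lit 0x1012501030125) (.node (nat_lit 0x1012105aa0125) (.node (nat_lit 0x1012105a1412c) (.node (nat_lit 0x10121058a4109) (.node (nat_lit 0x101210588412d) (.leaf (nat_lit 0x1012105884101) (nat_lit 1794))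
 (.leaf (nat_lit 0x101210588412d) (nat_lit 1538))
) (.node (nat_lit 0x10121058a4125) (.leaf (nat_lit 0x10121058a4109) (nat_lit 1539))
 (.node (nat_lit 0x1012105a14101) (.leaf (nat_lit 0x10121058a4125) (nat_lit 1283))
 (.leaf (nat_lit 0x1012105a14101) (nat_lit 1794))
))) (.node (nat_lit 0x1012105a84101) (.node (nat_lit 0x1012105a30108) (.leaf (nat_lit 0x1012105a1412c) (nat_lit 1538))
 (.node (nat_lit 0x1012105a30125) (.leaf (nat_lit 0x1012105a30108) (nat_lit 1539))
 (.leaf (nat_lit 0x1012105a30125) (nat_lit 1283))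
)) (.node (nat_lit 0x1012105a8412c) (.leaf (nat_lit 0x1012105a84101) (nat_lit 1538))
 (.node (nat_lit 0x1012105aa0108) (.leaf (nat_lit 0x1012105a8412c) (nat_lit 1282))
 (.leaf (nat_lit 0x1012105aa0108) (nat_lit 1283))
)))) (.node (nat_lit 0x1012500280108) (.node (nat_lit 0x1012500210109) (.node (nat_lit 0x1012500210108) (.leaf (nat_lit 0x1012105aa0125) (nat_lit 1027))
 (.leaf (nat_lit 0x1012500210108) (nat_lit 1285))
) (.node (nat_lit 0x101250021412c) (.leaf (nat_lit 0x1012500210109) (nat_lit 1029))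
 (.node (nat_lit 0x101250021412d) (.leaf (nat_lit 0x101250021412c) (nat_lit 1541))
 (.leaf (nat_lit 0x101250021412d) (nat_lit 1797))
))) (.node (nat_lit 0x101250028412d) (.node (nat_lit 0x1012500280109) (.leaf (nat_lit 0x1012500280108) (nat_lit 1541))
 (.node (nat_lit 0x101250028412c) (.leaf (nat_lit 0x1012500280109) (nat_lit 1285))
 (.leaf (nat_lit 0x101250028412c) (nat_lit 1285))
)) (.node (nat_lit 0x1012501010101) (.leaf (nat_lit 0x101250028412d) (nat_lit 1541))
 (.node (nat_lit 0x1012501010109) (.leaf (nat_lit 0x1012501010101) (nat_lit 517))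
 (.leaf (nat_lit 0x1012501010109) (nat_lit 773))
))))) (.node (nat_lit 0x1012501280108) (.node (nat_lit 0x10125010a012d) (.node (nat_lit 0x1012501080101) (.node (nat_lit 0x101250103012d) (.leaf (nat_lit 0x1012501030125) (nat_lit 1285))
 (.leaf (nat_lit 0x101250103012d) (nat_lit 1029))
) (.node (nat_lit 0x1012501080109) (.leaf (nat_lit 0x1012501080101) (nat_lit 773))
 (.node (nat_lit 0x10125010a0125) (.leaf (nat_lit 0x1012501080109) (nat_lit 1029))
 (.leaf (nat_lit 0x10125010a0125) (nat_lit 1029))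
))) (.node (nat_lit 0x1012501234125) (.node (nat_lit 0x1012501210101) (.leaf (nat_lit 0x10125010a012d) (nat_lit 773))
 (.node (nat_lit 0x1012501210108) (.leaf (nat_lit 0x1012501210101) (nat_lit 773))
 (.leaf (nat_lit 0x1012501210108) (nat_lit 1029))
)) (.node (nat_lit 0x101250123412c) (.leaf (nat_lit 0x1012501234125) (nat_lit 1541))
 (.node (nat_lit 0x1012501280101) (.leaf (nat_lit 0x101250123412c) (nat_lit 1285))
 (.leaf (nat_lit 0x1012501280101) (nat_lit 1029))
)))) (.node (nat_lit 0x1012504a3412c) (.node (nat_lit 0x1012504a30108) (.node (nat_lit 0x10125012a4125) (.leaf (nat_lit 0x1012501280108) (nat_lit 1285))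
 (.node (nat_lit 0x10125012a412c) (.leaf (nat_lit 0x10125012a4125) (nat_lit 1285))
 (.leaf (nat_lit 0x10125012a412c) (nat_lit 1029))
)) (.node (nat_lit 0x1012504a3012d) (.leaf (nat_lit 0x1012504a30108) (nat_lit 1541))
 (.node (nat_lit 0x1012504a34109) (.leaf (nat_lit 0x1012504a3012d) (nat_lit 1285))
 (.leaf (nat_lit 0x1012504a34109) (nat_lit 1797))
))) (.node (nat_lit 0x1012504aa4109) (.node (nat_lit 0x1012504aa0108) (.leaf (nat_lit 0x1012504a3412c) (nat_lit 1541))
 (.node (nat_lit 0x1012504aa012d) (.leaf (nat_lit 0x1012504aa0108) (nat_lit 1285))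
 (.leaf (nat_lit 0x1012504aa012d) (nat_lit 1029))
)) (.node (nat_lit 0x1012504aa412c) (.leaf (nat_lit 0x1012504aa4109) (nat_lit 1541))
 (.node (nat_lit 0x1012505814101) (.leaf (nat_lit 0x1012504aa412c) (nat_lit 1285))
 (.leaf (nat_lit 0x1012505814101) (nat_lit 2309))
)))))) (.node (nat_lit 0x101290028410d) (.node (nat_lit 0x1012505a84101) (.node (nat_lit 0x10125058a4109) (.node (nat_lit 0x1012505834125) (.node (nat_lit 0x1012505834109) (.leaf (nat_lit 0x101250581412d) (nat_lit 2053))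
 (.leaf (nat_lit 0x1012505834109) (nat_lit 2053))
) (.node (nat_lit 0x1012505884101) (.leaf (nat_lit 0x1012505834125) (nat_lit 1797))
 (.node (nat_lit 0x101250588412d) (.leaf (nat_lit 0x1012505884101) (nat_lit 2053))
 (.leaf (nat_lit 0x101250588412d) (nat_lit 1797))
))) (.node (nat_lit 0x1012505a1412c) (.node (nat_lit 0x10125058a4125) (.leaf (nat_lit 0x10125058a4109) (nat_lit 1797))
 (.node (nat_lit 0x1012505a14101) (.leaf (nat_lit 0x10125058a4125) (nat_lit 1541))
 (.leaf (nat_lit 0x1012505a14101) (nat_lit 2053))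
)) (.node (nat_lit 0x1012505a30108) (.leaf (nat_lit 0x1012505a1412c) (nat_lit 1797))
 (.node (nat_lit 0x1012505a30125) (.leaf (nat_lit 0x1012505a30108) (nat_lit 1797))
 (.leaf (nat_lit 0x1012505a30125) (nat_lit 1541))
)))) (.node (nat_lit 0x101290021010d) (.node (nat_lit 0x1012505aa0108) (.node (nat_lit 0x1012505a8412c) (.leaf (nat_lit 0x1012505a84101) (nat_lit 1797))
 (.leaf (nat_lit 0x1012505a8412c) (nat_lit 1541))
) (.node (nat_lit 0x1012505aa0125) (.leaf (nat_lit 0x1012505aa0108) (nat_lit 1541))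
 (.node (nat_lit 0x101290021010c) (.leaf (nat_lit 0x1012505aa0125) (nat_lit 1285))
 (.leaf (nat_lit 0x101290021010c) (nat_lit 1792))
))) (.node (nat_lit 0x1012900280128) (.node (nat_lit 0x1012900214128) (.leaf (nat_lit 0x101290021010d) (nat_lit 2048))
 (.node (nat_lit 0x1012900214129) (.leaf (nat_lit 0x1012900214128) (nat_lit 1281))
 (.leaf (nat_lit 0x1012900214129) (nat_lit 1537))
)) (.node (nat_lit 0x1012900280129) (.leaf (nat_lit 0x1012900280128) (nat_lit 1536))
 (.node (nat_lit 0x101290028410c) (.leaf (nat_lit 0x1012900280129) (nat_lit 1792))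
 (.leaf (nat_lit 0x101290028410c) (nat_lit 1537))
))))) (.node (nat_lit 0x1012901a24124) (.node (nat_lit 0x1012901884101) (.node (nat_lit 0x101290181010d) (.node (nat_lit 0x1012901810101) (.leaf (nat_lit 0x101290028410d) (nat_lit 1793))
 (.leaf (nat_lit 0x1012901810101) (nat_lit 2560))
) (.node (nat_lit 0x1012901820124) (.leaf (nat_lit 0x101290181010d) (nat_lit 2304))
 (.node (nat_lit 0x1012901820128) (.leaf (nat_lit 0x1012901820124) (nat_lit 2305))
 (.leaf (nat_lit 0x1012901820128) (nat_lit 2561))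
))) (.node (nat_lit 0x10129018b4128) (.node (nat_lit 0x101290188410d) (.leaf (nat_lit 0x1012901884101) (nat_lit 2305))
 (.node (nat_lit 0x10129018b4124) (.leaf (nat_lit 0x101290188410d) (nat_lit 2049))
 (.leaf (nat_lit 0x10129018b4124) (nat_lit 2560))
)) (.node (nat_lit 0x1012901a10101) (.leaf (nat_lit 0x10129018b4128) (nat_lit 2816))
 (.node (nat_lit 0x1012901a1010c) (.leaf (nat_lit 0x1012901a10101) (nat_lit 2304))
 (.leaf (nat_lit 0x1012901a1010c) (nat_lit 2048))
)))) (.node (nat_lit 0x101290482010c) (.node (nat_lit 0x1012901a8410c) (.node (nat_lit 0x1012901a24129) (.leaf (nat_lit 0x1012901a24124) (nat_lit 2049))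
 (.node (nat_lit 0x1012901a84101) (.leaf (nat_lit 0x1012901a24129) (nat_lit 2305))
 (.leaf (nat_lit 0x1012901a84101) (nat_lit 2049))
)) (.node (nat_lit 0x1012901ab0124) (.leaf (nat_lit 0x1012901a8410c) (nat_lit 1793))
 (.node (nat_lit 0x1012901ab0129) (.leaf (nat_lit 0x1012901ab0124) (nat_lit 2304))
 (.leaf (nat_lit 0x1012901ab0129) (nat_lit 2560))
))) (.node (nat_lit 0x1012904824129) (.node (nat_lit 0x1012904820128) (.leaf (nat_lit 0x101290482010c) (nat_lit 2561))
 (.node (nat_lit 0x101290482410d) (.leaf (nat_lit 0x1012904820128) (nat_lit 2817))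
 (.leaf (nat_lit 0x101290482410d) (nat_lit 2305))
)) (.node (nat_lit 0x10129048b010d) (.leaf (nat_lit 0x1012904824129) (nat_lit 2561))
 (.node (nat_lit 0x10129048b0129) (.leaf (nat_lit 0x10129048b010d) (nat_lit 2560))
 (.leaf (nat_lit 0x10129048b0129) (nat_lit 2816))
))))))) (.node (nat_lit 0x1012d04824129) (.node (nat_lit 0x1012d00280128) (.node (nat_lit 0x1012905214128) (.node (nat_lit 0x1012905020124) (.node (nat_lit 0x1012905014101) (.node (nat_lit 0x10129048b4128) (.leaf (nat_lit 0x10129048b410c) (nat_lit 2816))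
 (.leaf (nat_lit 0x10129048b4128) (nat_lit 3072))
) (.node (nat_lit 0x1012905014129) (.leaf (nat_lit 0x1012905014101) (nat_lit 2049))
 (.node (nat_lit 0x101290502010c) (.leaf (nat_lit 0x1012905014129) (nat_lit 1793))
 (.leaf (nat_lit 0x101290502010c) (nat_lit 2305))
))) (.node (nat_lit 0x10129050b410c) (.node (nat_lit 0x1012905080101) (.leaf (nat_lit 0x1012905020124) (nat_lit 2049))
 (.node (nat_lit 0x1012905080129) (.leaf (nat_lit 0x1012905080101) (nat_lit 2304))
 (.leaf (nat_lit 0x1012905080129) (nat_lit 2048))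
)) (.node (nat_lit 0x10129050b4124) (.leaf (nat_lit 0x10129050b410c) (nat_lit 2560))
 (.node (nat_lit 0x1012905214101) (.leaf (nat_lit 0x10129050b4124) (nat_lit 2304))
 (.leaf (nat_lit 0x1012905214101) (nat_lit 1793))
)))) (.node (nat_lit 0x10129052b010d) (.node (nat_lit 0x1012905224124) (.node (nat_lit 0x101290522410d) (.leaf (nat_lit 0x1012905214128) (nat_lit 1537))
 (.leaf (nat_lit 0x101290522410d) (nat_lit 2049))
) (.node (nat_lit 0x1012905280101) (.leaf (nat_lit 0x1012905224124) (nat_lit 1793))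
 (.node (nat_lit 0x1012905280128) (.leaf (nat_lit 0x1012905280101) (nat_lit 2048))
 (.leaf (nat_lit 0x1012905280128) (nat_lit 1792))
))) (.node (nat_lit 0x1012d0021010d) (.node (nat_lit 0x10129052b0124) (.leaf (nat_lit 0x10129052b010d) (nat_lit 2304))
 (.node (nat_lit 0x1012d0021010c) (.leaf (nat_lit 0x10129052b0124) (nat_lit 2048))
 (.leaf (nat_lit 0x1012d0021010c) (nat_lit 2053))
)) (.node (nat_lit 0x1012d00214128) (.leaf (nat_lit 0x1012d0021010d) (nat_lit 2309))
 (.node (nat_lit 0x1012d00214129) (.leaf (nat_lit 0x1012d00214128) (nat_lit 1541))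
 (.leaf (nat_lit 0x1012d00214129) (nat_lit 1797))
))))) (.node (nat_lit 0x1012d018b4128) (.node (nat_lit 0x1012d0181010d) (.node (nat_lit 0x1012d0028410c) (.node (nat_lit 0x1012d00280129) (.leaf (nat_lit 0x1012d00280128) (nat_lit 1797))
 (.leaf (nat_lit 0x1012d00280129) (nat_lit 2053))
) (.node (nat_lit 0x1012d0028410d) (.leaf (nat_lit 0x1012d0028410c) (nat_lit 1797))
 (.node (nat_lit 0x1012d01810101) (.leaf (nat_lit 0x1012d0028410d) (nat_lit 2053))
 (.leaf (nat_lit 0x1012d01810101) (nat_lit 2821))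
))) (.node (nat_lit 0x1012d01884101) (.node (nat_lit 0x1012d01820124) (.leaf (nat_lit 0x1012d0181010d) (nat_lit 2565))
 (.node (nat_lit 0x1012d01820128) (.leaf (nat_lit 0x1012d01820124) (nat_lit 2565))
 (.leaf (nat_lit 0x1012d01820128) (nat_lit 2821))
)) (.node (nat_lit 0x1012d0188410d) (.leaf (nat_lit 0x1012d01884101) (nat_lit 2565))
 (.node (nat_lit 0x1012d018b4124) (.leaf (nat_lit 0x1012d0188410d) (nat_lit 2309))
 (.leaf (nat_lit 0x1012d018b4124) (nat_lit 2821))
)))) (.node (nat_lit 0x1012d01a8410c) (.node (nat_lit 0x1012d01a24124) (.node (nat_lit 0x1012d01a10101) (.leaf (nat_lit 0x1012d018b4128) (nat_lit 3077))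
 (.node (nat_lit 0x1012d01a1010c) (.leaf (nat_lit 0x1012d01a10101) (nat_lit 2565))
 (.leaf (nat_lit 0x1012d01a1010c) (nat_lit 2309))
)) (.node (nat_lit 0x1012d01a24129) (.leaf (nat_lit 0x1012d01a24124) (nat_lit 2309))
 (.node (nat_lit 0x1012d01a84101) (.leaf (nat_lit 0x1012d01a24129) (nat_lit 2565))
 (.leaf (nat_lit 0x1012d01a84101) (nat_lit 2309))
))) (.node (nat_lit 0x1012d0482010c) (.node (nat_lit 0x1012d01ab0124) (.leaf (nat_lit 0x1012d01a8410c) (nat_lit 2053))
 (.node (nat_lit 0x1012d01ab0129) (.leaf (nat_lit 0x1012d01ab0124) (nat_lit 2565))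
 (.leaf (nat_lit 0x1012d01ab0129) (nat_lit 2821))
)) (.node (nat_lit 0x1012d04820128) (.leaf (nat_lit 0x1012d0482010c) (nat_lit 2821))
 (.node (nat_lit 0x1012d0482410d) (.leaf (nat_lit 0x1012d04820128) (nat_lit 3077))
 (.leaf (nat_lit 0x1012d0482410d) (nat_lit 2565))
)))))) (.node (nat_lit 0x1014100a04125) (.node (nat_lit 0x1012d050b410c) (.node (nat_lit 0x1012d05014101) (.node (nat_lit 0x1012d048b0129) (.node (nat_lit 0x1012d048b010d) (.leaf (nat_lit 0x1012d04824129) (nat_lit 2821))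
 (.leaf (nat_lit 0x1012d048b010d) (nat_lit 2821))
) (.node (nat_lit 0x1012d048b410c) (.leaf (nat_lit 0x1012d048b0129) (nat_lit 3077))
 (.node (nat_lit 0x1012d048b4128) (.leaf (nat_lit 0x1012d048b410c) (nat_lit 3077))
 (.leaf (nat_lit 0x1012d048b4128) (nat_lit 3333))
))) (.node (nat_lit 0x1012d05020124) (.node (nat_lit 0x1012d05014129) (.leaf (nat_lit 0x1012d05014101) (nat_lit 2309))
 (.node (nat_lit 0x1012d0502010c) (.leaf (nat_lit 0x1012d05014129) (nat_lit 2053))
 (.leaf (nat_lit 0x1012d0502010c) (nat_lit 2565))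
)) (.node (nat_lit 0x1012d05080101) (.leaf (nat_lit 0x1012d05020124) (nat_lit 2309))
 (.node (nat_lit 0x1012d05080129) (.leaf (nat_lit 0x1012d05080101) (nat_lit 2565))
 (.leaf (nat_lit 0x1012d05080129) (nat_lit 2309))
)))) (.node (nat_lit 0x1012d05224124) (.node (nat_lit 0x1012d05214101) (.node (nat_lit 0x1012d050b4124) (.leaf (nat_lit 0x1012d050b410c) (nat_lit 2821))
 (.leaf (nat_lit 0x1012d050b4124) (nat_lit 2565))
) (.node (nat_lit 0x1012d05214128) (.leaf (nat_lit 0x1012d05214101) (nat_lit 2053))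
 (.node (nat_lit 0x1012d0522410d) (.leaf (nat_lit 0x1012d05214128) (nat_lit 1797))
 (.leaf (nat_lit 0x1012d0522410d) (nat_lit 2309))
))) (.node (nat_lit 0x1012d052b010d) (.node (nat_lit 0x1012d05280101) (.leaf (nat_lit 0x1012d05224124) (nat_lit 2053))
 (.node (nat_lit 0x1012d05280128) (.leaf (nat_lit 0x1012d05280101) (nat_lit 2309))
 (.leaf (nat_lit 0x1012d05280128) (nat_lit 2053))
)) (.node (nat_lit 0x1012d052b0124) (.leaf (nat_lit 0x1012d052b010d) (nat_lit 2565))
 (.node (nat_lit 0x1014100a04120) (.leaf (nat_lit 0x1012d052b0124) (nat_lit 2309))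
 (.leaf (nat_lit 0x1014100a04120) (nat_lit 1794))
))))) (.node (nat_lit 0x1014101090125) (.node (nat_lit 0x1014100ab0108) (.node (nat_lit 0x1014100a1010d) (.node (nat_lit 0x1014100a10108) (.leaf (nat_lit 0x1014100a04125) (nat_lit 2052))
 (.leaf (nat_lit 0x1014100a10108) (nat_lit 2052))
) (.node (nat_lit 0x1014100aa4120) (.leaf (nat_lit 0x1014100a1010d) (nat_lit 1795))
 (.node (nat_lit 0x1014100aa4125) (.leaf (nat_lit 0x1014100aa4120) (nat_lit 2050))
 (.leaf (nat_lit 0x1014100aa4125) (nat_lit 2308))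
))) (.node (nat_lit 0x101410101010d) (.node (nat_lit 0x1014100ab010d) (.leaf (nat_lit 0x1014100ab0108) (nat_lit 1796))
 (.node (nat_lit 0x1014101010105) (.leaf (nat_lit 0x1014100ab010d) (nat_lit 1539))
 (.leaf (nat_lit 0x1014101010105) (nat_lit 1796))
)) (.node (nat_lit 0x1014101030125) (.leaf (nat_lit 0x101410101010d) (nat_lit 1536))
 (.node (nat_lit 0x101410103012d) (.leaf (nat_lit 0x1014101030125) (nat_lit 1284))
 (.leaf (nat_lit 0x101410103012d) (nat_lit 1025))
)))) (.node (nat_lit 0x1014101a24120) (.node (nat_lit 0x10141010b010d) (.node (nat_lit 0x101410109012d) (.leaf (nat_lit 0x1014101090125) (nat_lit 1540))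
 (.node (nat_lit 0x10141010b0105) (.leaf (nat_lit 0x101410109012d) (nat_lit 1280))
 (.leaf (nat_lit 0x10141010b0105) (nat_lit 1540))
)) (.node (nat_lit 0x1014101a10105) (.leaf (nat_lit 0x10141010b010d) (nat_lit 1281))
 (.node (nat_lit 0x1014101a10108) (.leaf (nat_lit 0x1014101a10105) (nat_lit 2051))
 (.leaf (nat_lit 0x1014101a10108) (nat_lit 2307))
))) (.node (nat_lit 0x1014101a8412d) (.node (nat_lit 0x1014101a2412d) (.leaf (nat_lit 0x1014101a24120) (nat_lit 2050))
 (.node (nat_lit 0x1014101a84120) (.leaf (nat_lit 0x1014101a2412d) (nat_lit 2306))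
 (.leaf (nat_lit 0x1014101a84120) (nat_lit 2306))
)) (.node (nat_lit 0x1014101ab0105) (.leaf (nat_lit 0x1014101a8412d) (nat_lit 2562))
 (.node (nat_lit 0x1014101ab0108) (.leaf (nat_lit 0x1014101ab0105) (nat_lit 1795))
 (.leaf (nat_lit 0x1014101ab0108) (nat_lit 2051))
))))))))) (.node (nat_lit 0x1016101080121) (.node (nat_lit 0x1014901820120) (.node (nat_lit 0x1014501a8412d) (.node (nat_lit 0x1014105a90108) (.node (nat_lit 0x1014104a3012d) (.node (nat_lit 0x101410408412d) (.node (nat_lit 0x101410402410d) (.node (nat_lit 0x1014104004125) (.leaf (nat_lit 0x1014104004105) (nat_lit 2051))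
 (.leaf (nat_lit 0x1014104004125) (nat_lit 2307))
) (.node (nat_lit 0x101410402412d) (.leaf (nat_lit 0x101410402410d) (nat_lit 2306))
 (.node (nat_lit 0x101410408410d) (.leaf (nat_lit 0x101410402412d) (nat_lit 2562))
 (.leaf (nat_lit 0x101410408410d) (nat_lit 2562))
))) (.node (nat_lit 0x1014104a04105) (.node (nat_lit 0x10141040a4105) (.leaf (nat_lit 0x101410408412d) (nat_lit 2818))
 (.node (nat_lit 0x10141040a4125) (.leaf (nat_lit 0x10141040a4105) (nat_lit 2307))
 (.leaf (nat_lit 0x10141040a4125) (nat_lit 2563))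
)) (.node (nat_lit 0x1014104a04120) (.leaf (nat_lit 0x1014104a04105) (nat_lit 1796))
 (.node (nat_lit 0x1014104a30108) (.leaf (nat_lit 0x1014104a04120) (nat_lit 1538))
 (.leaf (nat_lit 0x1014104a30108) (nat_lit 1540))
)))) (.node (nat_lit 0x1014105a2410d) (.node (nat_lit 0x1014104a9012d) (.node (nat_lit 0x1014104a90108) (.leaf (nat_lit 0x1014104a3012d) (nat_lit 1283))
 (.leaf (nat_lit 0x1014104a90108) (nat_lit 1796))
) (.node (nat_lit 0x1014104aa4105) (.leaf (nat_lit 0x1014104a9012d) (nat_lit 1539))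
 (.node (nat_lit 0x1014104aa4120) (.leaf (nat_lit 0x1014104aa4105) (nat_lit 2052))
 (.leaf (nat_lit 0x1014104aa4120) (nat_lit 1794))
))) (.node (nat_lit 0x1014105a30125) (.node (nat_lit 0x1014105a24120) (.leaf (nat_lit 0x1014105a2410d) (nat_lit 2050))
 (.node (nat_lit 0x1014105a30108) (.leaf (nat_lit 0x1014105a24120) (nat_lit 1794))
 (.leaf (nat_lit 0x1014105a30108) (nat_lit 1795))
)) (.node (nat_lit 0x1014105a8410d) (.leaf (nat_lit 0x1014105a30125) (nat_lit 1539))
 (.node (nat_lit 0x1014105a84120) (.leaf (nat_lit 0x1014105a8410d) (nat_lit 2306))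
 (.leaf (nat_lit 0x1014105a84120) (nat_lit 2050))
))))) (.node (nat_lit 0x101450101010d) (.node (nat_lit 0x1014500a1010d) (.node (nat_lit 0x1014500a04120) (.node (nat_lit 0x1014105a90125) (.leaf (nat_lit 0x1014105a90108) (nat_lit 2051))
 (.leaf (nat_lit 0x1014105a90125) (nat_lit 1795))
) (.node (nat_lit 0x1014500a04125) (.leaf (nat_lit 0x1014500a04120) (nat_lit 2053))
 (.node (nat_lit 0x1014500a10108) (.leaf (nat_lit 0x1014500a04125) (nat_lit 2309))
 (.leaf (nat_lit 0x1014500a10108) (nat_lit 2309))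
))) (.node (nat_lit 0x1014500ab0108) (.node (nat_lit 0x1014500aa4120) (.leaf (nat_lit 0x1014500a1010d) (nat_lit 2053))
 (.node (nat_lit 0x1014500aa4125) (.leaf (nat_lit 0x1014500aa4120) (nat_lit 2309))
 (.leaf (nat_lit 0x1014500aa4125) (nat_lit 2565))
)) (.node (nat_lit 0x1014500ab010d) (.leaf (nat_lit 0x1014500ab0108) (nat_lit 2053))
 (.node (nat_lit 0x1014501010105) (.leaf (nat_lit 0x1014500ab010d) (nat_lit 1797))
 (.leaf (nat_lit 0x1014501010105) (nat_lit 2053))
)))) (.node (nat_lit 0x10145010b010d) (.node (nat_lit 0x1014501090125) (.node (nat_lit 0x1014501030125) (.leaf (nat_lit 0x101450101010d) (nat_lit 1797))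
 (.node (nat_lit 0x101450103012d) (.leaf (nat_lit 0x1014501030125) (nat_lit 1541))
 (.leaf (nat_lit 0x101450103012d) (nat_lit 1285))
)) (.node (nat_lit 0x101450109012d) (.leaf (nat_lit 0x1014501090125) (nat_lit 1797))
 (.node (nat_lit 0x10145010b0105) (.leaf (nat_lit 0x101450109012d) (nat_lit 1541))
 (.leaf (nat_lit 0x10145010b0105) (nat_lit 1797))
))) (.node (nat_lit 0x1014501a24120) (.node (nat_lit 0x1014501a10105) (.leaf (nat_lit 0x10145010b010d) (nat_lit 1541))
 (.node (nat_lit 0x1014501a10108) (.leaf (nat_lit 0x1014501a10105) (nat_lit 2309))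
 (.leaf (nat_lit 0x1014501a10108) (nat_lit 2565))
)) (.node (nat_lit 0x1014501a2412d) (.leaf (nat_lit 0x1014501a24120) (nat_lit 2309))
 (.node (nat_lit 0x1014501a84120) (.leaf (nat_lit 0x1014501a2412d) (nat_lit 2565))
 (.leaf (nat_lit 0x1014501a84120) (nat_lit 2565))
)))))) (.node (nat_lit 0x1014505a30125) (.node (nat_lit 0x1014504a04105) (.node (nat_lit 0x101450402410d) (.node (nat_lit 0x1014501ab0108) (.node (nat_lit 0x1014501ab0105) (.leaf (nat_lit 0x1014501a8412d) (nat_lit 2821))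
 (.leaf (nat_lit 0x1014501ab0105) (nat_lit 2053))
) (.node (nat_lit 0x1014504004105) (.leaf (nat_lit 0x1014501ab0108) (nat_lit 2309))
 (.node (nat_lit 0x1014504004125) (.leaf (nat_lit 0x1014504004105) (nat_lit 2309))
 (.leaf (nat_lit 0x1014504004125) (nat_lit 2565))
))) (.node (nat_lit 0x101450408412d) (.node (nat_lit 0x101450402412d) (.leaf (nat_lit 0x101450402410d) (nat_lit 2565))
 (.node (nat_lit 0x101450408410d) (.leaf (nat_lit 0x101450402412d) (nat_lit 2821))
 (.leaf (nat_lit 0x101450408410d) (nat_lit 2821))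
)) (.node (nat_lit 0x10145040a4105) (.leaf (nat_lit 0x101450408412d) (nat_lit 3077))
 (.node (nat_lit 0x10145040a4125) (.leaf (nat_lit 0x10145040a4105) (nat_lit 2565))
 (.leaf (nat_lit 0x10145040a4125) (nat_lit 2821))
)))) (.node (nat_lit 0x1014504a9012d) (.node (nat_lit 0x1014504a30108) (.node (nat_lit 0x1014504a04120) (.leaf (nat_lit 0x1014504a04105) (nat_lit 2053))
 (.leaf (nat_lit 0x1014504a04120) (nat_lit 1797))
) (.node (nat_lit 0x1014504a3012d) (.leaf (nat_lit 0x1014504a30108) (nat_lit 1797))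
 (.node (nat_lit 0x1014504a90108) (.leaf (nat_lit 0x1014504a3012d) (nat_lit 1541))
 (.leaf (nat_lit 0x1014504a90108) (nat_lit 2053))
))) (.node (nat_lit 0x1014505a2410d) (.node (nat_lit 0x1014504aa4105) (.leaf (nat_lit 0x1014504a9012d) (nat_lit 1797))
 (.node (nat_lit 0x1014504aa4120) (.leaf (nat_lit 0x1014504aa4105) (nat_lit 2309))
 (.leaf (nat_lit 0x1014504aa4120) (nat_lit 2053))
)) (.node (nat_lit 0x1014505a24120) (.leaf (nat_lit 0x1014505a2410d) (nat_lit 2309))
 (.node (nat_lit 0x1014505a30108) (.leaf (nat_lit 0x1014505a24120) (nat_lit 2053))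
 (.leaf (nat_lit 0x1014505a30108) (nat_lit 2053))
))))) (.node (nat_lit 0x1014900ab4109) (.node (nat_lit 0x1014900a04120) (.node (nat_lit 0x1014505a84120) (.node (nat_lit 0x1014505a8410d) (.leaf (nat_lit 0x1014505a30125) (nat_lit 1797))
 (.leaf (nat_lit 0x1014505a8410d) (nat_lit 2565))
) (.node (nat_lit 0x1014505a90108) (.leaf (nat_lit 0x1014505a84120) (nat_lit 2309))
 (.node (nat_lit 0x1014505a90125) (.leaf (nat_lit 0x1014505a90108) (nat_lit 2309))
 (.leaf (nat_lit 0x1014505a90125) (nat_lit 2053))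
))) (.node (nat_lit 0x1014900a1010c) (.node (nat_lit 0x1014900a04125) (.leaf (nat_lit 0x1014900a04120) (nat_lit 2049))
 (.node (nat_lit 0x1014900a10109) (.leaf (nat_lit 0x1014900a04125) (nat_lit 2308))
 (.leaf (nat_lit 0x1014900a10109) (nat_lit 2308))
)) (.node (nat_lit 0x1014900aa0120) (.leaf (nat_lit 0x1014900a1010c) (nat_lit 2048))
 (.node (nat_lit 0x1014900aa0125) (.leaf (nat_lit 0x1014900aa0120) (nat_lit 2304))
 (.leaf (nat_lit 0x1014900aa0125) (nat_lit 2564))
)))) (.node (nat_lit 0x1014901290125) (.node (nat_lit 0x101490121010c) (.node (nat_lit 0x1014900ab410c) (.leaf (nat_lit 0x1014900ab4109) (nat_lit 2052))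
 (.node (nat_lit 0x1014901210105) (.leaf (nat_lit 0x1014900ab410c) (nat_lit 1793))
 (.leaf (nat_lit 0x1014901210105) (nat_lit 2052))
)) (.node (nat_lit 0x1014901234125) (.leaf (nat_lit 0x101490121010c) (nat_lit 1792))
 (.node (nat_lit 0x101490123412c) (.leaf (nat_lit 0x1014901234125) (nat_lit 1540))
 (.leaf (nat_lit 0x101490123412c) (nat_lit 1281))
))) (.node (nat_lit 0x10149012b410c) (.node (nat_lit 0x101490129012c) (.leaf (nat_lit 0x1014901290125) (nat_lit 1796))
 (.node (nat_lit 0x10149012b4105) (.leaf (nat_lit 0x101490129012c) (nat_lit 1536))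
 (.leaf (nat_lit 0x10149012b4105) (nat_lit 1796))
)) (.node (nat_lit 0x1014901810105) (.leaf (nat_lit 0x10149012b410c) (nat_lit 1537))
 (.node (nat_lit 0x1014901810109) (.leaf (nat_lit 0x1014901810105) (nat_lit 2307))
 (.leaf (nat_lit 0x1014901810109) (nat_lit 2563))
))))))) (.node (nat_lit 0x1014d012b410c) (.node (nat_lit 0x101490582010c) (.node (nat_lit 0x101490408412c) (.node (nat_lit 0x10149018b4109) (.node (nat_lit 0x1014901884120) (.node (nat_lit 0x101490182012c) (.leaf (nat_lit 0x1014901820120) (nat_lit 2306))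
 (.leaf (nat_lit 0x101490182012c) (nat_lit 2562))
) (.node (nat_lit 0x101490188412c) (.leaf (nat_lit 0x1014901884120) (nat_lit 2562))
 (.node (nat_lit 0x10149018b4105) (.leaf (nat_lit 0x101490188412c) (nat_lit 2818))
 (.leaf (nat_lit 0x10149018b4105) (nat_lit 2051))
))) (.node (nat_lit 0x101490402010c) (.node (nat_lit 0x1014904004105) (.leaf (nat_lit 0x10149018b4109) (nat_lit 2307))
 (.node (nat_lit 0x1014904004125) (.leaf (nat_lit 0x1014904004105) (nat_lit 2307))
 (.leaf (nat_lit 0x1014904004125) (nat_lit 2563))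
)) (.node (nat_lit 0x101490402012c) (.leaf (nat_lit 0x101490402010c) (nat_lit 2562))
 (.node (nat_lit 0x101490408410c) (.leaf (nat_lit 0x101490402012c) (nat_lit 2818))
 (.leaf (nat_lit 0x101490408410c) (nat_lit 2818))
)))) (.node (nat_lit 0x1014904a34109) (.node (nat_lit 0x10149040a0125) (.node (nat_lit 0x10149040a0105) (.leaf (nat_lit 0x101490408412c) (nat_lit 3074))
 (.leaf (nat_lit 0x10149040a0105) (nat_lit 2563))
) (.node (nat_lit 0x1014904a04105) (.leaf (nat_lit 0x10149040a0125) (nat_lit 2819))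
 (.node (nat_lit 0x1014904a04120) (.leaf (nat_lit 0x1014904a04105) (nat_lit 2052))
 (.leaf (nat_lit 0x1014904a04120) (nat_lit 1793))
))) (.node (nat_lit 0x1014904a9012c) (.node (nat_lit 0x1014904a3412c) (.leaf (nat_lit 0x1014904a34109) (nat_lit 1796))
 (.node (nat_lit 0x1014904a90109) (.leaf (nat_lit 0x1014904a3412c) (nat_lit 1537))
 (.leaf (nat_lit 0x1014904a90109) (nat_lit 2052))
)) (.node (nat_lit 0x1014904aa0105) (.leaf (nat_lit 0x1014904a9012c) (nat_lit 1792))
 (.node (nat_lit 0x1014904aa0120) (.leaf (nat_lit 0x1014904aa0105) (nat_lit 2308))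
 (.leaf (nat_lit 0x1014904aa0120) (nat_lit 2048))
))))) (.node (nat_lit 0x1014d00a1010c) (.node (nat_lit 0x1014905884120) (.node (nat_lit 0x1014905834109) (.node (nat_lit 0x1014905820120) (.leaf (nat_lit 0x101490582010c) (nat_lit 2306))
 (.leaf (nat_lit 0x1014905820120) (nat_lit 2050))
) (.node (nat_lit 0x1014905834125) (.leaf (nat_lit 0x1014905834109) (nat_lit 2051))
 (.node (nat_lit 0x101490588410c) (.leaf (nat_lit 0x1014905834125) (nat_lit 1795))
 (.leaf (nat_lit 0x101490588410c) (nat_lit 2562))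
))) (.node (nat_lit 0x1014d00a04120) (.node (nat_lit 0x1014905890109) (.leaf (nat_lit 0x1014905884120) (nat_lit 2306))
 (.node (nat_lit 0x1014905890125) (.leaf (nat_lit 0x1014905890109) (nat_lit 2307))
 (.leaf (nat_lit 0x1014905890125) (nat_lit 2051))
)) (.node (nat_lit 0x1014d00a04125) (.leaf (nat_lit 0x1014d00a04120) (nat_lit 2309))
 (.node (nat_lit 0x1014d00a10109) (.leaf (nat_lit 0x1014d00a04125) (nat_lit 2565))
 (.leaf (nat_lit 0x1014d00a10109) (nat_lit 2565))
)))) (.node (nat_lit 0x1014d0121010c) (.node (nat_lit 0x1014d00ab4109) (.node (nat_lit 0x1014d00aa0120) (.leaf (nat_lit 0x1014d00a1010c) (nat_lit 2309))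
 (.node (nat_lit 0x1014d00aa0125) (.leaf (nat_lit 0x1014d00aa0120) (nat_lit 2565))
 (.leaf (nat_lit 0x1014d00aa0125) (nat_lit 2821))
)) (.node (nat_lit 0x1014d00ab410c) (.leaf (nat_lit 0x1014d00ab4109) (nat_lit 2309))
 (.node (nat_lit 0x1014d01210105) (.leaf (nat_lit 0x1014d00ab410c) (nat_lit 2053))
 (.leaf (nat_lit 0x1014d01210105) (nat_lit 2309))
))) (.node (nat_lit 0x1014d01290125) (.node (nat_lit 0x1014d01234125) (.leaf (nat_lit 0x1014d0121010c) (nat_lit 2053))
 (.node (nat_lit 0x1014d0123412c) (.leaf (nat_lit 0x1014d01234125) (nat_lit 1797))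
 (.leaf (nat_lit 0x1014d0123412c) (nat_lit 1541))
)) (.node (nat_lit 0x1014d0129012c) (.leaf (nat_lit 0x1014d01290125) (nat_lit 2053))
 (.node (nat_lit 0x1014d012b4105) (.leaf (nat_lit 0x1014d0129012c) (nat_lit 1797))
 (.leaf (nat_lit 0x1014d012b4105) (nat_lit 2053))
)))))) (.node (nat_lit 0x1014d04a9012c) (.node (nat_lit 0x1014d0402010c) (.node (nat_lit 0x1014d01884120) (.node (nat_lit 0x1014d01810109) (.node (nat_lit 0x1014d01810105) (.leaf (nat_lit 0x1014d012b410c) (nat_lit 1797))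
 (.leaf (nat_lit 0x1014d01810105) (nat_lit 2565))
) (.node (nat_lit 0x1014d01820120) (.leaf (nat_lit 0x1014d01810109) (nat_lit 2821))
 (.node (nat_lit 0x1014d0182012c) (.leaf (nat_lit 0x1014d01820120) (nat_lit 2565))
 (.leaf (nat_lit 0x1014d0182012c) (nat_lit 2821))
))) (.node (nat_lit 0x1014d018b4109) (.node (nat_lit 0x1014d0188412c) (.leaf (nat_lit 0x1014d01884120) (nat_lit 2821))
 (.node (nat_lit 0x1014d018b4105) (.leaf (nat_lit 0x1014d0188412c) (nat_lit 3077))
 (.leaf (nat_lit 0x1014d018b4105) (nat_lit 2309))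
)) (.node (nat_lit 0x1014d04004105) (.leaf (nat_lit 0x1014d018b4109) (nat_lit 2565))
 (.node (nat_lit 0x1014d04004125) (.leaf (nat_lit 0x1014d04004105) (nat_lit 2565))
 (.leaf (nat_lit 0x1014d04004125) (nat_lit 2821))
)))) (.node (nat_lit 0x1014d040a0125) (.node (nat_lit 0x1014d0408410c) (.node (nat_lit 0x1014d0402012c) (.leaf (nat_lit 0x1014d0402010c) (nat_lit 2821))
 (.leaf (nat_lit 0x1014d0402012c) (nat_lit 3077))
) (.node (nat_lit 0x1014d0408412c) (.leaf (nat_lit 0x1014d0408410c) (nat_lit 3077))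
 (.node (nat_lit 0x1014d040a0105) (.leaf (nat_lit 0x1014d0408412c) (nat_lit 3333))
 (.leaf (nat_lit 0x1014d040a0105) (nat_lit 2821))
))) (.node (nat_lit 0x1014d04a34109) (.node (nat_lit 0x1014d04a04105) (.leaf (nat_lit 0x1014d040a0125) (nat_lit 3077))
 (.node (nat_lit 0x1014d04a04120) (.leaf (nat_lit 0x1014d04a04105) (nat_lit 2309))
 (.leaf (nat_lit 0x1014d04a04120) (nat_lit 2053))
)) (.node (nat_lit 0x1014d04a3412c) (.leaf (nat_lit 0x1014d04a34109) (nat_lit 2053))
 (.node (nat_lit 0x1014d04a90109) (.leaf (nat_lit 0x1014d04a3412c) (nat_lit 1797))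
 (.leaf (nat_lit 0x1014d04a90109) (nat_lit 2309))
))))) (.node (nat_lit 0x1016100a04121) (.node (nat_lit 0x1014d05834109) (.node (nat_lit 0x1014d04aa0120) (.node (nat_lit 0x1014d04aa0105) (.leaf (nat_lit 0x1014d04a9012c) (nat_lit 2053))
 (.leaf (nat_lit 0x1014d04aa0105) (nat_lit 2565))
) (.node (nat_lit 0x1014d0582010c) (.leaf (nat_lit 0x1014d04aa0120) (nat_lit 2309))
 (.node (nat_lit 0x1014d05820120) (.leaf (nat_lit 0x1014d0582010c) (nat_lit 2565))
 (.leaf (nat_lit 0x1014d05820120) (nat_lit 2309))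
))) (.node (nat_lit 0x1014d05884120) (.node (nat_lit 0x1014d05834125) (.leaf (nat_lit 0x1014d05834109) (nat_lit 2309))
 (.node (nat_lit 0x1014d0588410c) (.leaf (nat_lit 0x1014d05834125) (nat_lit 2053))
 (.leaf (nat_lit 0x1014d0588410c) (nat_lit 2821))
)) (.node (nat_lit 0x1014d05890109) (.leaf (nat_lit 0x1014d05884120) (nat_lit 2565))
 (.node (nat_lit 0x1014d05890125) (.leaf (nat_lit 0x1014d05890109) (nat_lit 2565))
 (.leaf (nat_lit 0x1014d05890125) (nat_lit 2309))
)))) (.node (nat_lit 0x1016100ab4121) (.node (nat_lit 0x1016100a1010d) (.node (nat_lit 0x1016100a04124) (.leaf (nat_lit 0x1016100a04121) (nat_lit 1796))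
 (.node (nat_lit 0x1016100a10108) (.leaf (nat_lit 0x1016100a04124) (nat_lit 1538))
 (.leaf (nat_lit 0x1016100a10108) (nat_lit 1796))
)) (.node (nat_lit 0x1016100aa0108) (.leaf (nat_lit 0x1016100a1010d) (nat_lit 1539))
 (.node (nat_lit 0x1016100aa010d) (.leaf (nat_lit 0x1016100aa0108) (nat_lit 1540))
 (.leaf (nat_lit 0x1016100aa010d) (nat_lit 1283))
))) (.node (nat_lit 0x101610101010d) (.node (nat_lit 0x1016100ab4124) (.leaf (nat_lit 0x1016100ab4121) (nat_lit 2052))
 (.node (nat_lit 0x1016101010105) (.leaf (nat_lit 0x1016100ab4124) (nat_lit 1794))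
 (.leaf (nat_lit 0x1016101010105) (nat_lit 1540))
)) (.node (nat_lit 0x1016101030121) (.leaf (nat_lit 0x101610101010d) (nat_lit 1280))
 (.node (nat_lit 0x1016101030129) (.leaf (nat_lit 0x1016101030121) (nat_lit 1028))
 (.leaf (nat_lit 0x1016101030129) (nat_lit 769))
)))))))) (.node (nat_lit 0x1016900ab0121) (.node (nat_lit 0x101650101010d) (.node (nat_lit 0x101610482410d) (.node (nat_lit 0x1016101aa0108) (.node (nat_lit 0x1016101a10108) (.node (nat_lit 0x10161010a0105) (.node (nat_lit 0x1016101080129) (.leaf (nat_lit 0x1016101080121) (nat_lit 1284))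
 (.leaf (nat_lit 0x1016101080129) (nat_lit 1024))
) (.node (nat_lit 0x10161010a010d) (.leaf (nat_lit 0x10161010a0105) (nat_lit 1284))
 (.node (nat_lit 0x1016101a10105) (.leaf (nat_lit 0x10161010a010d) (nat_lit 1025))
 (.leaf (nat_lit 0x1016101a10105) (nat_lit 1795))
))) (.node (nat_lit 0x1016101a94124) (.node (nat_lit 0x1016101a24124) (.leaf (nat_lit 0x1016101a10108) (nat_lit 2051))
 (.node (nat_lit 0x1016101a24129) (.leaf (nat_lit 0x1016101a24124) (nat_lit 1794))
 (.leaf (nat_lit 0x1016101a24129) (nat_lit 2050))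
)) (.node (nat_lit 0x1016101a94129) (.leaf (nat_lit 0x1016101a94124) (nat_lit 2050))
 (.node (nat_lit 0x1016101aa0105) (.leaf (nat_lit 0x1016101a94129) (nat_lit 2306))
 (.leaf (nat_lit 0x1016101aa0105) (nat_lit 1539))
)))) (.node (nat_lit 0x1016104280108) (.node (nat_lit 0x1016104204124) (.node (nat_lit 0x1016104204105) (.leaf (nat_lit 0x1016101aa0108) (nat_lit 1795))
 (.leaf (nat_lit 0x1016104204105) (nat_lit 1540))
) (.node (nat_lit 0x1016104230108) (.leaf (nat_lit 0x1016104204124) (nat_lit 1282))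
 (.node (nat_lit 0x1016104230129) (.leaf (nat_lit 0x1016104230108) (nat_lit 1284))
 (.leaf (nat_lit 0x1016104230129) (nat_lit 1027))
))) (.node (nat_lit 0x10161042b4124) (.node (nat_lit 0x1016104280129) (.leaf (nat_lit 0x1016104280108) (nat_lit 1540))
 (.node (nat_lit 0x10161042b4105) (.leaf (nat_lit 0x1016104280129) (nat_lit 1283))
 (.leaf (nat_lit 0x10161042b4105) (nat_lit 1796))
)) (.node (nat_lit 0x1016104804105) (.leaf (nat_lit 0x10161042b4124) (nat_lit 1538))
 (.node (nat_lit 0x1016104804121) (.leaf (nat_lit 0x1016104804105) (nat_lit 1795))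
 (.leaf (nat_lit 0x1016104804121) (nat_lit 2051))
))))) (.node (nat_lit 0x1016105280121) (.node (nat_lit 0x10161048b4121) (.node (nat_lit 0x101610489410d) (.node (nat_lit 0x1016104824129) (.leaf (nat_lit 0x101610482410d) (nat_lit 2050))
 (.leaf (nat_lit 0x1016104824129) (nat_lit 2306))
) (.node (nat_lit 0x1016104894129) (.leaf (nat_lit 0x101610489410d) (nat_lit 2306))
 (.node (nat_lit 0x10161048b4105) (.leaf (nat_lit 0x1016104894129) (nat_lit 2562))
 (.leaf (nat_lit 0x10161048b4105) (nat_lit 2051))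
))) (.node (nat_lit 0x1016105230108) (.node (nat_lit 0x101610522410d) (.leaf (nat_lit 0x10161048b4121) (nat_lit 2307))
 (.node (nat_lit 0x1016105224124) (.leaf (nat_lit 0x101610522410d) (nat_lit 1794))
 (.leaf (nat_lit 0x1016105224124) (nat_lit 1538))
)) (.node (nat_lit 0x1016105230121) (.leaf (nat_lit 0x1016105230108) (nat_lit 1539))
 (.node (nat_lit 0x1016105280108) (.leaf (nat_lit 0x1016105230121) (nat_lit 1283))
 (.leaf (nat_lit 0x1016105280108) (nat_lit 1795))
)))) (.node (nat_lit 0x1016500a1010d) (.node (nat_lit 0x1016500a04121) (.node (nat_lit 0x101610529410d) (.leaf (nat_lit 0x1016105280121) (nat_lit 1539))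
 (.node (nat_lit 0x1016105294124) (.leaf (nat_lit 0x101610529410d) (nat_lit 2050))
 (.leaf (nat_lit 0x1016105294124) (nat_lit 1794))
)) (.node (nat_lit 0x1016500a04124) (.leaf (nat_lit 0x1016500a04121) (nat_lit 2053))
 (.node (nat_lit 0x1016500a10108) (.leaf (nat_lit 0x1016500a04124) (nat_lit 1797))
 (.leaf (nat_lit 0x1016500a10108) (nat_lit 2053))
))) (.node (nat_lit 0x1016500ab4121) (.node (nat_lit 0x1016500aa0108) (.leaf (nat_lit 0x1016500a1010d) (nat_lit 1797))
 (.node (nat_lit 0x1016500aa010d) (.leaf (nat_lit 0x1016500aa0108) (nat_lit 1797))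
 (.leaf (nat_lit 0x1016500aa010d) (nat_lit 1541))
)) (.node (nat_lit 0x1016500ab4124) (.leaf (nat_lit 0x1016500ab4121) (nat_lit 2309))
 (.node (nat_lit 0x1016501010105) (.leaf (nat_lit 0x1016500ab4124) (nat_lit 2053))
 (.leaf (nat_lit 0x1016501010105) (nat_lit 1797))
)))))) (.node (nat_lit 0x10165042b4124) (.node (nat_lit 0x1016501a94124) (.node (nat_lit 0x10165010a0105) (.node (nat_lit 0x1016501030129) (.node (nat_lit 0x1016501030121) (.leaf (nat_lit 0x101650101010d) (nat_lit 1541))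
 (.leaf (nat_lit 0x1016501030121) (nat_lit 1285))
) (.node (nat_lit 0x1016501080121) (.leaf (nat_lit 0x1016501030129) (nat_lit 1029))
 (.node (nat_lit 0x1016501080129) (.leaf (nat_lit 0x1016501080121) (nat_lit 1541))
 (.leaf (nat_lit 0x1016501080129) (nat_lit 1285))
))) (.node (nat_lit 0x1016501a10108) (.node (nat_lit 0x10165010a010d) (.leaf (nat_lit 0x10165010a0105) (nat_lit 1541))
 (.node (nat_lit 0x1016501a10105) (.leaf (nat_lit 0x10165010a010d) (nat_lit 1285))
 (.leaf (nat_lit 0x1016501a10105) (nat_lit 2053))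
)) (.node (nat_lit 0x1016501a24124) (.leaf (nat_lit 0x1016501a10108) (nat_lit 2309))
 (.node (nat_lit 0x1016501a24129) (.leaf (nat_lit 0x1016501a24124) (nat_lit 2053))
 (.leaf (nat_lit 0x1016501a24129) (nat_lit 2309))
)))) (.node (nat_lit 0x1016504204124) (.node (nat_lit 0x1016501aa0105) (.node (nat_lit 0x1016501a94129) (.leaf (nat_lit 0x1016501a94124) (nat_lit 2309))
 (.leaf (nat_lit 0x1016501a94129) (nat_lit 2565))
) (.node (nat_lit 0x1016501aa0108) (.leaf (nat_lit 0x1016501aa0105) (nat_lit 1797))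
 (.node (nat_lit 0x1016504204105) (.leaf (nat_lit 0x1016501aa0108) (nat_lit 2053))
 (.leaf (nat_lit 0x1016504204105) (nat_lit 1797))
))) (.node (nat_lit 0x1016504280108) (.node (nat_lit 0x1016504230108) (.leaf (nat_lit 0x1016504204124) (nat_lit 1541))
 (.node (nat_lit 0x1016504230129) (.leaf (nat_lit 0x1016504230108) (nat_lit 1541))
 (.leaf (nat_lit 0x1016504230129) (nat_lit 1285))
)) (.node (nat_lit 0x1016504280129) (.leaf (nat_lit 0x1016504280108) (nat_lit 1797))
 (.node (nat_lit 0x10165042b4105) (.leaf (nat_lit 0x1016504280129) (nat_lit 1541))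
 (.leaf (nat_lit 0x10165042b4105) (nat_lit 2053))
))))) (.node (nat_lit 0x1016505230108) (.node (nat_lit 0x101650489410d) (.node (nat_lit 0x1016504804121) (.node (nat_lit 0x1016504804105) (.leaf (nat_lit 0x10165042b4124) (nat_lit 1797))
 (.leaf (nat_lit 0x1016504804105) (nat_lit 2053))
) (.node (nat_lit 0x101650482410d) (.leaf (nat_lit 0x1016504804121) (nat_lit 2309))
 (.node (nat_lit 0x1016504824129) (.leaf (nat_lit 0x101650482410d) (nat_lit 2309))
 (.leaf (nat_lit 0x1016504824129) (nat_lit 2565))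
))) (.node (nat_lit 0x10165048b4121) (.node (nat_lit 0x1016504894129) (.leaf (nat_lit 0x101650489410d) (nat_lit 2565))
 (.node (nat_lit 0x10165048b4105) (.leaf (nat_lit 0x1016504894129) (nat_lit 2821))
 (.leaf (nat_lit 0x10165048b4105) (nat_lit 2309))
)) (.node (nat_lit 0x101650522410d) (.leaf (nat_lit 0x10165048b4121) (nat_lit 2565))
 (.node (nat_lit 0x1016505224124) (.leaf (nat_lit 0x101650522410d) (nat_lit 2053))
 (.leaf (nat_lit 0x1016505224124) (nat_lit 1797))
)))) (.node (nat_lit 0x1016900a04121) (.node (nat_lit 0x1016505280121) (.node (nat_lit 0x1016505230121) (.leaf (nat_lit 0x1016505230108) (nat_lit 1797))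
 (.node (nat_lit 0x1016505280108) (.leaf (nat_lit 0x1016505230121) (nat_lit 1541))
 (.leaf (nat_lit 0x1016505280108) (nat_lit 2053))
)) (.node (nat_lit 0x101650529410d) (.leaf (nat_lit 0x1016505280121) (nat_lit 1797))
 (.node (nat_lit 0x1016505294124) (.leaf (nat_lit 0x101650529410d) (nat_lit 2309))
 (.leaf (nat_lit 0x1016505294124) (nat_lit 2053))
))) (.node (nat_lit 0x1016900a1010c) (.node (nat_lit 0x1016900a04124) (.leaf (nat_lit 0x1016900a04121) (nat_lit 2052))
 (.node (nat_lit 0x1016900a10109) (.leaf (nat_lit 0x1016900a04124) (nat_lit 1793))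
 (.leaf (nat_lit 0x1016900a10109) (nat_lit 2052))
)) (.node (nat_lit 0x1016900aa4109) (.leaf (nat_lit 0x1016900a1010c) (nat_lit 1792))
 (.node (nat_lit 0x1016900aa410c) (.leaf (nat_lit 0x1016900aa4109) (nat_lit 1796))
 (.leaf (nat_lit 0x1016900aa410c) (nat_lit 1537))
))))))) (.node (nat_lit 0x1016d00a1010c) (.node (nat_lit 0x1016904280109) (.node (nat_lit 0x1016901810109) (.node (nat_lit 0x1016901234128) (.node (nat_lit 0x1016901210105) (.node (nat_lit 0x1016900ab0124) (.leaf (nat_lit 0x1016900ab0121) (nat_lit 2308))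
 (.leaf (nat_lit 0x1016900ab0124) (nat_lit 2048))
) (.node (nat_lit 0x101690121010c) (.leaf (nat_lit 0x1016901210105) (nat_lit 1796))
 (.node (nat_lit 0x1016901234121) (.leaf (nat_lit 0x101690121010c) (nat_lit 1536))
 (.leaf (nat_lit 0x1016901234121) (nat_lit 1284))
))) (.node (nat_lit 0x10169012a4105) (.node (nat_lit 0x1016901280121) (.leaf (nat_lit 0x1016901234128) (nat_lit 1025))
 (.node (nat_lit 0x1016901280128) (.leaf (nat_lit 0x1016901280121) (nat_lit 1540))
 (.leaf (nat_lit 0x1016901280128) (nat_lit 1280))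
)) (.node (nat_lit 0x10169012a410c) (.leaf (nat_lit 0x10169012a4105) (nat_lit 1540))
 (.node (nat_lit 0x1016901810105) (.leaf (nat_lit 0x10169012a410c) (nat_lit 1281))
 (.leaf (nat_lit 0x1016901810105) (nat_lit 2051))
)))) (.node (nat_lit 0x10169018a4105) (.node (nat_lit 0x1016901820128) (.node (nat_lit 0x1016901820124) (.leaf (nat_lit 0x1016901810109) (nat_lit 2307))
 (.leaf (nat_lit 0x1016901820124) (nat_lit 2050))
) (.node (nat_lit 0x1016901894124) (.leaf (nat_lit 0x1016901820128) (nat_lit 2306))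
 (.node (nat_lit 0x1016901894128) (.leaf (nat_lit 0x1016901894124) (nat_lit 2306))
 (.leaf (nat_lit 0x1016901894128) (nat_lit 2562))
))) (.node (nat_lit 0x1016904204124) (.node (nat_lit 0x10169018a4109) (.leaf (nat_lit 0x10169018a4105) (nat_lit 1795))
 (.node (nat_lit 0x1016904204105) (.leaf (nat_lit 0x10169018a4109) (nat_lit 2051))
 (.leaf (nat_lit 0x1016904204105) (nat_lit 1796))
)) (.node (nat_lit 0x1016904234109) (.leaf (nat_lit 0x1016904204124) (nat_lit 1537))
 (.node (nat_lit 0x1016904234128) (.leaf (nat_lit 0x1016904234109) (nat_lit 1540))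
 (.leaf (nat_lit 0x1016904234128) (nat_lit 1281))
))))) (.node (nat_lit 0x10169048b0121) (.node (nat_lit 0x1016904804121) (.node (nat_lit 0x10169042b0105) (.node (nat_lit 0x1016904280128) (.leaf (nat_lit 0x1016904280109) (nat_lit 1796))
 (.leaf (nat_lit 0x1016904280128) (nat_lit 1536))
) (.node (nat_lit 0x10169042b0124) (.leaf (nat_lit 0x10169042b0105) (nat_lit 2052))
 (.node (nat_lit 0x1016904804105) (.leaf (nat_lit 0x10169042b0124) (nat_lit 1792))
 (.leaf (nat_lit 0x1016904804105) (nat_lit 2051))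
))) (.node (nat_lit 0x101690489410c) (.node (nat_lit 0x101690482010c) (.leaf (nat_lit 0x1016904804121) (nat_lit 2307))
 (.node (nat_lit 0x1016904820128) (.leaf (nat_lit 0x101690482010c) (nat_lit 2306))
 (.leaf (nat_lit 0x1016904820128) (nat_lit 2562))
)) (.node (nat_lit 0x1016904894128) (.leaf (nat_lit 0x101690489410c) (nat_lit 2562))
 (.node (nat_lit 0x10169048b0105) (.leaf (nat_lit 0x1016904894128) (nat_lit 2818))
 (.leaf (nat_lit 0x10169048b0105) (nat_lit 2307))
)))) (.node (nat_lit 0x1016905080121) (.node (nat_lit 0x1016905034109) (.node (nat_lit 0x101690502010c) (.leaf (nat_lit 0x10169048b0121) (nat_lit 2563))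
 (.node (nat_lit 0x1016905020124) (.leaf (nat_lit 0x101690502010c) (nat_lit 2050))
 (.leaf (nat_lit 0x1016905020124) (nat_lit 1794))
)) (.node (nat_lit 0x1016905034121) (.leaf (nat_lit 0x1016905034109) (nat_lit 1795))
 (.node (nat_lit 0x1016905080109) (.leaf (nat_lit 0x1016905034121) (nat_lit 1539))
 (.leaf (nat_lit 0x1016905080109) (nat_lit 2051))
))) (.node (nat_lit 0x1016d00a04121) (.node (nat_lit 0x101690509410c) (.leaf (nat_lit 0x1016905080121) (nat_lit 1795))
 (.node (nat_lit 0x1016905094124) (.leaf (nat_lit 0x101690509410c) (nat_lit 2306))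
 (.leaf (nat_lit 0x1016905094124) (nat_lit 2050))
)) (.node (nat_lit 0x1016d00a04124) (.leaf (nat_lit 0x1016d00a04121) (nat_lit 2309))
 (.node (nat_lit 0x1016d00a10109) (.leaf (nat_lit 0x1016d00a04124) (nat_lit 2053))
 (.leaf (nat_lit 0x1016d00a10109) (nat_lit 2309))
)))))) (.node (nat_lit 0x1016d04204124) (.node (nat_lit 0x1016d012a4105) (.node (nat_lit 0x1016d01210105) (.node (nat_lit 0x1016d00aa410c) (.node (nat_lit 0x1016d00aa4109) (.leaf (nat_lit 0x1016d00a1010c) (nat_lit 2053))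
 (.leaf (nat_lit 0x1016d00aa4109) (nat_lit 2053))
) (.node (nat_lit 0x1016d00ab0121) (.leaf (nat_lit 0x1016d00aa410c) (nat_lit 1797))
 (.node (nat_lit 0x1016d00ab0124) (.leaf (nat_lit 0x1016d00ab0121) (nat_lit 2565))
 (.leaf (nat_lit 0x1016d00ab0124) (nat_lit 2309))
))) (.node (nat_lit 0x1016d01234128) (.node (nat_lit 0x1016d0121010c) (.leaf (nat_lit 0x1016d01210105) (nat_lit 2053))
 (.node (nat_lit 0x1016d01234121) (.leaf (nat_lit 0x1016d0121010c) (nat_lit 1797))
 (.leaf (nat_lit 0x1016d01234121) (nat_lit 1541))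
)) (.node (nat_lit 0x1016d01280121) (.leaf (nat_lit 0x1016d01234128) (nat_lit 1285))
 (.node (nat_lit 0x1016d01280128) (.leaf (nat_lit 0x1016d01280121) (nat_lit 1797))
 (.leaf (nat_lit 0x1016d01280128) (nat_lit 1541))
)))) (.node (nat_lit 0x1016d01820128) (.node (nat_lit 0x1016d01810105) (.node (nat_lit 0x1016d012a410c) (.leaf (nat_lit 0x1016d012a4105) (nat_lit 1797))
 (.leaf (nat_lit 0x1016d012a410c) (nat_lit 1541))
) (.node (nat_lit 0x1016d01810109) (.leaf (nat_lit 0x1016d01810105) (nat_lit 2309))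
 (.node (nat_lit 0x1016d01820124) (.leaf (nat_lit 0x1016d01810109) (nat_lit 2565))
 (.leaf (nat_lit 0x1016d01820124) (nat_lit 2309))
))) (.node (nat_lit 0x1016d018a4105) (.node (nat_lit 0x1016d01894124) (.leaf (nat_lit 0x1016d01820128) (nat_lit 2565))
 (.node (nat_lit 0x1016d01894128) (.leaf (nat_lit 0x1016d01894124) (nat_lit 2565))
 (.leaf (nat_lit 0x1016d01894128) (nat_lit 2821))
)) (.node (nat_lit 0x1016d018a4109) (.leaf (nat_lit 0x1016d018a4105) (nat_lit 2053))
 (.node (nat_lit 0x1016d04204105) (.leaf (nat_lit 0x1016d018a4109) (nat_lit 2309))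
 (.leaf (nat_lit 0x1016d04204105) (nat_lit 2053))
))))) (.node (nat_lit 0x1016d0489410c) (.node (nat_lit 0x1016d042b0105) (.node (nat_lit 0x1016d04234128) (.node (nat_lit 0x1016d04234109) (.leaf (nat_lit 0x1016d04204124) (nat_lit 1797))
 (.leaf (nat_lit 0x1016d04234109) (nat_lit 1797))
) (.node (nat_lit 0x1016d04280109) (.leaf (nat_lit 0x1016d04234128) (nat_lit 1541))
 (.node (nat_lit 0x1016d04280128) (.leaf (nat_lit 0x1016d04280109) (nat_lit 2053))
 (.leaf (nat_lit 0x1016d04280128) (nat_lit 1797))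
))) (.node (nat_lit 0x1016d04804121) (.node (nat_lit 0x1016d042b0124) (.leaf (nat_lit 0x1016d042b0105) (nat_lit 2309))
 (.node (nat_lit 0x1016d04804105) (.leaf (nat_lit 0x1016d042b0124) (nat_lit 2053))
 (.leaf (nat_lit 0x1016d04804105) (nat_lit 2309))
)) (.node (nat_lit 0x1016d0482010c) (.leaf (nat_lit 0x1016d04804121) (nat_lit 2565))
 (.node (nat_lit 0x1016d04820128) (.leaf (nat_lit 0x1016d0482010c) (nat_lit 2565))
 (.leaf (nat_lit 0x1016d04820128) (nat_lit 2821))
)))) (.node (nat_lit 0x1016d05034109) (.node (nat_lit 0x1016d048b0121) (.node (nat_lit 0x1016d04894128) (.leaf (nat_lit 0x1016d0489410c) (nat_lit 2821))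
 (.node (nat_lit 0x1016d048b0105) (.leaf (nat_lit 0x1016d04894128) (nat_lit 3077))
 (.leaf (nat_lit 0x1016d048b0105) (nat_lit 2565))
)) (.node (nat_lit 0x1016d0502010c) (.leaf (nat_lit 0x1016d048b0121) (nat_lit 2821))
 (.node (nat_lit 0x1016d05020124) (.leaf (nat_lit 0x1016d0502010c) (nat_lit 2309))
 (.leaf (nat_lit 0x1016d05020124) (nat_lit 2053))
))) (.node (nat_lit 0x1016d05080121) (.node (nat_lit 0x1016d05034121) (.leaf (nat_lit 0x1016d05034109) (nat_lit 2053))
 (.node (nat_lit 0x1016d05080109) (.leaf (nat_lit 0x1016d05034121) (nat_lit 1797))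
 (.leaf (nat_lit 0x1016d05080109) (nat_lit 2309))
)) (.node (nat_lit 0x1016d0509410c) (.leaf (nat_lit 0x1016d05080121) (nat_lit 2053))
 (.node (nat_lit 0x1016d05094124) (.leaf (nat_lit 0x1016d0509410c) (nat_lit 2565))
 (.leaf (nat_lit 0x1016d05094124) (nat_lit 2309))
)))))))))))

theorem C0_ok : genOK B7.A [(nat_lit 0x1010101090101), (nat_lit 0x1012101010101), (nat_lit 0x10101010b0129), (nat_lit 0x1010101210101), (nat_lit 0x1010101010109), (nat_lit 0x1010501010101)] C0_t (nat_lit 1440) = true := by decide +kernel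

noncomputable def TK_t : ST :=
(.node (nat_lit 0x1018101010301) (.node (nat_lit 0x1014101010105) (.node (nat_lit 0x1010103010181) (.node (nat_lit 0x1010101090101) (.node (nat_lit 0x1010101051101) (.node (nat_lit 0x1010101030121) (.node (nat_lit 0x1010101010901) (.node (nat_lit 0x1010101010511) (.node (nat_lit 0x1010101010109) (.leaf (nat_lit 0x1010101010101) (nat_lit 0))
 (.leaf (nat_lit 0x1010101010109) (nat_lit 263))
) (.node (nat_lit 0x1010101010519) (.leaf (nat_lit 0x1010101010511) (nat_lit 771))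
 (.leaf (nat_lit 0x1010101010519) (nat_lit 1028))
)) (.node (nat_lit 0x1010101010d11) (.node (nat_lit 0x1010101010909) (.leaf (nat_lit 0x1010101010901) (nat_lit 256))
 (.leaf (nat_lit 0x1010101010909) (nat_lit 519))
) (.node (nat_lit 0x1010101010d19) (.leaf (nat_lit 0x1010101010d11) (nat_lit 1027))
 (.leaf (nat_lit 0x1010101010d19) (nat_lit 772))
))) (.node (nat_lit 0x1010101030921) (.node (nat_lit 0x1010101030531) (.node (nat_lit 0x1010101030129) (.leaf (nat_lit 0x1010101030121) (nat_lit 775))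
 (.leaf (nat_lit 0x1010101030129) (nat_lit 518))
) (.node (nat_lit 0x1010101030539) (.leaf (nat_lit 0x1010101030531) (nat_lit 1287))
 (.leaf (nat_lit 0x1010101030539) (nat_lit 1030))
)) (.node (nat_lit 0x1010101030d31) (.node (nat_lit 0x1010101030929) (.leaf (nat_lit 0x1010101030921) (nat_lit 1031))
 (.leaf (nat_lit 0x1010101030929) (nat_lit 774))
) (.node (nat_lit 0x1010101030d39) (.leaf (nat_lit 0x1010101030d31) (nat_lit 1285))
 (.leaf (nat_lit 0x1010101030d39) (nat_lit 1286))
)))) (.node (nat_lit 0x1010101071121) (.node (nat_lit 0x1010101051901) (.node (nat_lit 0x1010101051511) (.node (nat_lit 0x1010101051109) (.leaf (nat_lit 0x1010101051101) (nat_lit 513))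
 (.leaf (nat_lit 0x1010101051109) (nat_lit 775))
) (.node (nat_lit 0x1010101051519) (.leaf (nat_lit 0x1010101051511) (nat_lit 771))
 (.leaf (nat_lit 0x1010101051519) (nat_lit 1031))
)) (.node (nat_lit 0x1010101051d11) (.node (nat_lit 0x1010101051909) (.leaf (nat_lit 0x1010101051901) (nat_lit 257))
 (.leaf (nat_lit 0x1010101051909) (nat_lit 519))
) (.node (nat_lit 0x1010101051d19) (.leaf (nat_lit 0x1010101051d11) (nat_lit 515))
 (.leaf (nat_lit 0x1010101051d19) (nat_lit 775))
))) (.node (nat_lit 0x1010101071921) (.node (nat_lit 0x1010101071531) (.node (nat_lit 0x1010101071129) (.leaf (nat_lit 0x1010101071121) (nat_lit 1287))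
 (.leaf (nat_lit 0x1010101071129) (nat_lit 1030))
) (.node (nat_lit 0x1010101071539) (.leaf (nat_lit 0x1010101071531) (nat_lit 1284))
 (.leaf (nat_lit 0x1010101071539) (nat_lit 1286))
)) (.node (nat_lit 0x1010101071d31) (.node (nat_lit 0x1010101071929) (.leaf (nat_lit 0x1010101071921) (nat_lit 1031))
 (.leaf (nat_lit 0x1010101071929) (nat_lit 774))
) (.node (nat_lit 0x1010101071d39) (.leaf (nat_lit 0x1010101071d31) (nat_lit 1287))
 (.leaf (nat_lit 0x1010101071d39) (nat_lit 1030))
))))) (.node (nat_lit 0x10101010d1101) (.node (nat_lit 0x10101010b0121) (.node (nat_lit 0x1010101090901) (.node (nat_lit 0x1010101090511) (.node (nat_lit 0x1010101090109) (.leaf (nat_lit 0x1010101090101) (nat_lit 261))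
 (.leaf (nat_lit 0x1010101090109) (nat_lit 519))
) (.node (nat_lit 0x1010101090519) (.leaf (nat_lit 0x1010101090511) (nat_lit 771))
 (.leaf (nat_lit 0x1010101090519) (nat_lit 1031))
)) (.node (nat_lit 0x1010101090d11) (.node (nat_lit 0x1010101090909) (.leaf (nat_lit 0x1010101090901) (nat_lit 517))
 (.leaf (nat_lit 0x1010101090909) (nat_lit 775))
) (.node (nat_lit 0x1010101090d19) (.leaf (nat_lit 0x1010101090d11) (nat_lit 1027))
 (.leaf (nat_lit 0x1010101090d19) (nat_lit 1029))
))) (.node (nat_lit 0x10101010b0921) (.node (nat_lit 0x10101010b0531) (.node (nat_lit 0x10101010b0129) (.leaf (nat_lit 0x10101010b0121) (nat_lit 519))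
 (.leaf (nat_lit 0x10101010b0129) (nat_lit 262))
) (.node (nat_lit 0x10101010b0539) (.leaf (nat_lit 0x10101010b0531) (nat_lit 1284))
 (.leaf (nat_lit 0x10101010b0539) (nat_lit 1030))
)) (.node (nat_lit 0x10101010b0d31) (.node (nat_lit 0x10101010b0929) (.leaf (nat_lit 0x10101010b0921) (nat_lit 775))
 (.leaf (nat_lit 0x10101010b0929) (nat_lit 518))
) (.node (nat_lit 0x10101010b0d39) (.leaf (nat_lit 0x10101010b0d31) (nat_lit 1028))
 (.leaf (nat_lit 0x10101010b0d39) (nat_lit 1286))
)))) (.node (nat_lit 0x10101010f1121) (.node (nat_lit 0x10101010d1901) (.node (nat_lit 0x10101010d1511) (.node (nat_lit 0x10101010d1109) (.leaf (nat_lit 0x10101010d1101) (nat_lit 773))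
 (.leaf (nat_lit 0x10101010d1109) (nat_lit 1031))
) (.node (nat_lit 0x10101010d1519) (.leaf (nat_lit 0x10101010d1511) (nat_lit 1029))
 (.leaf (nat_lit 0x10101010d1519) (nat_lit 1028))
)) (.node (nat_lit 0x10101010d1d11) (.node (nat_lit 0x10101010d1909) (.leaf (nat_lit 0x10101010d1901) (nat_lit 517))
 (.leaf (nat_lit 0x10101010d1909) (nat_lit 775))
) (.node (nat_lit 0x10101010d1d19) (.leaf (nat_lit 0x10101010d1d11) (nat_lit 773))
 (.leaf (nat_lit 0x10101010d1d19) (nat_lit 1031))
))) (.node (nat_lit 0x10101010f1921) (.node (nat_lit 0x10101010f1531) (.node (nat_lit 0x10101010f1129) (.leaf (nat_lit 0x10101010f1121) (nat_lit 1031))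
 (.leaf (nat_lit 0x10101010f1129) (nat_lit 774))
) (.node (nat_lit 0x10101010f1539) (.leaf (nat_lit 0x10101010f1531) (nat_lit 1287))
 (.leaf (nat_lit 0x10101010f1539) (nat_lit 1030))
)) (.node (nat_lit 0x10101010f1d31) (.node (nat_lit 0x10101010f1929) (.leaf (nat_lit 0x10101010f1921) (nat_lit 775))
 (.leaf (nat_lit 0x10101010f1929) (nat_lit 518))
) (.node (nat_lit 0x10101010f1d39) (.leaf (nat_lit 0x10101010f1d31) (nat_lit 1031))
 (.leaf (nat_lit 0x10101010f1d39) (nat_lit 774))
)))))) (.node (nat_lit 0x1010103090181) (.node (nat_lit 0x1010103051181) (.node (nat_lit 0x10101030311a1) (.node (nat_lit 0x1010103010981) (.node (nat_lit 0x1010103010589) (.node (nat_lit 0x1010103010199) (.leaf (nat_lit 0x1010103010181) (nat_lit 772))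
 (.leaf (nat_lit 0x1010103010199) (nat_lit 1031))
) (.node (nat_lit 0x1010103010591) (.leaf (nat_lit 0x1010103010589) (nat_lit 1028))
 (.leaf (nat_lit 0x1010103010591) (nat_lit 772))
)) (.node (nat_lit 0x1010103010d89) (.node (nat_lit 0x1010103010999) (.leaf (nat_lit 0x1010103010981) (nat_lit 516))
 (.leaf (nat_lit 0x1010103010999) (nat_lit 775))
) (.node (nat_lit 0x1010103010d91) (.leaf (nat_lit 0x1010103010d89) (nat_lit 772))
 (.leaf (nat_lit 0x1010103010d91) (nat_lit 1028))
))) (.node (nat_lit 0x10101030319a1) (.node (nat_lit 0x10101030315a9) (.node (nat_lit 0x10101030311b9) (.leaf (nat_lit 0x10101030311a1) (nat_lit 1287))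
 (.leaf (nat_lit 0x10101030311b9) (nat_lit 1030))
) (.node (nat_lit 0x10101030315b1) (.leaf (nat_lit 0x10101030315a9) (nat_lit 1286))
 (.leaf (nat_lit 0x10101030315b1) (nat_lit 1284))
)) (.node (nat_lit 0x1010103031da9) (.node (nat_lit 0x10101030319b9) (.leaf (nat_lit 0x10101030319a1) (nat_lit 1285))
 (.leaf (nat_lit 0x10101030319b9) (nat_lit 1286))
) (.node (nat_lit 0x1010103031db1) (.leaf (nat_lit 0x1010103031da9) (nat_lit 1030))
 (.leaf (nat_lit 0x1010103031db1) (nat_lit 1287))
)))) (.node (nat_lit 0x10101030701a1) (.node (nat_lit 0x1010103051981) (.node (nat_lit 0x1010103051589) (.node (nat_lit 0x1010103051199) (.leaf (nat_lit 0x1010103051181) (nat_lit 772))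
 (.leaf (nat_lit 0x1010103051199) (nat_lit 1028))
) (.node (nat_lit 0x1010103051591) (.leaf (nat_lit 0x1010103051589) (nat_lit 1031))
 (.leaf (nat_lit 0x1010103051591) (nat_lit 772))
)) (.node (nat_lit 0x1010103051d89) (.node (nat_lit 0x1010103051999) (.leaf (nat_lit 0x1010103051981) (nat_lit 1028))
 (.leaf (nat_lit 0x1010103051999) (nat_lit 772))
) (.node (nat_lit 0x1010103051d91) (.leaf (nat_lit 0x1010103051d89) (nat_lit 775))
 (.leaf (nat_lit 0x1010103051d91) (nat_lit 516))
))) (.node (nat_lit 0x10101030709a1) (.node (nat_lit 0x10101030705a9) (.node (nat_lit 0x10101030701b9) (.leaf (nat_lit 0x10101030701a1) (nat_lit 1284))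
 (.leaf (nat_lit 0x10101030701b9) (nat_lit 1286))
) (.node (nat_lit 0x10101030705b1) (.leaf (nat_lit 0x10101030705a9) (nat_lit 1030))
 (.leaf (nat_lit 0x10101030705b1) (nat_lit 1287))
)) (.node (nat_lit 0x1010103070da9) (.node (nat_lit 0x10101030709b9) (.leaf (nat_lit 0x10101030709a1) (nat_lit 1287))
 (.leaf (nat_lit 0x10101030709b9) (nat_lit 1030))
) (.node (nat_lit 0x1010103070db1) (.leaf (nat_lit 0x1010103070da9) (nat_lit 1286))
 (.leaf (nat_lit 0x1010103070db1) (nat_lit 1285))
))))) (.node (nat_lit 0x10101030d1181) (.node (nat_lit 0x10101030b11a1) (.node (nat_lit 0x1010103090981) (.node (nat_lit 0x1010103090589) (.node (nat_lit 0x1010103090199) (.leaf (nat_lit 0x1010103090181) (nat_lit 1029))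
 (.leaf (nat_lit 0x1010103090199) (nat_lit 1028))
) (.node (nat_lit 0x1010103090591) (.leaf (nat_lit 0x1010103090589) (nat_lit 1031))
 (.leaf (nat_lit 0x1010103090591) (nat_lit 772))
)) (.node (nat_lit 0x1010103090d89) (.node (nat_lit 0x1010103090999) (.leaf (nat_lit 0x1010103090981) (nat_lit 773))
 (.leaf (nat_lit 0x1010103090999) (nat_lit 1031))
) (.node (nat_lit 0x1010103090d91) (.leaf (nat_lit 0x1010103090d89) (nat_lit 1029))
 (.leaf (nat_lit 0x1010103090d91) (nat_lit 1028))
))) (.node (nat_lit 0x10101030b19a1) (.node (nat_lit 0x10101030b15a9) (.node (nat_lit 0x10101030b11b9) (.leaf (nat_lit 0x10101030b11a1) (nat_lit 1284))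
 (.leaf (nat_lit 0x10101030b11b9) (nat_lit 1030))
) (.node (nat_lit 0x10101030b15b1) (.leaf (nat_lit 0x10101030b15a9) (nat_lit 1030))
 (.leaf (nat_lit 0x10101030b15b1) (nat_lit 1287))
)) (.node (nat_lit 0x10101030b1da9) (.node (nat_lit 0x10101030b19b9) (.leaf (nat_lit 0x10101030b19a1) (nat_lit 1028))
 (.leaf (nat_lit 0x10101030b19b9) (nat_lit 1286))
) (.node (nat_lit 0x10101030b1db1) (.leaf (nat_lit 0x10101030b1da9) (nat_lit 774))
 (.leaf (nat_lit 0x10101030b1db1) (nat_lit 1031))
)))) (.node (nat_lit 0x10101030f01a1) (.node (nat_lit 0x10101030d1981) (.node (nat_lit 0x10101030d1589) (.node (nat_lit 0x10101030d1199) (.leaf (nat_lit 0x10101030d1181) (nat_lit 772))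
 (.leaf (nat_lit 0x10101030d1199) (nat_lit 1031))
) (.node (nat_lit 0x10101030d1591) (.leaf (nat_lit 0x10101030d1589) (nat_lit 1028))
 (.leaf (nat_lit 0x10101030d1591) (nat_lit 1029))
)) (.node (nat_lit 0x10101030d1d89) (.node (nat_lit 0x10101030d1999) (.leaf (nat_lit 0x10101030d1981) (nat_lit 1028))
 (.leaf (nat_lit 0x10101030d1999) (nat_lit 1029))
) (.node (nat_lit 0x10101030d1d91) (.leaf (nat_lit 0x10101030d1d89) (nat_lit 1031))
 (.leaf (nat_lit 0x10101030d1d91) (nat_lit 773))
))) (.node (nat_lit 0x10101030f09a1) (.node (nat_lit 0x10101030f05a9) (.node (nat_lit 0x10101030f01b9) (.leaf (nat_lit 0x10101030f01a1) (nat_lit 1287))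
 (.leaf (nat_lit 0x10101030f01b9) (nat_lit 1030))
) (.node (nat_lit 0x10101030f05b1) (.leaf (nat_lit 0x10101030f05a9) (nat_lit 1030))
 (.leaf (nat_lit 0x10101030f05b1) (nat_lit 1284))
)) (.node (nat_lit 0x10101030f0da9) (.node (nat_lit 0x10101030f09b9) (.leaf (nat_lit 0x10101030f09a1) (nat_lit 1031))
 (.leaf (nat_lit 0x10101030f09b9) (nat_lit 774))
) (.node (nat_lit 0x10101030f0db1) (.leaf (nat_lit 0x10101030f0da9) (nat_lit 1286))
 (.leaf (nat_lit 0x10101030f0db1) (nat_lit 1028))
))))))) (.node (nat_lit 0x1014103010385) (.node (nat_lit 0x1014101090125) (.node (nat_lit 0x1014101051115) (.node (nat_lit 0x1014101030125) (.node (nat_lit 0x1014101010905) (.node (nat_lit 0x1014101010515) (.node (nat_lit 0x101410101010d) (.leaf (nat_lit 0x1014101010105) (nat_lit 1032))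
 (.leaf (nat_lit 0x101410101010d) (nat_lit 776))
) (.node (nat_lit 0x101410101051d) (.leaf (nat_lit 0x1014101010515) (nat_lit 1537))
 (.leaf (nat_lit 0x101410101051d) (nat_lit 1281))
)) (.node (nat_lit 0x1014101010d15) (.node (nat_lit 0x101410101090d) (.leaf (nat_lit 0x1014101010905) (nat_lit 1288))
 (.leaf (nat_lit 0x101410101090d) (nat_lit 1032))
) (.node (nat_lit 0x1014101010d1d) (.leaf (nat_lit 0x1014101010d15) (nat_lit 1544))
 (.leaf (nat_lit 0x1014101010d1d) (nat_lit 1537))
))) (.node (nat_lit 0x1014101030925) (.node (nat_lit 0x1014101030535) (.node (nat_lit 0x101410103012d) (.leaf (nat_lit 0x1014101030125) (nat_lit 520))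
 (.leaf (nat_lit 0x101410103012d) (nat_lit 264))
) (.node (nat_lit 0x101410103053d) (.leaf (nat_lit 0x1014101030535) (nat_lit 1025))
 (.leaf (nat_lit 0x101410103053d) (nat_lit 769))
)) (.node (nat_lit 0x1014101030d35) (.node (nat_lit 0x101410103092d) (.leaf (nat_lit 0x1014101030925) (nat_lit 776))
 (.leaf (nat_lit 0x101410103092d) (nat_lit 520))
) (.node (nat_lit 0x1014101030d3d) (.leaf (nat_lit 0x1014101030d35) (nat_lit 1032))
 (.leaf (nat_lit 0x1014101030d3d) (nat_lit 1025))
)))) (.node (nat_lit 0x1014101071135) (.node (nat_lit 0x1014101051915) (.node (nat_lit 0x1014101051505) (.node (nat_lit 0x101410105111d) (.leaf (nat_lit 0x1014101051115) (nat_lit 1544))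
 (.leaf (nat_lit 0x101410105111d) (nat_lit 1288))
) (.node (nat_lit 0x101410105150d) (.leaf (nat_lit 0x1014101051505) (nat_lit 1537))
 (.leaf (nat_lit 0x101410105150d) (nat_lit 1281))
)) (.node (nat_lit 0x1014101051d05) (.node (nat_lit 0x101410105191d) (.leaf (nat_lit 0x1014101051915) (nat_lit 1288))
 (.leaf (nat_lit 0x101410105191d) (nat_lit 1032))
) (.node (nat_lit 0x1014101051d0d) (.leaf (nat_lit 0x1014101051d05) (nat_lit 1281))
 (.leaf (nat_lit 0x1014101051d0d) (nat_lit 1025))
))) (.node (nat_lit 0x1014101071935) (.node (nat_lit 0x1014101071525) (.node (nat_lit 0x101410107113d) (.leaf (nat_lit 0x1014101071135) (nat_lit 1032))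
 (.leaf (nat_lit 0x101410107113d) (nat_lit 776))
) (.node (nat_lit 0x101410107152d) (.leaf (nat_lit 0x1014101071525) (nat_lit 1025))
 (.leaf (nat_lit 0x101410107152d) (nat_lit 769))
)) (.node (nat_lit 0x1014101071d25) (.node (nat_lit 0x101410107193d) (.leaf (nat_lit 0x1014101071935) (nat_lit 776))
 (.leaf (nat_lit 0x101410107193d) (nat_lit 520))
) (.node (nat_lit 0x1014101071d2d) (.leaf (nat_lit 0x1014101071d25) (nat_lit 769))
 (.leaf (nat_lit 0x1014101071d2d) (nat_lit 513))
))))) (.node (nat_lit 0x10141010d1135) (.node (nat_lit 0x10141010b0105) (.node (nat_lit 0x1014101090925) (.node (nat_lit 0x1014101090535) (.node (nat_lit 0x101410109012d) (.leaf (nat_lit 0x1014101090125) (nat_lit 776))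
 (.leaf (nat_lit 0x101410109012d) (nat_lit 520))
) (.node (nat_lit 0x101410109053d) (.leaf (nat_lit 0x1014101090535) (nat_lit 1281))
 (.leaf (nat_lit 0x101410109053d) (nat_lit 1025))
)) (.node (nat_lit 0x1014101090d35) (.node (nat_lit 0x101410109092d) (.leaf (nat_lit 0x1014101090925) (nat_lit 1032))
 (.leaf (nat_lit 0x101410109092d) (nat_lit 776))
) (.node (nat_lit 0x1014101090d3d) (.leaf (nat_lit 0x1014101090d35) (nat_lit 1288))
 (.leaf (nat_lit 0x1014101090d3d) (nat_lit 1281))
))) (.node (nat_lit 0x10141010b0905) (.node (nat_lit 0x10141010b0515) (.node (nat_lit 0x10141010b010d) (.leaf (nat_lit 0x10141010b0105) (nat_lit 776))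
 (.leaf (nat_lit 0x10141010b010d) (nat_lit 520))
) (.node (nat_lit 0x10141010b051d) (.leaf (nat_lit 0x10141010b0515) (nat_lit 1281))
 (.leaf (nat_lit 0x10141010b051d) (nat_lit 1025))
)) (.node (nat_lit 0x10141010b0d15) (.node (nat_lit 0x10141010b090d) (.leaf (nat_lit 0x10141010b0905) (nat_lit 1032))
 (.leaf (nat_lit 0x10141010b090d) (nat_lit 776))
) (.node (nat_lit 0x10141010b0d1d) (.leaf (nat_lit 0x10141010b0d15) (nat_lit 1288))
 (.leaf (nat_lit 0x10141010b0d1d) (nat_lit 1281))
)))) (.node (nat_lit 0x10141010f1115) (.node (nat_lit 0x10141010d1935) (.node (nat_lit 0x10141010d1525) (.node (nat_lit 0x10141010d113d) (.leaf (nat_lit 0x10141010d1135) (nat_lit 1288))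
 (.leaf (nat_lit 0x10141010d113d) (nat_lit 1032))
) (.node (nat_lit 0x10141010d152d) (.leaf (nat_lit 0x10141010d1525) (nat_lit 1281))
 (.leaf (nat_lit 0x10141010d152d) (nat_lit 1025))
)) (.node (nat_lit 0x10141010d1d25) (.node (nat_lit 0x10141010d193d) (.leaf (nat_lit 0x10141010d1935) (nat_lit 1032))
 (.leaf (nat_lit 0x10141010d193d) (nat_lit 776))
) (.node (nat_lit 0x10141010d1d2d) (.leaf (nat_lit 0x10141010d1d25) (nat_lit 1025))
 (.leaf (nat_lit 0x10141010d1d2d) (nat_lit 769))
))) (.node (nat_lit 0x10141010f1915) (.node (nat_lit 0x10141010f1505) (.node (nat_lit 0x10141010f111d) (.leaf (nat_lit 0x10141010f1115) (nat_lit 1288))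
 (.leaf (nat_lit 0x10141010f111d) (nat_lit 1032))
) (.node (nat_lit 0x10141010f150d) (.leaf (nat_lit 0x10141010f1505) (nat_lit 1281))
 (.leaf (nat_lit 0x10141010f150d) (nat_lit 1025))
)) (.node (nat_lit 0x10141010f1d05) (.node (nat_lit 0x10141010f191d) (.leaf (nat_lit 0x10141010f1915) (nat_lit 1032))
 (.leaf (nat_lit 0x10141010f191d) (nat_lit 776))
) (.node (nat_lit 0x10141010f1d0d) (.leaf (nat_lit 0x10141010f1d05) (nat_lit 1025))
 (.leaf (nat_lit 0x10141010f1d0d) (nat_lit 769))
)))))) (.node (nat_lit 0x10141030913a5) (.node (nat_lit 0x101410305138d) (.node (nat_lit 0x10141030313a5) (.node (nat_lit 0x1014103010b85) (.node (nat_lit 0x101410301078d) (.node (nat_lit 0x101410301039d) (.leaf (nat_lit 0x1014103010385) (nat_lit 1544))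
 (.leaf (nat_lit 0x101410301039d) (nat_lit 1284))
) (.node (nat_lit 0x1014103010795) (.leaf (nat_lit 0x101410301078d) (nat_lit 1288))
 (.leaf (nat_lit 0x1014103010795) (nat_lit 1544))
)) (.node (nat_lit 0x1014103010f8d) (.node (nat_lit 0x1014103010b9d) (.leaf (nat_lit 0x1014103010b85) (nat_lit 1288))
 (.leaf (nat_lit 0x1014103010b9d) (nat_lit 1540))
) (.node (nat_lit 0x1014103010f95) (.leaf (nat_lit 0x1014103010f8d) (nat_lit 1032))
 (.leaf (nat_lit 0x1014103010f95) (nat_lit 1288))
))) (.node (nat_lit 0x1014103031ba5) (.node (nat_lit 0x10141030317ad) (.node (nat_lit 0x10141030313bd) (.leaf (nat_lit 0x10141030313a5) (nat_lit 1031))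
 (.leaf (nat_lit 0x10141030313bd) (nat_lit 772))
) (.node (nat_lit 0x10141030317b5) (.leaf (nat_lit 0x10141030317ad) (nat_lit 1032))
 (.leaf (nat_lit 0x10141030317b5) (nat_lit 1028))
)) (.node (nat_lit 0x1014103031fad) (.node (nat_lit 0x1014103031bbd) (.leaf (nat_lit 0x1014103031ba5) (nat_lit 1032))
 (.leaf (nat_lit 0x1014103031bbd) (nat_lit 1028))
) (.node (nat_lit 0x1014103031fb5) (.leaf (nat_lit 0x1014103031fad) (nat_lit 776))
 (.leaf (nat_lit 0x1014103031fb5) (nat_lit 1032))
)))) (.node (nat_lit 0x10141030703ad) (.node (nat_lit 0x1014103051b8d) (.node (nat_lit 0x1014103051785) (.node (nat_lit 0x1014103051395) (.leaf (nat_lit 0x101410305138d) (nat_lit 1284))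
 (.leaf (nat_lit 0x1014103051395) (nat_lit 1544))
) (.node (nat_lit 0x101410305179d) (.leaf (nat_lit 0x1014103051785) (nat_lit 1544))
 (.leaf (nat_lit 0x101410305179d) (nat_lit 1288))
)) (.node (nat_lit 0x1014103051f85) (.node (nat_lit 0x1014103051b95) (.leaf (nat_lit 0x1014103051b8d) (nat_lit 1540))
 (.leaf (nat_lit 0x1014103051b95) (nat_lit 1288))
) (.node (nat_lit 0x1014103051f9d) (.leaf (nat_lit 0x1014103051f85) (nat_lit 1288))
 (.leaf (nat_lit 0x1014103051f9d) (nat_lit 1032))
))) (.node (nat_lit 0x1014103070bad) (.node (nat_lit 0x10141030707a5) (.node (nat_lit 0x10141030703b5) (.leaf (nat_lit 0x10141030703ad) (nat_lit 1028))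
 (.leaf (nat_lit 0x10141030703b5) (nat_lit 1032))
) (.node (nat_lit 0x10141030707bd) (.leaf (nat_lit 0x10141030707a5) (nat_lit 1032))
 (.leaf (nat_lit 0x10141030707bd) (nat_lit 776))
)) (.node (nat_lit 0x1014103070fa5) (.node (nat_lit 0x1014103070bb5) (.leaf (nat_lit 0x1014103070bad) (nat_lit 1032))
 (.leaf (nat_lit 0x1014103070bb5) (nat_lit 776))
) (.node (nat_lit 0x1014103070fbd) (.leaf (nat_lit 0x1014103070fa5) (nat_lit 776))
 (.leaf (nat_lit 0x1014103070fbd) (nat_lit 520))
))))) (.node (nat_lit 0x10141030d03ad) (.node (nat_lit 0x10141030b0385) (.node (nat_lit 0x1014103091ba5) (.node (nat_lit 0x10141030917ad) (.node (nat_lit 0x10141030913bd) (.leaf (nat_lit 0x10141030913a5) (nat_lit 1287))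
 (.leaf (nat_lit 0x10141030913bd) (nat_lit 1028))
) (.node (nat_lit 0x10141030917b5) (.leaf (nat_lit 0x10141030917ad) (nat_lit 1288))
 (.leaf (nat_lit 0x10141030917b5) (nat_lit 1284))
)) (.node (nat_lit 0x1014103091fad) (.node (nat_lit 0x1014103091bbd) (.leaf (nat_lit 0x1014103091ba5) (nat_lit 1288))
 (.leaf (nat_lit 0x1014103091bbd) (nat_lit 1284))
) (.node (nat_lit 0x1014103091fb5) (.leaf (nat_lit 0x1014103091fad) (nat_lit 1032))
 (.leaf (nat_lit 0x1014103091fb5) (nat_lit 1288))
))) (.node (nat_lit 0x10141030b0b85) (.node (nat_lit 0x10141030b078d) (.node (nat_lit 0x10141030b039d) (.leaf (nat_lit 0x10141030b0385) (nat_lit 1288))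
 (.leaf (nat_lit 0x10141030b039d) (nat_lit 1028))
) (.node (nat_lit 0x10141030b0795) (.leaf (nat_lit 0x10141030b078d) (nat_lit 1032))
 (.leaf (nat_lit 0x10141030b0795) (nat_lit 1288))
)) (.node (nat_lit 0x10141030b0f8d) (.node (nat_lit 0x10141030b0b9d) (.leaf (nat_lit 0x10141030b0b85) (nat_lit 1032))
 (.leaf (nat_lit 0x10141030b0b9d) (nat_lit 1284))
) (.node (nat_lit 0x10141030b0f95) (.leaf (nat_lit 0x10141030b0f8d) (nat_lit 776))
 (.leaf (nat_lit 0x10141030b0f95) (nat_lit 1032))
)))) (.node (nat_lit 0x10141030f138d) (.node (nat_lit 0x10141030d0bad) (.node (nat_lit 0x10141030d07a5) (.node (nat_lit 0x10141030d03b5) (.leaf (nat_lit 0x10141030d03ad) (nat_lit 1028))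
 (.leaf (nat_lit 0x10141030d03b5) (nat_lit 1288))
) (.node (nat_lit 0x10141030d07bd) (.leaf (nat_lit 0x10141030d07a5) (nat_lit 1288))
 (.leaf (nat_lit 0x10141030d07bd) (nat_lit 1032))
)) (.node (nat_lit 0x10141030d0fa5) (.node (nat_lit 0x10141030d0bb5) (.leaf (nat_lit 0x10141030d0bad) (nat_lit 1284))
 (.leaf (nat_lit 0x10141030d0bb5) (nat_lit 1032))
) (.node (nat_lit 0x10141030d0fbd) (.leaf (nat_lit 0x10141030d0fa5) (nat_lit 1032))
 (.leaf (nat_lit 0x10141030d0fbd) (nat_lit 776))
))) (.node (nat_lit 0x10141030f1b8d) (.node (nat_lit 0x10141030f1785) (.node (nat_lit 0x10141030f1395) (.leaf (nat_lit 0x10141030f138d) (nat_lit 1028))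
 (.leaf (nat_lit 0x10141030f1395) (nat_lit 1288))
) (.node (nat_lit 0x10141030f179d) (.leaf (nat_lit 0x10141030f1785) (nat_lit 1288))
 (.leaf (nat_lit 0x10141030f179d) (nat_lit 1032))
)) (.node (nat_lit 0x10141030f1f85) (.node (nat_lit 0x10141030f1b95) (.leaf (nat_lit 0x10141030f1b8d) (nat_lit 1284))
 (.leaf (nat_lit 0x10141030f1b95) (nat_lit 1032))
) (.node (nat_lit 0x10141030f1f9d) (.leaf (nat_lit 0x10141030f1f85) (nat_lit 1032))
 (.leaf (nat_lit 0x10141030f1f9d) (nat_lit 776))
)))))))) (.node (nat_lit 0x101c101010305) (.node (nat_lit 0x1018103010381) (.node (nat_lit 0x1018101091301) (.node (nat_lit 0x1018101051301) (.node (nat_lit 0x1018101030331) (.node (nat_lit 0x1018101010b01) (.node (nat_lit 0x1018101010711) (.node (nat_lit 0x1018101010309) (.leaf (nat_lit 0x1018101010301) (nat_lit 770))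
 (.leaf (nat_lit 0x1018101010309) (nat_lit 1031))
) (.node (nat_lit 0x1018101010719) (.leaf (nat_lit 0x1018101010711) (nat_lit 515))
 (.leaf (nat_lit 0x1018101010719) (nat_lit 775))
)) (.node (nat_lit 0x1018101010f11) (.node (nat_lit 0x1018101010b09) (.leaf (nat_lit 0x1018101010b01) (nat_lit 514))
 (.leaf (nat_lit 0x1018101010b09) (nat_lit 775))
) (.node (nat_lit 0x1018101010f19) (.leaf (nat_lit 0x1018101010f11) (nat_lit 259))
 (.leaf (nat_lit 0x1018101010f19) (nat_lit 519))
))) (.node (nat_lit 0x1018101030b31) (.node (nat_lit 0x1018101030721) (.node (nat_lit 0x1018101030339) (.leaf (nat_lit 0x1018101030331) (nat_lit 1287))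
 (.leaf (nat_lit 0x1018101030339) (nat_lit 1030))
) (.node (nat_lit 0x1018101030729) (.leaf (nat_lit 0x1018101030721) (nat_lit 1287))
 (.leaf (nat_lit 0x1018101030729) (nat_lit 1030))
)) (.node (nat_lit 0x1018101030f21) (.node (nat_lit 0x1018101030b39) (.leaf (nat_lit 0x1018101030b31) (nat_lit 1031))
 (.leaf (nat_lit 0x1018101030b39) (nat_lit 774))
) (.node (nat_lit 0x1018101030f29) (.leaf (nat_lit 0x1018101030f21) (nat_lit 1031))
 (.leaf (nat_lit 0x1018101030f29) (nat_lit 774))
)))) (.node (nat_lit 0x1018101071331) (.node (nat_lit 0x1018101051b01) (.node (nat_lit 0x1018101051711) (.node (nat_lit 0x1018101051309) (.leaf (nat_lit 0x1018101051301) (nat_lit 514))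
 (.leaf (nat_lit 0x1018101051309) (nat_lit 775))
) (.node (nat_lit 0x1018101051719) (.leaf (nat_lit 0x1018101051711) (nat_lit 771))
 (.leaf (nat_lit 0x1018101051719) (nat_lit 1031))
)) (.node (nat_lit 0x1018101051f11) (.node (nat_lit 0x1018101051b09) (.leaf (nat_lit 0x1018101051b01) (nat_lit 258))
 (.leaf (nat_lit 0x1018101051b09) (nat_lit 519))
) (.node (nat_lit 0x1018101051f19) (.leaf (nat_lit 0x1018101051f11) (nat_lit 515))
 (.leaf (nat_lit 0x1018101051f19) (nat_lit 775))
))) (.node (nat_lit 0x1018101071b31) (.node (nat_lit 0x1018101071721) (.node (nat_lit 0x1018101071339) (.leaf (nat_lit 0x1018101071331) (nat_lit 1287))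
 (.leaf (nat_lit 0x1018101071339) (nat_lit 1030))
) (.node (nat_lit 0x1018101071729) (.leaf (nat_lit 0x1018101071721) (nat_lit 1287))
 (.leaf (nat_lit 0x1018101071729) (nat_lit 1030))
)) (.node (nat_lit 0x1018101071f21) (.node (nat_lit 0x1018101071b39) (.leaf (nat_lit 0x1018101071b31) (nat_lit 1031))
 (.leaf (nat_lit 0x1018101071b39) (nat_lit 774))
) (.node (nat_lit 0x1018101071f29) (.leaf (nat_lit 0x1018101071f21) (nat_lit 1031))
 (.leaf (nat_lit 0x1018101071f29) (nat_lit 774))
))))) (.node (nat_lit 0x10181010d0301) (.node (nat_lit 0x10181010b1331) (.node (nat_lit 0x1018101091b01) (.node (nat_lit 0x1018101091711) (.node (nat_lit 0x1018101091309) (.leaf (nat_lit 0x1018101091301) (nat_lit 773))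
 (.leaf (nat_lit 0x1018101091309) (nat_lit 1031))
) (.node (nat_lit 0x1018101091719) (.leaf (nat_lit 0x1018101091711) (nat_lit 771))
 (.leaf (nat_lit 0x1018101091719) (nat_lit 1031))
)) (.node (nat_lit 0x1018101091f11) (.node (nat_lit 0x1018101091b09) (.leaf (nat_lit 0x1018101091b01) (nat_lit 517))
 (.leaf (nat_lit 0x1018101091b09) (nat_lit 775))
) (.node (nat_lit 0x1018101091f19) (.leaf (nat_lit 0x1018101091f11) (nat_lit 515))
 (.leaf (nat_lit 0x1018101091f19) (nat_lit 775))
))) (.node (nat_lit 0x10181010b1b31) (.node (nat_lit 0x10181010b1721) (.node (nat_lit 0x10181010b1339) (.leaf (nat_lit 0x10181010b1331) (nat_lit 1031))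
 (.leaf (nat_lit 0x10181010b1339) (nat_lit 774))
) (.node (nat_lit 0x10181010b1729) (.leaf (nat_lit 0x10181010b1721) (nat_lit 1287))
 (.leaf (nat_lit 0x10181010b1729) (nat_lit 1030))
)) (.node (nat_lit 0x10181010b1f21) (.node (nat_lit 0x10181010b1b39) (.leaf (nat_lit 0x10181010b1b31) (nat_lit 775))
 (.leaf (nat_lit 0x10181010b1b39) (nat_lit 518))
) (.node (nat_lit 0x10181010b1f29) (.leaf (nat_lit 0x10181010b1f21) (nat_lit 1031))
 (.leaf (nat_lit 0x10181010b1f29) (nat_lit 774))
)))) (.node (nat_lit 0x10181010f0331) (.node (nat_lit 0x10181010d0b01) (.node (nat_lit 0x10181010d0711) (.node (nat_lit 0x10181010d0309) (.leaf (nat_lit 0x10181010d0301) (nat_lit 770))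
 (.leaf (nat_lit 0x10181010d0309) (nat_lit 1031))
) (.node (nat_lit 0x10181010d0719) (.leaf (nat_lit 0x10181010d0711) (nat_lit 773))
 (.leaf (nat_lit 0x10181010d0719) (nat_lit 1031))
)) (.node (nat_lit 0x10181010d0f11) (.node (nat_lit 0x10181010d0b09) (.leaf (nat_lit 0x10181010d0b01) (nat_lit 514))
 (.leaf (nat_lit 0x10181010d0b09) (nat_lit 775))
) (.node (nat_lit 0x10181010d0f19) (.leaf (nat_lit 0x10181010d0f11) (nat_lit 517))
 (.leaf (nat_lit 0x10181010d0f19) (nat_lit 775))
))) (.node (nat_lit 0x10181010f0b31) (.node (nat_lit 0x10181010f0721) (.node (nat_lit 0x10181010f0339) (.leaf (nat_lit 0x10181010f0331) (nat_lit 1287))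
 (.leaf (nat_lit 0x10181010f0339) (nat_lit 1030))
) (.node (nat_lit 0x10181010f0729) (.leaf (nat_lit 0x10181010f0721) (nat_lit 1031))
 (.leaf (nat_lit 0x10181010f0729) (nat_lit 774))
)) (.node (nat_lit 0x10181010f0f21) (.node (nat_lit 0x10181010f0b39) (.leaf (nat_lit 0x10181010f0b31) (nat_lit 1031))
 (.leaf (nat_lit 0x10181010f0b39) (nat_lit 774))
) (.node (nat_lit 0x10181010f0f29) (.leaf (nat_lit 0x10181010f0f21) (nat_lit 775))
 (.leaf (nat_lit 0x10181010f0f29) (nat_lit 518))
)))))) (.node (nat_lit 0x1018103091381) (.node (nat_lit 0x1018103051381) (.node (nat_lit 0x10181030313a9) (.node (nat_lit 0x1018103010b81) (.node (nat_lit 0x1018103010789) (.node (nat_lit 0x1018103010399) (.leaf (nat_lit 0x1018103010381) (nat_lit 1031))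
 (.leaf (nat_lit 0x1018103010399) (nat_lit 772))
) (.node (nat_lit 0x1018103010791) (.leaf (nat_lit 0x1018103010789) (nat_lit 775))
 (.leaf (nat_lit 0x1018103010791) (nat_lit 516))
)) (.node (nat_lit 0x1018103010f89) (.node (nat_lit 0x1018103010b99) (.leaf (nat_lit 0x1018103010b81) (nat_lit 775))
 (.leaf (nat_lit 0x1018103010b99) (nat_lit 516))
) (.node (nat_lit 0x1018103010f91) (.leaf (nat_lit 0x1018103010f89) (nat_lit 519))
 (.leaf (nat_lit 0x1018103010f91) (nat_lit 260))
))) (.node (nat_lit 0x1018103031ba9) (.node (nat_lit 0x10181030317a1) (.node (nat_lit 0x10181030313b1) (.leaf (nat_lit 0x10181030313a9) (nat_lit 1286))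
 (.leaf (nat_lit 0x10181030313b1) (nat_lit 1284))
) (.node (nat_lit 0x10181030317b9) (.leaf (nat_lit 0x10181030317a1) (nat_lit 1287))
 (.leaf (nat_lit 0x10181030317b9) (nat_lit 1030))
)) (.node (nat_lit 0x1018103031fa1) (.node (nat_lit 0x1018103031bb1) (.leaf (nat_lit 0x1018103031ba9) (nat_lit 1287))
 (.leaf (nat_lit 0x1018103031bb1) (nat_lit 1028))
) (.node (nat_lit 0x1018103031fb9) (.leaf (nat_lit 0x1018103031fa1) (nat_lit 1031))
 (.leaf (nat_lit 0x1018103031fb9) (nat_lit 774))
)))) (.node (nat_lit 0x10181030703a9) (.node (nat_lit 0x1018103051b81) (.node (nat_lit 0x1018103051789) (.node (nat_lit 0x1018103051399) (.leaf (nat_lit 0x1018103051381) (nat_lit 772))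
 (.leaf (nat_lit 0x1018103051399) (nat_lit 1028))
) (.node (nat_lit 0x1018103051791) (.leaf (nat_lit 0x1018103051789) (nat_lit 1031))
 (.leaf (nat_lit 0x1018103051791) (nat_lit 772))
)) (.node (nat_lit 0x1018103051f89) (.node (nat_lit 0x1018103051b99) (.leaf (nat_lit 0x1018103051b81) (nat_lit 1028))
 (.leaf (nat_lit 0x1018103051b99) (nat_lit 772))
) (.node (nat_lit 0x1018103051f91) (.leaf (nat_lit 0x1018103051f89) (nat_lit 775))
 (.leaf (nat_lit 0x1018103051f91) (nat_lit 516))
))) (.node (nat_lit 0x1018103070ba9) (.node (nat_lit 0x10181030707a1) (.node (nat_lit 0x10181030703b1) (.leaf (nat_lit 0x10181030703a9) (nat_lit 1286))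
 (.leaf (nat_lit 0x10181030703b1) (nat_lit 1285))
) (.node (nat_lit 0x10181030707b9) (.leaf (nat_lit 0x10181030707a1) (nat_lit 1287))
 (.leaf (nat_lit 0x10181030707b9) (nat_lit 1030))
)) (.node (nat_lit 0x1018103070fa1) (.node (nat_lit 0x1018103070bb1) (.leaf (nat_lit 0x1018103070ba9) (nat_lit 1287))
 (.leaf (nat_lit 0x1018103070bb1) (nat_lit 1029))
) (.node (nat_lit 0x1018103070fb9) (.leaf (nat_lit 0x1018103070fa1) (nat_lit 1031))
 (.leaf (nat_lit 0x1018103070fb9) (nat_lit 774))
))))) (.node (nat_lit 0x10181030d0381) (.node (nat_lit 0x10181030b03a9) (.node (nat_lit 0x1018103091b81) (.node (nat_lit 0x1018103091789) (.node (nat_lit 0x1018103091399) (.leaf (nat_lit 0x1018103091381) (nat_lit 1029))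
 (.leaf (nat_lit 0x1018103091399) (nat_lit 1028))
) (.node (nat_lit 0x1018103091791) (.leaf (nat_lit 0x1018103091789) (nat_lit 1031))
 (.leaf (nat_lit 0x1018103091791) (nat_lit 772))
)) (.node (nat_lit 0x1018103091f89) (.node (nat_lit 0x1018103091b99) (.leaf (nat_lit 0x1018103091b81) (nat_lit 1031))
 (.leaf (nat_lit 0x1018103091b99) (nat_lit 772))
) (.node (nat_lit 0x1018103091f91) (.leaf (nat_lit 0x1018103091f89) (nat_lit 775))
 (.leaf (nat_lit 0x1018103091f91) (nat_lit 516))
))) (.node (nat_lit 0x10181030b0ba9) (.node (nat_lit 0x10181030b07a1) (.node (nat_lit 0x10181030b03b1) (.leaf (nat_lit 0x10181030b03a9) (nat_lit 1287))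
 (.leaf (nat_lit 0x10181030b03b1) (nat_lit 1028))
) (.node (nat_lit 0x10181030b07b9) (.leaf (nat_lit 0x10181030b07a1) (nat_lit 1031))
 (.leaf (nat_lit 0x10181030b07b9) (nat_lit 774))
)) (.node (nat_lit 0x10181030b0fa1) (.node (nat_lit 0x10181030b0bb1) (.leaf (nat_lit 0x10181030b0ba9) (nat_lit 1031))
 (.leaf (nat_lit 0x10181030b0bb1) (nat_lit 772))
) (.node (nat_lit 0x10181030b0fb9) (.leaf (nat_lit 0x10181030b0fa1) (nat_lit 775))
 (.leaf (nat_lit 0x10181030b0fb9) (nat_lit 518))
)))) (.node (nat_lit 0x10181030f13a9) (.node (nat_lit 0x10181030d0b81) (.node (nat_lit 0x10181030d0789) (.node (nat_lit 0x10181030d0399) (.leaf (nat_lit 0x10181030d0381) (nat_lit 1028))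
 (.leaf (nat_lit 0x10181030d0399) (nat_lit 1029))
) (.node (nat_lit 0x10181030d0791) (.leaf (nat_lit 0x10181030d0789) (nat_lit 1031))
 (.leaf (nat_lit 0x10181030d0791) (nat_lit 773))
)) (.node (nat_lit 0x10181030d0f89) (.node (nat_lit 0x10181030d0b99) (.leaf (nat_lit 0x10181030d0b81) (nat_lit 1031))
 (.leaf (nat_lit 0x10181030d0b99) (nat_lit 773))
) (.node (nat_lit 0x10181030d0f91) (.leaf (nat_lit 0x10181030d0f89) (nat_lit 775))
 (.leaf (nat_lit 0x10181030d0f91) (nat_lit 517))
))) (.node (nat_lit 0x10181030f1ba9) (.node (nat_lit 0x10181030f17a1) (.node (nat_lit 0x10181030f13b1) (.leaf (nat_lit 0x10181030f13a9) (nat_lit 1030))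
 (.leaf (nat_lit 0x10181030f13b1) (nat_lit 1284))
) (.node (nat_lit 0x10181030f17b9) (.leaf (nat_lit 0x10181030f17a1) (nat_lit 1287))
 (.leaf (nat_lit 0x10181030f17b9) (nat_lit 1030))
)) (.node (nat_lit 0x10181030f1fa1) (.node (nat_lit 0x10181030f1bb1) (.leaf (nat_lit 0x10181030f1ba9) (nat_lit 1286))
 (.leaf (nat_lit 0x10181030f1bb1) (nat_lit 1028))
) (.node (nat_lit 0x10181030f1fb9) (.leaf (nat_lit 0x10181030f1fa1) (nat_lit 1031))
 (.leaf (nat_lit 0x10181030f1fb9) (nat_lit 774))
))))))) (.node (nat_lit 0x101c103010185) (.node (nat_lit 0x101c101091325) (.node (nat_lit 0x101c101051315) (.node (nat_lit 0x101c101030335) (.node (nat_lit 0x101c101010b05) (.node (nat_lit 0x101c101010715) (.node (nat_lit 0x101c10101030d) (.leaf (nat_lit 0x101c101010305) (nat_lit 1544))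
 (.leaf (nat_lit 0x101c10101030d) (nat_lit 1288))
) (.node (nat_lit 0x101c10101071d) (.leaf (nat_lit 0x101c101010715) (nat_lit 1544))
 (.leaf (nat_lit 0x101c10101071d) (nat_lit 1288))
)) (.node (nat_lit 0x101c101010f15) (.node (nat_lit 0x101c101010b0d) (.leaf (nat_lit 0x101c101010b05) (nat_lit 1288))
 (.leaf (nat_lit 0x101c101010b0d) (nat_lit 1032))
) (.node (nat_lit 0x101c101010f1d) (.leaf (nat_lit 0x101c101010f15) (nat_lit 1288))
 (.leaf (nat_lit 0x101c101010f1d) (nat_lit 1032))
))) (.node (nat_lit 0x101c101030b35) (.node (nat_lit 0x101c101030725) (.node (nat_lit 0x101c10103033d) (.leaf (nat_lit 0x101c101030335) (nat_lit 1027))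
 (.leaf (nat_lit 0x101c10103033d) (nat_lit 771))
) (.node (nat_lit 0x101c10103072d) (.leaf (nat_lit 0x101c101030725) (nat_lit 1032))
 (.leaf (nat_lit 0x101c10103072d) (nat_lit 776))
)) (.node (nat_lit 0x101c101030f25) (.node (nat_lit 0x101c101030b3d) (.leaf (nat_lit 0x101c101030b35) (nat_lit 771))
 (.leaf (nat_lit 0x101c101030b3d) (nat_lit 515))
) (.node (nat_lit 0x101c101030f2d) (.leaf (nat_lit 0x101c101030f25) (nat_lit 776))
 (.leaf (nat_lit 0x101c101030f2d) (nat_lit 520))
)))) (.node (nat_lit 0x101c101071325) (.node (nat_lit 0x101c101051b15) (.node (nat_lit 0x101c101051705) (.node (nat_lit 0x101c10105131d) (.leaf (nat_lit 0x101c101051315) (nat_lit 1544))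
 (.leaf (nat_lit 0x101c10105131d) (nat_lit 1288))
) (.node (nat_lit 0x101c10105170d) (.leaf (nat_lit 0x101c101051705) (nat_lit 1544))
 (.leaf (nat_lit 0x101c10105170d) (nat_lit 1288))
)) (.node (nat_lit 0x101c101051f05) (.node (nat_lit 0x101c101051b1d) (.leaf (nat_lit 0x101c101051b15) (nat_lit 1288))
 (.leaf (nat_lit 0x101c101051b1d) (nat_lit 1032))
) (.node (nat_lit 0x101c101051f0d) (.leaf (nat_lit 0x101c101051f05) (nat_lit 1288))
 (.leaf (nat_lit 0x101c101051f0d) (nat_lit 1032))
))) (.node (nat_lit 0x101c101071b25) (.node (nat_lit 0x101c101071735) (.node (nat_lit 0x101c10107132d) (.leaf (nat_lit 0x101c101071325) (nat_lit 1032))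
 (.leaf (nat_lit 0x101c10107132d) (nat_lit 776))
) (.node (nat_lit 0x101c10107173d) (.leaf (nat_lit 0x101c101071735) (nat_lit 1028))
 (.leaf (nat_lit 0x101c10107173d) (nat_lit 1032))
)) (.node (nat_lit 0x101c101071f35) (.node (nat_lit 0x101c101071b2d) (.leaf (nat_lit 0x101c101071b25) (nat_lit 776))
 (.leaf (nat_lit 0x101c101071b2d) (nat_lit 520))
) (.node (nat_lit 0x101c101071f3d) (.leaf (nat_lit 0x101c101071f35) (nat_lit 1032))
 (.leaf (nat_lit 0x101c101071f3d) (nat_lit 776))
))))) (.node (nat_lit 0x101c1010d0335) (.node (nat_lit 0x101c1010b1315) (.node (nat_lit 0x101c101091b25) (.node (nat_lit 0x101c101091735) (.node (nat_lit 0x101c10109132d) (.leaf (nat_lit 0x101c101091325) (nat_lit 1288))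
 (.leaf (nat_lit 0x101c10109132d) (nat_lit 1032))
) (.node (nat_lit 0x101c10109173d) (.leaf (nat_lit 0x101c101091735) (nat_lit 1283))
 (.leaf (nat_lit 0x101c10109173d) (nat_lit 1027))
)) (.node (nat_lit 0x101c101091f35) (.node (nat_lit 0x101c101091b2d) (.leaf (nat_lit 0x101c101091b25) (nat_lit 1032))
 (.leaf (nat_lit 0x101c101091b2d) (nat_lit 776))
) (.node (nat_lit 0x101c101091f3d) (.leaf (nat_lit 0x101c101091f35) (nat_lit 1027))
 (.leaf (nat_lit 0x101c101091f3d) (nat_lit 771))
))) (.node (nat_lit 0x101c1010b1b15) (.node (nat_lit 0x101c1010b1705) (.node (nat_lit 0x101c1010b131d) (.leaf (nat_lit 0x101c1010b1315) (nat_lit 1288))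
 (.leaf (nat_lit 0x101c1010b131d) (nat_lit 1032))
) (.node (nat_lit 0x101c1010b170d) (.leaf (nat_lit 0x101c1010b1705) (nat_lit 1288))
 (.leaf (nat_lit 0x101c1010b170d) (nat_lit 1032))
)) (.node (nat_lit 0x101c1010b1f05) (.node (nat_lit 0x101c1010b1b1d) (.leaf (nat_lit 0x101c1010b1b15) (nat_lit 1032))
 (.leaf (nat_lit 0x101c1010b1b1d) (nat_lit 776))
) (.node (nat_lit 0x101c1010b1f0d) (.leaf (nat_lit 0x101c1010b1f05) (nat_lit 1032))
 (.leaf (nat_lit 0x101c1010b1f0d) (nat_lit 776))
)))) (.node (nat_lit 0x101c1010f0305) (.node (nat_lit 0x101c1010d0b35) (.node (nat_lit 0x101c1010d0725) (.node (nat_lit 0x101c1010d033d) (.leaf (nat_lit 0x101c1010d0335) (nat_lit 1285))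
 (.leaf (nat_lit 0x101c1010d033d) (nat_lit 1029))
) (.node (nat_lit 0x101c1010d072d) (.leaf (nat_lit 0x101c1010d0725) (nat_lit 1288))
 (.leaf (nat_lit 0x101c1010d072d) (nat_lit 1032))
)) (.node (nat_lit 0x101c1010d0f25) (.node (nat_lit 0x101c1010d0b3d) (.leaf (nat_lit 0x101c1010d0b35) (nat_lit 1029))
 (.leaf (nat_lit 0x101c1010d0b3d) (nat_lit 773))
) (.node (nat_lit 0x101c1010d0f2d) (.leaf (nat_lit 0x101c1010d0f25) (nat_lit 1032))
 (.leaf (nat_lit 0x101c1010d0f2d) (nat_lit 776))
))) (.node (nat_lit 0x101c1010f0b05) (.node (nat_lit 0x101c1010f0715) (.node (nat_lit 0x101c1010f030d) (.leaf (nat_lit 0x101c1010f0305) (nat_lit 1288))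
 (.leaf (nat_lit 0x101c1010f030d) (nat_lit 1032))
) (.node (nat_lit 0x101c1010f071d) (.leaf (nat_lit 0x101c1010f0715) (nat_lit 1288))
 (.leaf (nat_lit 0x101c1010f071d) (nat_lit 1032))
)) (.node (nat_lit 0x101c1010f0f15) (.node (nat_lit 0x101c1010f0b0d) (.leaf (nat_lit 0x101c1010f0b05) (nat_lit 1032))
 (.leaf (nat_lit 0x101c1010f0b0d) (nat_lit 776))
) (.node (nat_lit 0x101c1010f0f1d) (.leaf (nat_lit 0x101c1010f0f15) (nat_lit 1032))
 (.leaf (nat_lit 0x101c1010f0f1d) (nat_lit 776))
)))))) (.node (nat_lit 0x101c1030901a5) (.node (nat_lit 0x101c10305118d) (.node (nat_lit 0x101c1030311ad) (.node (nat_lit 0x101c103010985) (.node (nat_lit 0x101c10301058d) (.node (nat_lit 0x101c10301019d) (.leaf (nat_lit 0x101c103010185) (nat_lit 1543))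
 (.leaf (nat_lit 0x101c10301019d) (nat_lit 1284))
) (.node (nat_lit 0x101c103010595) (.leaf (nat_lit 0x101c10301058d) (nat_lit 1285))
 (.leaf (nat_lit 0x101c103010595) (nat_lit 1540))
)) (.node (nat_lit 0x101c103010d8d) (.node (nat_lit 0x101c10301099d) (.leaf (nat_lit 0x101c103010985) (nat_lit 1287))
 (.leaf (nat_lit 0x101c10301099d) (nat_lit 1028))
) (.node (nat_lit 0x101c103010d95) (.leaf (nat_lit 0x101c103010d8d) (nat_lit 1541))
 (.leaf (nat_lit 0x101c103010d95) (nat_lit 1284))
))) (.node (nat_lit 0x101c1030319ad) (.node (nat_lit 0x101c1030315a5) (.node (nat_lit 0x101c1030311b5) (.leaf (nat_lit 0x101c1030311ad) (nat_lit 1032))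
 (.leaf (nat_lit 0x101c1030311b5) (nat_lit 1028))
) (.node (nat_lit 0x101c1030315bd) (.leaf (nat_lit 0x101c1030315a5) (nat_lit 1031))
 (.leaf (nat_lit 0x101c1030315bd) (nat_lit 772))
)) (.node (nat_lit 0x101c103031da5) (.node (nat_lit 0x101c1030319b5) (.leaf (nat_lit 0x101c1030319ad) (nat_lit 1031))
 (.leaf (nat_lit 0x101c1030319b5) (nat_lit 772))
) (.node (nat_lit 0x101c103031dbd) (.leaf (nat_lit 0x101c103031da5) (nat_lit 775))
 (.leaf (nat_lit 0x101c103031dbd) (nat_lit 516))
)))) (.node (nat_lit 0x101c1030701a5) (.node (nat_lit 0x101c10305198d) (.node (nat_lit 0x101c103051585) (.node (nat_lit 0x101c103051195) (.leaf (nat_lit 0x101c10305118d) (nat_lit 1284))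
 (.leaf (nat_lit 0x101c103051195) (nat_lit 1541))
) (.node (nat_lit 0x101c10305159d) (.leaf (nat_lit 0x101c103051585) (nat_lit 1543))
 (.leaf (nat_lit 0x101c10305159d) (nat_lit 1285))
)) (.node (nat_lit 0x101c103051d85) (.node (nat_lit 0x101c103051995) (.leaf (nat_lit 0x101c10305198d) (nat_lit 1540))
 (.leaf (nat_lit 0x101c103051995) (nat_lit 1285))
) (.node (nat_lit 0x101c103051d9d) (.leaf (nat_lit 0x101c103051d85) (nat_lit 1287))
 (.leaf (nat_lit 0x101c103051d9d) (nat_lit 1029))
))) (.node (nat_lit 0x101c1030709a5) (.node (nat_lit 0x101c1030705ad) (.node (nat_lit 0x101c1030701bd) (.leaf (nat_lit 0x101c1030701a5) (nat_lit 1028))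
 (.leaf (nat_lit 0x101c1030701bd) (nat_lit 1032))
) (.node (nat_lit 0x101c1030705b5) (.leaf (nat_lit 0x101c1030705ad) (nat_lit 772))
 (.leaf (nat_lit 0x101c1030705b5) (nat_lit 1031))
)) (.node (nat_lit 0x101c103070dad) (.node (nat_lit 0x101c1030709bd) (.leaf (nat_lit 0x101c1030709a5) (nat_lit 1032))
 (.leaf (nat_lit 0x101c1030709bd) (nat_lit 776))
) (.node (nat_lit 0x101c103070db5) (.leaf (nat_lit 0x101c103070dad) (nat_lit 1028))
 (.leaf (nat_lit 0x101c103070db5) (nat_lit 1032))
))))) (.node (nat_lit 0x101c1030d11ad) (.node (nat_lit 0x101c1030b118d) (.node (nat_lit 0x101c1030909a5) (.node (nat_lit 0x101c1030905ad) (.node (nat_lit 0x101c1030901bd) (.leaf (nat_lit 0x101c1030901a5) (nat_lit 1287))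
 (.leaf (nat_lit 0x101c1030901bd) (nat_lit 1028))
) (.node (nat_lit 0x101c1030905b5) (.leaf (nat_lit 0x101c1030905ad) (nat_lit 1029))
 (.leaf (nat_lit 0x101c1030905b5) (nat_lit 1284))
)) (.node (nat_lit 0x101c103090dad) (.node (nat_lit 0x101c1030909bd) (.leaf (nat_lit 0x101c1030909a5) (nat_lit 1031))
 (.leaf (nat_lit 0x101c1030909bd) (nat_lit 772))
) (.node (nat_lit 0x101c103090db5) (.leaf (nat_lit 0x101c103090dad) (nat_lit 1285))
 (.leaf (nat_lit 0x101c103090db5) (nat_lit 1028))
))) (.node (nat_lit 0x101c1030b198d) (.node (nat_lit 0x101c1030b1585) (.node (nat_lit 0x101c1030b1195) (.leaf (nat_lit 0x101c1030b118d) (nat_lit 1032))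
 (.leaf (nat_lit 0x101c1030b1195) (nat_lit 1284))
) (.node (nat_lit 0x101c1030b159d) (.leaf (nat_lit 0x101c1030b1585) (nat_lit 1287))
 (.leaf (nat_lit 0x101c1030b159d) (nat_lit 1028))
)) (.node (nat_lit 0x101c1030b1d85) (.node (nat_lit 0x101c1030b1995) (.leaf (nat_lit 0x101c1030b198d) (nat_lit 1288))
 (.leaf (nat_lit 0x101c1030b1995) (nat_lit 1028))
) (.node (nat_lit 0x101c1030b1d9d) (.leaf (nat_lit 0x101c1030b1d85) (nat_lit 1031))
 (.leaf (nat_lit 0x101c1030b1d9d) (nat_lit 772))
)))) (.node (nat_lit 0x101c1030f0185) (.node (nat_lit 0x101c1030d19ad) (.node (nat_lit 0x101c1030d15a5) (.node (nat_lit 0x101c1030d11b5) (.leaf (nat_lit 0x101c1030d11ad) (nat_lit 1028))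
 (.leaf (nat_lit 0x101c1030d11b5) (nat_lit 1285))
) (.node (nat_lit 0x101c1030d15bd) (.leaf (nat_lit 0x101c1030d15a5) (nat_lit 1287))
 (.leaf (nat_lit 0x101c1030d15bd) (nat_lit 1029))
)) (.node (nat_lit 0x101c1030d1da5) (.node (nat_lit 0x101c1030d19b5) (.leaf (nat_lit 0x101c1030d19ad) (nat_lit 1284))
 (.leaf (nat_lit 0x101c1030d19b5) (nat_lit 1029))
) (.node (nat_lit 0x101c1030d1dbd) (.leaf (nat_lit 0x101c1030d1da5) (nat_lit 1031))
 (.leaf (nat_lit 0x101c1030d1dbd) (nat_lit 773))
))) (.node (nat_lit 0x101c1030f0985) (.node (nat_lit 0x101c1030f058d) (.node (nat_lit 0x101c1030f019d) (.leaf (nat_lit 0x101c1030f0185) (nat_lit 1284))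
 (.leaf (nat_lit 0x101c1030f019d) (nat_lit 1288))
) (.node (nat_lit 0x101c1030f0595) (.leaf (nat_lit 0x101c1030f058d) (nat_lit 1028))
 (.leaf (nat_lit 0x101c1030f0595) (nat_lit 1287))
)) (.node (nat_lit 0x101c1030f0d8d) (.node (nat_lit 0x101c1030f099d) (.leaf (nat_lit 0x101c1030f0985) (nat_lit 1288))
 (.leaf (nat_lit 0x101c1030f099d) (nat_lit 1032))
) (.node (nat_lit 0x101c1030f0d95) (.leaf (nat_lit 0x101c1030f0d8d) (nat_lit 1284))
 (.leaf (nat_lit 0x101c1030f0d95) (nat_lit 1288))
)))))))))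

theorem TK_ok : genOK B7.A [(nat_lit 0x1010101010901), (nat_lit 0x1010101051901), (nat_lit 0x1018101051b01), (nat_lit 0x1018101010f11), (nat_lit 0x1018103010f91), (nat_lit 0x1010101090101), (nat_lit 0x10101010b0129), (nat_lit 0x1010101010109), (nat_lit 0x101410103012d)] TK_t (nat_lit 512) = true := by decide +kernel

noncomputable def cA_t : ST :=
(.node (nat_lit 0x1030101010101) (.node (nat_lit 0x1010501010101) (.node (nat_lit 0x1010109010101) (.node (nat_lit 0x1010101110101) (.node (nat_lit 0x1010101012101) (.leaf (nat_lit 0x1010101010141) (nat_lit 4101))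
 (.node (nat_lit 0x1010101012141) (.leaf (nat_lit 0x1010101012101) (nat_lit 0))
 (.leaf (nat_lit 0x1010101012141) (nat_lit 2049))
)) (.node (nat_lit 0x1010101112101) (.node (nat_lit 0x1010101110141) (.leaf (nat_lit 0x1010101110101) (nat_lit 2051))
 (.leaf (nat_lit 0x1010101110141) (nat_lit 2051))
) (.node (nat_lit 0x1010101112141) (.leaf (nat_lit 0x1010101112101) (nat_lit 1025))
 (.leaf (nat_lit 0x1010101112141) (nat_lit 2051))
))) (.node (nat_lit 0x1010109110101) (.node (nat_lit 0x1010109012101) (.node (nat_lit 0x1010109010141) (.leaf (nat_lit 0x1010109010101) (nat_lit 2564))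
 (.leaf (nat_lit 0x1010109010141) (nat_lit 3844))
) (.node (nat_lit 0x1010109012141) (.leaf (nat_lit 0x1010109012101) (nat_lit 2564))
 (.leaf (nat_lit 0x1010109012141) (nat_lit 2305))
)) (.node (nat_lit 0x1010109112101) (.node (nat_lit 0x1010109110141) (.leaf (nat_lit 0x1010109110101) (nat_lit 3587))
 (.leaf (nat_lit 0x1010109110141) (nat_lit 2309))
) (.node (nat_lit 0x1010109112141) (.leaf (nat_lit 0x1010109112101) (nat_lit 2564))
 (.leaf (nat_lit 0x1010109112141) (nat_lit 2307))
)))) (.node (nat_lit 0x1010509010101) (.node (nat_lit 0x1010501110101) (.node (nat_lit 0x1010501012101) (.node (nat_lit 0x1010501010141) (.leaf (nat_lit 0x1010501010101) (nat_lit 512))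
 (.leaf (nat_lit 0x1010501010141) (nat_lit 2050))
) (.node (nat_lit 0x1010501012141) (.leaf (nat_lit 0x1010501012101) (nat_lit 257))
 (.leaf (nat_lit 0x1010501012141) (nat_lit 1794))
)) (.node (nat_lit 0x1010501112101) (.node (nat_lit 0x1010501110141) (.leaf (nat_lit 0x1010501110101) (nat_lit 514))
 (.leaf (nat_lit 0x1010501110141) (nat_lit 1539))
) (.node (nat_lit 0x1010501112141) (.leaf (nat_lit 0x1010501112101) (nat_lit 770))
 (.leaf (nat_lit 0x1010501112141) (nat_lit 1795))
))) (.node (nat_lit 0x1010509110101) (.node (nat_lit 0x1010509012101) (.node (nat_lit 0x1010509010141) (.leaf (nat_lit 0x1010509010101) (nat_lit 2052))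
 (.leaf (nat_lit 0x1010509010141) (nat_lit 2306))
) (.node (nat_lit 0x1010509012141) (.leaf (nat_lit 0x1010509012101) (nat_lit 2308))
 (.leaf (nat_lit 0x1010509012141) (nat_lit 2050))
)) (.node (nat_lit 0x1010509112101) (.node (nat_lit 0x1010509110141) (.leaf (nat_lit 0x1010509110101) (nat_lit 2564))
 (.leaf (nat_lit 0x1010509110141) (nat_lit 1795))
) (.node (nat_lit 0x1010509112141) (.leaf (nat_lit 0x1010509112101) (nat_lit 2308))
 (.leaf (nat_lit 0x1010509112141) (nat_lit 2051))
))))) (.node (nat_lit 0x1030501010101) (.node (nat_lit 0x1030109010101) (.node (nat_lit 0x1030101110101) (.node (nat_lit 0x1030101012101) (.node (nat_lit 0x1030101010141) (.leaf (nat_lit 0x1030101010101) (nat_lit 1538))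
 (.leaf (nat_lit 0x1030101010141) (nat_lit 2054))
) (.node (nat_lit 0x1030101012141) (.leaf (nat_lit 0x1030101012101) (nat_lit 1542))
 (.leaf (nat_lit 0x1030101012141) (nat_lit 1540))
)) (.node (nat_lit 0x1030101112101) (.node (nat_lit 0x1030101110141) (.leaf (nat_lit 0x1030101110101) (nat_lit 1798))
 (.leaf (nat_lit 0x1030101110141) (nat_lit 1796))
) (.node (nat_lit 0x1030101112141) (.leaf (nat_lit 0x1030101112101) (nat_lit 1283))
 (.leaf (nat_lit 0x1030101112141) (nat_lit 1798))
))) (.node (nat_lit 0x1030109110101) (.node (nat_lit 0x1030109012101) (.node (nat_lit 0x1030109010141) (.leaf (nat_lit 0x1030109010101) (nat_lit 3074))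
 (.leaf (nat_lit 0x1030109010141) (nat_lit 2310))
) (.node (nat_lit 0x1030109012141) (.leaf (nat_lit 0x1030109012101) (nat_lit 3078))
 (.leaf (nat_lit 0x1030109012141) (nat_lit 1797))
)) (.node (nat_lit 0x1030109112101) (.node (nat_lit 0x1030109110141) (.leaf (nat_lit 0x1030109110101) (nat_lit 3334))
 (.leaf (nat_lit 0x1030109110141) (nat_lit 2053))
) (.node (nat_lit 0x1030109112141) (.leaf (nat_lit 0x1030109112101) (nat_lit 2819))
 (.leaf (nat_lit 0x1030109112141) (nat_lit 2054))
)))) (.node (nat_lit 0x1030509010101) (.node (nat_lit 0x1030501110101) (.node (nat_lit 0x1030501012101) (.node (nat_lit 0x1030501010141) (.leaf (nat_lit 0x1030501010101) (nat_lit 1030))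
 (.leaf (nat_lit 0x1030501010141) (nat_lit 1028))
) (.node (nat_lit 0x1030501012141) (.leaf (nat_lit 0x1030501012101) (nat_lit 1286))
 (.leaf (nat_lit 0x1030501012141) (nat_lit 1284))
)) (.node (nat_lit 0x1030501112101) (.node (nat_lit 0x1030501110141) (.leaf (nat_lit 0x1030501110101) (nat_lit 771))
 (.leaf (nat_lit 0x1030501110141) (nat_lit 1286))
) (.node (nat_lit 0x1030501112141) (.leaf (nat_lit 0x1030501112101) (nat_lit 1027))
 (.leaf (nat_lit 0x1030501112141) (nat_lit 1542))
))) (.node (nat_lit 0x1030509110101) (.node (nat_lit 0x1030509012101) (.node (nat_lit 0x1030509010141) (.leaf (nat_lit 0x1030509010101) (nat_lit 3078))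
 (.leaf (nat_lit 0x1030509010141) (nat_lit 1285))
) (.node (nat_lit 0x1030509012141) (.leaf (nat_lit 0x1030509012101) (nat_lit 2822))
 (.leaf (nat_lit 0x1030509012141) (nat_lit 1541))
)) (.node (nat_lit 0x1030509112101) (.node (nat_lit 0x1030509110141) (.leaf (nat_lit 0x1030509110101) (nat_lit 2819))
 (.leaf (nat_lit 0x1030509110141) (nat_lit 1542))
) (.node (nat_lit 0x1030509112141) (.leaf (nat_lit 0x1030509112101) (nat_lit 2563))
 (.leaf (nat_lit 0x1030509112141) (nat_lit 1798))
))))))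

theorem cA_ok : orbOK B7.A [(nat_lit 0x1010101010901), (nat_lit 0x1010121010101), (nat_lit 0x10101010d1901), (nat_lit 0x1012101010101), (nat_lit 0x10101010b0129), (nat_lit 0x1010101210101), (nat_lit 0x1010101090101)] (nat_lit 0x1010101012101) cA_t (nat_lit 63) = true := by decide +kernel

noncomputable def Dt_t : ST :=
(.node (nat_lit 0x1010181030123) (.node (nat_lit 0x10092c1028633) (.node (nat_lit 0x1004b96c4d596) (.node (nat_lit 0x10019d4c24122) (.node (nat_lit 0x1001055445001) (.node (nat_lit 0x1000b10c28120) (.node (nat_lit 0x1000904824120) (.node (nat_lit 0x10009028611a0) (.leaf (nat_lit 0x1000900820120) (nat_lit 772))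
 (.leaf (nat_lit 0x10009028611a0) (nat_lit 1284))
) (.node (nat_lit 0x10009068651a0) (.leaf (nat_lit 0x1000904824120) (nat_lit 1028))
 (.leaf (nat_lit 0x10009068651a0) (nat_lit 1028))
)) (.node (nat_lit 0x1000b14c2c120) (.node (nat_lit 0x1000b12c691a0) (.leaf (nat_lit 0x1000b10c28120) (nat_lit 1796))
 (.leaf (nat_lit 0x1000b12c691a0) (nat_lit 1540))
) (.node (nat_lit 0x1000b16c6d1a0) (.leaf (nat_lit 0x1000b14c2c120) (nat_lit 1540))
 (.node (nat_lit 0x1001041041001) (.leaf (nat_lit 0x1000b16c6d1a0) (nat_lit 1284))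
 (.leaf (nat_lit 0x1001041041001) (nat_lit 3844))
)))) (.node (nat_lit 0x10012c1069023) (.node (nat_lit 0x10010d5465023) (.node (nat_lit 0x10010c1061023) (.leaf (nat_lit 0x1001055445001) (nat_lit 2818))
 (.leaf (nat_lit 0x10010c1061023) (nat_lit 3333))
) (.node (nat_lit 0x1001241049001) (.leaf (nat_lit 0x10010d5465023) (nat_lit 3075))
 (.node (nat_lit 0x100125544d001) (.leaf (nat_lit 0x1001241049001) (nat_lit 3588))
 (.leaf (nat_lit 0x100125544d001) (nat_lit 3073))
))) (.node (nat_lit 0x1001843841081) (.node (nat_lit 0x10012d546d023) (.leaf (nat_lit 0x10012c1069023) (nat_lit 3589))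
 (.leaf (nat_lit 0x10012d546d023) (nat_lit 3331))
) (.node (nat_lit 0x1001857c45081) (.leaf (nat_lit 0x1001843841081) (nat_lit 2822))
 (.node (nat_lit 0x10019c0820122) (.leaf (nat_lit 0x1001857c45081) (nat_lit 2306))
 (.leaf (nat_lit 0x10019c0820122) (nat_lit 2819))
))))) (.node (nat_lit 0x100438402c126) (.node (nat_lit 0x1004104004104) (.node (nat_lit 0x1001a53c49081) (.node (nat_lit 0x1001a4784d081) (.leaf (nat_lit 0x10019d4c24122) (nat_lit 2563))
 (.leaf (nat_lit 0x1001a4784d081) (nat_lit 2561))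
) (.node (nat_lit 0x1001bc482c122) (.leaf (nat_lit 0x1001a53c49081) (nat_lit 2566))
 (.node (nat_lit 0x1001bd0c28122) (.leaf (nat_lit 0x1001bc482c122) (nat_lit 2563))
 (.leaf (nat_lit 0x1001bd0c28122) (nat_lit 2307))
))) (.node (nat_lit 0x1004104045514) (.node (nat_lit 0x1004104024124) (.leaf (nat_lit 0x1004104004104) (nat_lit 1542))
 (.leaf (nat_lit 0x1004104024124) (nat_lit 1283))
) (.node (nat_lit 0x1004104065534) (.leaf (nat_lit 0x1004104045514) (nat_lit 1538))
 (.node (nat_lit 0x100438400c106) (.leaf (nat_lit 0x1004104065534) (nat_lit 1798))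
 (.leaf (nat_lit 0x100438400c106) (nat_lit 2048))
)))) (.node (nat_lit 0x1004904804104) (.node (nat_lit 0x100438406d536) (.node (nat_lit 0x100438404d516) (.leaf (nat_lit 0x100438402c126) (nat_lit 2310))
 (.leaf (nat_lit 0x100438404d516) (nat_lit 1793))
) (.node (nat_lit 0x1004900820124) (.leaf (nat_lit 0x100438406d536) (nat_lit 2054))
 (.node (nat_lit 0x10049028615b4) (.leaf (nat_lit 0x1004900820124) (nat_lit 1027))
 (.leaf (nat_lit 0x10049028615b4) (nat_lit 1542))
))) (.node (nat_lit 0x1004b90c28126) (.node (nat_lit 0x1004906845594) (.leaf (nat_lit 0x1004904804104) (nat_lit 1286))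
 (.leaf (nat_lit 0x1004906845594) (nat_lit 1282))
) (.node (nat_lit 0x1004b92c695b6) (.leaf (nat_lit 0x1004b90c28126) (nat_lit 2054))
 (.node (nat_lit 0x1004b94c0c106) (.leaf (nat_lit 0x1004b92c695b6) (nat_lit 1798))
 (.leaf (nat_lit 0x1004b94c0c106) (nat_lit 1792))
)))))) (.node (nat_lit 0x1008201049201) (.node (nat_lit 0x1005843841495) (.node (nat_lit 0x10051d4424126) (.node (nat_lit 0x10050c1061437) (.node (nat_lit 0x1005041041415) (.leaf (nat_lit 0x1004b96c4d596) (nat_lit 1537))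
 (.leaf (nat_lit 0x1005041041415) (nat_lit 3333))
) (.node (nat_lit 0x1005154404104) (.leaf (nat_lit 0x10050c1061437) (nat_lit 2821))
 (.leaf (nat_lit 0x1005154404104) (nat_lit 2054))
)) (.node (nat_lit 0x10052c1049417) (.node (nat_lit 0x1005241069435) (.leaf (nat_lit 0x10051d4424126) (nat_lit 2310))
 (.leaf (nat_lit 0x1005241069435) (nat_lit 3077))
) (.node (nat_lit 0x100535442c124) (.leaf (nat_lit 0x10052c1049417) (nat_lit 3077))
 (.node (nat_lit 0x10053d440c106) (.leaf (nat_lit 0x100535442c124) (nat_lit 1795))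
 (.leaf (nat_lit 0x10053d440c106) (nat_lit 2048))
)))) (.node (nat_lit 0x1005ad3c49497) (.node (nat_lit 0x1005954c04104) (.node (nat_lit 0x10058d7c654b7) (.leaf (nat_lit 0x1005843841495) (nat_lit 3076))
 (.leaf (nat_lit 0x10058d7c654b7) (nat_lit 2564))
) (.node (nat_lit 0x10059c0820126) (.leaf (nat_lit 0x1005954c04104) (nat_lit 2310))
 (.node (nat_lit 0x1005a4786d4b5) (.leaf (nat_lit 0x10059c0820126) (nat_lit 2566))
 (.leaf (nat_lit 0x1005a4786d4b5) (nat_lit 2820))
))) (.node (nat_lit 0x1005bc480c106) (.node (nat_lit 0x1005b50c28124) (.leaf (nat_lit 0x1005ad3c49497) (nat_lit 2820))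
 (.leaf (nat_lit 0x1005b50c28124) (nat_lit 2051))
) (.node (nat_lit 0x1008201008201) (.leaf (nat_lit 0x1005bc480c106) (nat_lit 2304))
 (.node (nat_lit 0x1008201028631) (.leaf (nat_lit 0x1008201008201) (nat_lit 3588))
 (.leaf (nat_lit 0x1008201028631) (nat_lit 3589))
))))) (.node (nat_lit 0x1008a11c08201) (.node (nat_lit 0x100820706d6b1) (.node (nat_lit 0x100820700c281) (.node (nat_lit 0x1008201069631) (.leaf (nat_lit 0x1008201049201) (nat_lit 3844))
 (.leaf (nat_lit 0x1008201069631) (nat_lit 3333))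
) (.node (nat_lit 0x100820702c6b1) (.leaf (nat_lit 0x100820700c281) (nat_lit 3072))
 (.node (nat_lit 0x100820704d281) (.leaf (nat_lit 0x100820702c6b1) (nat_lit 3331))
 (.leaf (nat_lit 0x100820704d281) (nat_lit 2817))
))) (.node (nat_lit 0x10089028617b0) (.node (nat_lit 0x1008900820730) (.leaf (nat_lit 0x100820706d6b1) (nat_lit 3075))
 (.leaf (nat_lit 0x1008900820730) (nat_lit 2307))
) (.node (nat_lit 0x1008904865730) (.leaf (nat_lit 0x10089028617b0) (nat_lit 1795))
 (.node (nat_lit 0x10089068247b0) (.leaf (nat_lit 0x1008904865730) (nat_lit 2051))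
 (.leaf (nat_lit 0x10089068247b0) (nat_lit 2051))
)))) (.node (nat_lit 0x1009057445281) (.node (nat_lit 0x1008a15c4d201) (.node (nat_lit 0x1008a13c49281) (.leaf (nat_lit 0x1008a11c08201) (nat_lit 3078))
 (.leaf (nat_lit 0x1008a13c49281) (nat_lit 2819))
) (.node (nat_lit 0x1008a17c0c281) (.leaf (nat_lit 0x1008a15c4d201) (nat_lit 2817))
 (.node (nat_lit 0x1009041041201) (.leaf (nat_lit 0x1008a17c0c281) (nat_lit 3072))
 (.leaf (nat_lit 0x1009041041201) (nat_lit 3590))
))) (.node (nat_lit 0x10090d74656b3) (.node (nat_lit 0x10090c1061633) (.leaf (nat_lit 0x1009057445281) (nat_lit 2562))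
 (.leaf (nat_lit 0x10090c1061633) (nat_lit 3077))
) (.node (nat_lit 0x1009241008201) (.leaf (nat_lit 0x10090d74656b3) (nat_lit 2819))
 (.node (nat_lit 0x100925740c281) (.leaf (nat_lit 0x1009241008201) (nat_lit 3332))
 (.leaf (nat_lit 0x100925740c281) (nat_lit 2822))
))))))) (.node (nat_lit 0x100dad1c08207) (.node (nat_lit 0x100c9028613a4) (.node (nat_lit 0x1009bd2c697b2) (.node (nat_lit 0x10099c0820732) (.node (nat_lit 0x1009843841281) (.node (nat_lit 0x10092d742c6b3) (.leaf (nat_lit 0x10092c1028633) (nat_lit 3334))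
 (.leaf (nat_lit 0x10092d742c6b3) (nat_lit 3078))
) (.node (nat_lit 0x1009855c45201) (.leaf (nat_lit 0x1009843841281) (nat_lit 3078))
 (.leaf (nat_lit 0x1009855c45201) (nat_lit 2562))
)) (.node (nat_lit 0x1009a4780c281) (.node (nat_lit 0x10099d6c247b2) (.leaf (nat_lit 0x10099c0820732) (nat_lit 2563))
 (.leaf (nat_lit 0x10099d6c247b2) (nat_lit 2307))
) (.node (nat_lit 0x1009a51c08201) (.leaf (nat_lit 0x1009a4780c281) (nat_lit 2816))
 (.node (nat_lit 0x1009bc486d732) (.leaf (nat_lit 0x1009a51c08201) (nat_lit 2822))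
 (.leaf (nat_lit 0x1009bc486d732) (nat_lit 2307))
)))) (.node (nat_lit 0x100c281008207) (.node (nat_lit 0x100c1060247b4) (.node (nat_lit 0x100c106004384) (.leaf (nat_lit 0x1009bd2c697b2) (nat_lit 2051))
 (.leaf (nat_lit 0x100c106004384) (nat_lit 1542))
) (.node (nat_lit 0x100c106045794) (.leaf (nat_lit 0x100c1060247b4) (nat_lit 1798))
 (.node (nat_lit 0x100c1060653a4) (.leaf (nat_lit 0x100c106045794) (nat_lit 1538))
 (.leaf (nat_lit 0x100c1060653a4) (nat_lit 1283))
))) (.node (nat_lit 0x100c281049617) (.node (nat_lit 0x100c281028637) (.leaf (nat_lit 0x100c281008207) (nat_lit 3589))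
 (.leaf (nat_lit 0x100c281028637) (nat_lit 3590))
) (.node (nat_lit 0x100c281069227) (.leaf (nat_lit 0x100c281049617) (nat_lit 3333))
 (.node (nat_lit 0x100c900820734) (.leaf (nat_lit 0x100c281069227) (nat_lit 3333))
 (.leaf (nat_lit 0x100c900820734) (nat_lit 2054))
))))) (.node (nat_lit 0x100d1d64247b6) (.node (nat_lit 0x100ca95c6d227) (.node (nat_lit 0x100c906804384) (.node (nat_lit 0x100c904845714) (.leaf (nat_lit 0x100c9028613a4) (nat_lit 1539))
 (.leaf (nat_lit 0x100c904845714) (nat_lit 1794))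
) (.node (nat_lit 0x100ca91c08207) (.leaf (nat_lit 0x100c906804384) (nat_lit 1798))
 (.node (nat_lit 0x100ca93c49697) (.leaf (nat_lit 0x100ca91c08207) (nat_lit 3332))
 (.leaf (nat_lit 0x100ca93c49697) (nat_lit 3075))
))) (.node (nat_lit 0x100d041041615) (.node (nat_lit 0x100ca97c2c6b7) (.leaf (nat_lit 0x100ca95c6d227) (nat_lit 3076))
 (.leaf (nat_lit 0x100ca97c2c6b7) (nat_lit 3334))
) (.node (nat_lit 0x100d0c1061227) (.leaf (nat_lit 0x100d041041615) (nat_lit 3589))
 (.node (nat_lit 0x100d156404384) (.leaf (nat_lit 0x100d0c1061227) (nat_lit 3077))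
 (.leaf (nat_lit 0x100d156404384) (nat_lit 1798))
)))) (.node (nat_lit 0x100d843841695) (.node (nat_lit 0x100d2c1008207) (.node (nat_lit 0x100d241028635) (.leaf (nat_lit 0x100d1d64247b6) (nat_lit 2054))
 (.leaf (nat_lit 0x100d241028635) (nat_lit 3333))
) (.node (nat_lit 0x100d35646d3a4) (.leaf (nat_lit 0x100d2c1008207) (nat_lit 3333))
 (.node (nat_lit 0x100d3d644d796) (.leaf (nat_lit 0x100d35646d3a4) (nat_lit 1539))
 (.leaf (nat_lit 0x100d3d644d796) (nat_lit 1793))
))) (.node (nat_lit 0x100d956c04384) (.node (nat_lit 0x100d8d5c65227) (.leaf (nat_lit 0x100d843841695) (nat_lit 3332))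
 (.leaf (nat_lit 0x100d8d5c65227) (nat_lit 2820))
) (.node (nat_lit 0x100d9c0820736) (.leaf (nat_lit 0x100d956c04384) (nat_lit 2054))
 (.node (nat_lit 0x100da4782c6b5) (.leaf (nat_lit 0x100d9c0820736) (nat_lit 2310))
 (.leaf (nat_lit 0x100da4782c6b5) (nat_lit 3076))
)))))) (.node (nat_lit 0x1010101071121) (.node (nat_lit 0x10100820714b2) (.node (nat_lit 0x1010014455410) (.node (nat_lit 0x100dbc484d716) (.node (nat_lit 0x100db52c693a4) (.leaf (nat_lit 0x100dad1c08207) (nat_lit 3076))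
 (.leaf (nat_lit 0x100db52c693a4) (nat_lit 1795))
) (.node (nat_lit 0x1010010410410) (.leaf (nat_lit 0x100dbc484d716) (nat_lit 2049))
 (.node (nat_lit 0x1010012410490) (.leaf (nat_lit 0x1010010410410) (nat_lit 2820))
 (.leaf (nat_lit 0x1010012410490) (nat_lit 3076))
))) (.node (nat_lit 0x1010082010082) (.node (nat_lit 0x1010016455490) (.leaf (nat_lit 0x1010014455410) (nat_lit 3329))
 (.leaf (nat_lit 0x1010016455490) (nat_lit 3076))
) (.node (nat_lit 0x1010082010492) (.leaf (nat_lit 0x1010082010082) (nat_lit 3074))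
 (.node (nat_lit 0x10100820710a2) (.leaf (nat_lit 0x1010082010492) (nat_lit 2821))
 (.leaf (nat_lit 0x10100820710a2) (nat_lit 3075))
)))) (.node (nat_lit 0x1010101010511) (.node (nat_lit 0x1010092410082) (.node (nat_lit 0x1010090410412) (.leaf (nat_lit 0x10100820714b2) (nat_lit 2819))
 (.leaf (nat_lit 0x1010090410412) (nat_lit 2564))
) (.node (nat_lit 0x1010094475432) (.leaf (nat_lit 0x1010092410082) (nat_lit 2820))
 (.node (nat_lit 0x10100964750a2) (.leaf (nat_lit 0x1010094475432) (nat_lit 3075))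
 (.leaf (nat_lit 0x10100964750a2) (nat_lit 2820))
))) (.node (nat_lit 0x1010101030531) (.node (nat_lit 0x1010101030121) (.leaf (nat_lit 0x1010101010511) (nat_lit 2049))
 (.leaf (nat_lit 0x1010101030121) (nat_lit 0))
) (.node (nat_lit 0x1010101051101) (.leaf (nat_lit 0x1010101030531) (nat_lit 1027))
 (.node (nat_lit 0x1010101051511) (.leaf (nat_lit 0x1010101051101) (nat_lit 4099))
 (.leaf (nat_lit 0x1010101051511) (nat_lit 3077))
))))) (.node (nat_lit 0x1010107014181) (.node (nat_lit 0x1010103051591) (.node (nat_lit 0x1010103010181) (.node (nat_lit 0x1010101071531) (.leaf (nat_lit 0x1010101071121) (nat_lit 3077))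
 (.leaf (nat_lit 0x1010101071531) (nat_lit 2053))
) (.node (nat_lit 0x1010103010591) (.leaf (nat_lit 0x1010103010181) (nat_lit 2561))
 (.node (nat_lit 0x1010103051181) (.leaf (nat_lit 0x1010103010591) (nat_lit 2309))
 (.leaf (nat_lit 0x1010103051181) (nat_lit 2564))
))) (.node (nat_lit 0x1010105034121) (.node (nat_lit 0x1010105014101) (.leaf (nat_lit 0x1010103051591) (nat_lit 2820))
 (.leaf (nat_lit 0x1010105014101) (nat_lit 516))
) (.node (nat_lit 0x1010105055101) (.leaf (nat_lit 0x1010105034121) (nat_lit 261))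
 (.node (nat_lit 0x1010105075121) (.leaf (nat_lit 0x1010105055101) (nat_lit 2563))
 (.leaf (nat_lit 0x1010105075121) (nat_lit 2820))
)))) (.node (nat_lit 0x1010113410181) (.node (nat_lit 0x1010107055181) (.node (nat_lit 0x10101070345b1) (.leaf (nat_lit 0x1010107014181) (nat_lit 1539))
 (.leaf (nat_lit 0x10101070345b1) (nat_lit 1285))
) (.node (nat_lit 0x10101070755b1) (.leaf (nat_lit 0x1010107055181) (nat_lit 1540))
 (.node (nat_lit 0x1010111410101) (.leaf (nat_lit 0x10101070755b1) (nat_lit 1796))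
 (.leaf (nat_lit 0x1010111410101) (nat_lit 2050))
))) (.node (nat_lit 0x1010117414181) (.node (nat_lit 0x1010115414101) (.leaf (nat_lit 0x1010113410181) (nat_lit 2306))
 (.leaf (nat_lit 0x1010115414101) (nat_lit 2051))
) (.node (nat_lit 0x1010181010103) (.leaf (nat_lit 0x1010117414181) (nat_lit 1795))
 (.node (nat_lit 0x1010181010513) (.leaf (nat_lit 0x1010181010103) (nat_lit 1538))
 (.leaf (nat_lit 0x1010181010513) (nat_lit 1794))
)))))))) (.node (nat_lit 0x10150d0410416) (.node (nat_lit 0x1010903810181) (.node (nat_lit 0x1010301038121) (.node (nat_lit 0x101021643c4b0) (.node (nat_lit 0x1010195434123) (.node (nat_lit 0x1010191410103) (.node (nat_lit 0x1010181030533) (.leaf (nat_lit 0x1010181030123) (nat_lit 1539))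
 (.leaf (nat_lit 0x1010181030533) (nat_lit 1283))
) (.node (nat_lit 0x1010193410593) (.leaf (nat_lit 0x1010191410103) (nat_lit 1797))
 (.leaf (nat_lit 0x1010193410593) (nat_lit 2053))
)) (.node (nat_lit 0x1010210438430) (.node (nat_lit 0x10101974345b3) (.leaf (nat_lit 0x1010195434123) (nat_lit 1797))
 (.leaf (nat_lit 0x10101974345b3) (nat_lit 1541))
) (.node (nat_lit 0x10102124794b0) (.leaf (nat_lit 0x1010210438430) (nat_lit 2307))
 (.node (nat_lit 0x101021447d430) (.leaf (nat_lit 0x10102124794b0) (nat_lit 2563))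
 (.leaf (nat_lit 0x101021447d430) (nat_lit 2819))
)))) (.node (nat_lit 0x1010290438432) (.node (nat_lit 0x101028603c4b2) (.node (nat_lit 0x101028601c082) (.leaf (nat_lit 0x101021643c4b0) (nat_lit 2563))
 (.leaf (nat_lit 0x101028601c082) (nat_lit 3074))
) (.node (nat_lit 0x101028605d492) (.leaf (nat_lit 0x101028603c4b2) (nat_lit 2819))
 (.node (nat_lit 0x101028607d0a2) (.leaf (nat_lit 0x101028605d492) (nat_lit 3330))
 (.leaf (nat_lit 0x101028607d0a2) (nat_lit 3075))
))) (.node (nat_lit 0x101029445d412) (.node (nat_lit 0x10102924790a2) (.leaf (nat_lit 0x1010290438432) (nat_lit 2563))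
 (.leaf (nat_lit 0x10102924790a2) (nat_lit 2819))
) (.node (nat_lit 0x101029641c082) (.leaf (nat_lit 0x101029445d412) (nat_lit 3074))
 (.node (nat_lit 0x1010301018101) (.leaf (nat_lit 0x101029641c082) (nat_lit 2818))
 (.leaf (nat_lit 0x1010301018101) (nat_lit 3587))
))))) (.node (nat_lit 0x101031745d181) (.node (nat_lit 0x101030505d101) (.node (nat_lit 0x1010301079121) (.node (nat_lit 0x1010301059101) (.leaf (nat_lit 0x1010301038121) (nat_lit 3589))
 (.leaf (nat_lit 0x1010301059101) (nat_lit 3843))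
) (.node (nat_lit 0x101030501c101) (.leaf (nat_lit 0x1010301079121) (nat_lit 3333))
 (.node (nat_lit 0x101030503c121) (.leaf (nat_lit 0x101030501c101) (nat_lit 3075))
 (.leaf (nat_lit 0x101030503c121) (nat_lit 3332))
))) (.node (nat_lit 0x1010311418101) (.node (nat_lit 0x101030507d121) (.leaf (nat_lit 0x101030505d101) (nat_lit 2819))
 (.leaf (nat_lit 0x101030507d121) (nat_lit 3076))
) (.node (nat_lit 0x1010313459181) (.leaf (nat_lit 0x1010311418101) (nat_lit 2052))
 (.node (nat_lit 0x101031541c101) (.leaf (nat_lit 0x1010313459181) (nat_lit 2308))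
 (.leaf (nat_lit 0x101031541c101) (nat_lit 2052))
)))) (.node (nat_lit 0x1010391418103) (.node (nat_lit 0x1010381038123) (.node (nat_lit 0x1010381018103) (.leaf (nat_lit 0x101031745d181) (nat_lit 1796))
 (.leaf (nat_lit 0x1010381018103) (nat_lit 2565))
) (.node (nat_lit 0x1010381059513) (.leaf (nat_lit 0x1010381038123) (nat_lit 2565))
 (.node (nat_lit 0x1010381079533) (.leaf (nat_lit 0x1010381059513) (nat_lit 2821))
 (.leaf (nat_lit 0x1010381079533) (nat_lit 2309))
))) (.node (nat_lit 0x101039543c123) (.node (nat_lit 0x1010393459593) (.leaf (nat_lit 0x1010391418103) (nat_lit 2308))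
 (.leaf (nat_lit 0x1010393459593) (nat_lit 2564))
) (.node (nat_lit 0x101039747d5b3) (.leaf (nat_lit 0x101039543c123) (nat_lit 2308))
 (.node (nat_lit 0x1010901810101) (.leaf (nat_lit 0x101039747d5b3) (nat_lit 2052))
 (.leaf (nat_lit 0x1010901810101) (nat_lit 1030))
)))))) (.node (nat_lit 0x1011ad6c1c082) (.node (nat_lit 0x10111d1410103) (.node (nat_lit 0x1010915c14101) (.node (nat_lit 0x1010907814181) (.node (nat_lit 0x1010905814101) (.leaf (nat_lit 0x1010903810181) (nat_lit 1026))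
 (.leaf (nat_lit 0x1010905814101) (nat_lit 771))
) (.node (nat_lit 0x1010911c10101) (.leaf (nat_lit 0x1010907814181) (nat_lit 1286))
 (.node (nat_lit 0x1010913c10181) (.leaf (nat_lit 0x1010911c10101) (nat_lit 1536))
 (.leaf (nat_lit 0x1010913c10181) (nat_lit 1281))
))) (.node (nat_lit 0x1011141010101) (.node (nat_lit 0x1010917c14181) (.leaf (nat_lit 0x1010915c14101) (nat_lit 1798))
 (.leaf (nat_lit 0x1010917c14181) (nat_lit 1542))
) (.node (nat_lit 0x1011151410101) (.leaf (nat_lit 0x1011141010101) (nat_lit 3076))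
 (.node (nat_lit 0x10111c1010103) (.leaf (nat_lit 0x1011151410101) (nat_lit 2566))
 (.leaf (nat_lit 0x10111c1010103) (nat_lit 3078))
)))) (.node (nat_lit 0x10118c2810082) (.node (nat_lit 0x1011351418101) (.node (nat_lit 0x1011341018101) (.leaf (nat_lit 0x10111d1410103) (nat_lit 2822))
 (.leaf (nat_lit 0x1011341018101) (nat_lit 3334))
) (.node (nat_lit 0x10113c1018103) (.leaf (nat_lit 0x1011351418101) (nat_lit 2307))
 (.node (nat_lit 0x10113d1418103) (.leaf (nat_lit 0x10113c1018103) (nat_lit 2821))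
 (.leaf (nat_lit 0x10113d1418103) (nat_lit 2563))
))) (.node (nat_lit 0x1011941810101) (.node (nat_lit 0x10118d2c10082) (.leaf (nat_lit 0x10118c2810082) (nat_lit 2562))
 (.leaf (nat_lit 0x10118d2c10082) (nat_lit 2306))
) (.node (nat_lit 0x1011951c10101) (.leaf (nat_lit 0x1011941810101) (nat_lit 2560))
 (.node (nat_lit 0x1011ac681c082) (.leaf (nat_lit 0x1011951c10101) (nat_lit 2566))
 (.leaf (nat_lit 0x1011ac681c082) (nat_lit 2818))
))))) (.node (nat_lit 0x1014181030537) (.node (nat_lit 0x1014101030125) (.node (nat_lit 0x1011b55c1c101) (.node (nat_lit 0x1011b4581c101) (.leaf (nat_lit 0x1011ad6c1c082) (nat_lit 2562))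
 (.leaf (nat_lit 0x1011b4581c101) (nat_lit 2822))
) (.node (nat_lit 0x1014101010105) (.leaf (nat_lit 0x1011b55c1c101) (nat_lit 2307))
 (.node (nat_lit 0x1014101010515) (.leaf (nat_lit 0x1014101010105) (nat_lit 516))
 (.leaf (nat_lit 0x1014101010515) (nat_lit 514))
))) (.node (nat_lit 0x1014181010107) (.node (nat_lit 0x1014101030535) (.leaf (nat_lit 0x1014101030125) (nat_lit 259))
 (.leaf (nat_lit 0x1014101030535) (nat_lit 772))
) (.node (nat_lit 0x1014181010517) (.leaf (nat_lit 0x1014181010107) (nat_lit 1024))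
 (.node (nat_lit 0x1014181030127) (.leaf (nat_lit 0x1014181010517) (nat_lit 769))
 (.leaf (nat_lit 0x1014181030127) (nat_lit 1284))
)))) (.node (nat_lit 0x1014991c10107) (.node (nat_lit 0x1014903810595) (.node (nat_lit 0x1014901810105) (.leaf (nat_lit 0x1014181030537) (nat_lit 1028))
 (.leaf (nat_lit 0x1014901810105) (nat_lit 773))
) (.node (nat_lit 0x1014905834125) (.leaf (nat_lit 0x1014903810595) (nat_lit 773))
 (.node (nat_lit 0x10149078345b5) (.leaf (nat_lit 0x1014905834125) (nat_lit 517))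
 (.leaf (nat_lit 0x10149078345b5) (nat_lit 1029))
))) (.node (nat_lit 0x1014995c34127) (.node (nat_lit 0x1014993c10597) (.leaf (nat_lit 0x1014991c10107) (nat_lit 1285))
 (.leaf (nat_lit 0x1014993c10597) (nat_lit 1029))
) (.node (nat_lit 0x1014997c345b7) (.leaf (nat_lit 0x1014995c34127) (nat_lit 1541))
 (.node (nat_lit 0x1015050410414) (.leaf (nat_lit 0x1014997c345b7) (nat_lit 1285))
 (.leaf (nat_lit 0x1015050410414) (nat_lit 1794))
))))))) (.node (nat_lit 0x10198c2810692) (.node (nat_lit 0x1018103010381) (.node (nat_lit 0x1015941810105) (.node (nat_lit 0x10152d0438436) (.node (nat_lit 0x10151c1010107) (.node (nat_lit 0x1015141010105) (.leaf (nat_lit 0x10150d0410416) (nat_lit 2049))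
 (.leaf (nat_lit 0x1015141010105) (nat_lit 3077))
) (.node (nat_lit 0x1015250438434) (.leaf (nat_lit 0x10151c1010107) (nat_lit 3077))
 (.leaf (nat_lit 0x1015250438434) (nat_lit 2054))
)) (.node (nat_lit 0x10153c1038127) (.node (nat_lit 0x1015341038125) (.leaf (nat_lit 0x10152d0438436) (nat_lit 2310))
 (.leaf (nat_lit 0x1015341038125) (nat_lit 3333))
) (.node (nat_lit 0x1015852c10494) (.leaf (nat_lit 0x10153c1038127) (nat_lit 2821))
 (.node (nat_lit 0x10158c2810496) (.leaf (nat_lit 0x1015852c10494) (nat_lit 2050))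
 (.leaf (nat_lit 0x10158c2810496) (nat_lit 2305))
)))) (.node (nat_lit 0x1015bd5c3c127) (.node (nat_lit 0x1015a56c3c4b4) (.node (nat_lit 0x10159d1c10107) (.leaf (nat_lit 0x1015941810105) (nat_lit 2820))
 (.leaf (nat_lit 0x10159d1c10107) (nat_lit 2820))
) (.node (nat_lit 0x1015ac683c4b6) (.leaf (nat_lit 0x1015a56c3c4b4) (nat_lit 2310))
 (.node (nat_lit 0x1015b4583c125) (.leaf (nat_lit 0x1015ac683c4b6) (nat_lit 2566))
 (.leaf (nat_lit 0x1015b4583c125) (nat_lit 3076))
))) (.node (nat_lit 0x1018101010711) (.node (nat_lit 0x1018101010301) (.leaf (nat_lit 0x1015bd5c3c127) (nat_lit 2564))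
 (.leaf (nat_lit 0x1018101010301) (nat_lit 3588))
) (.node (nat_lit 0x1018101051301) (.leaf (nat_lit 0x1018101010711) (nat_lit 3589))
 (.node (nat_lit 0x1018101051711) (.leaf (nat_lit 0x1018101051301) (nat_lit 3844))
 (.leaf (nat_lit 0x1018101051711) (nat_lit 3333))
))))) (.node (nat_lit 0x1018905855301) (.node (nat_lit 0x1018812c10690) (.node (nat_lit 0x1018103051381) (.node (nat_lit 0x1018103010791) (.leaf (nat_lit 0x1018103010381) (nat_lit 3074))
 (.leaf (nat_lit 0x1018103010791) (nat_lit 3330))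
) (.node (nat_lit 0x1018103051791) (.leaf (nat_lit 0x1018103051381) (nat_lit 2819))
 (.node (nat_lit 0x1018810c10610) (.leaf (nat_lit 0x1018103051791) (nat_lit 3075))
 (.leaf (nat_lit 0x1018810c10610) (nat_lit 2817))
))) (.node (nat_lit 0x1018816c55690) (.node (nat_lit 0x1018814c55610) (.leaf (nat_lit 0x1018812c10690) (nat_lit 3073))
 (.leaf (nat_lit 0x1018814c55610) (nat_lit 3073))
) (.node (nat_lit 0x1018901810301) (.leaf (nat_lit 0x1018816c55690) (nat_lit 3331))
 (.node (nat_lit 0x1018903810381) (.leaf (nat_lit 0x1018901810301) (nat_lit 2050))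
 (.leaf (nat_lit 0x1018903810381) (nat_lit 2054))
)))) (.node (nat_lit 0x10191d3410793) (.node (nat_lit 0x1019141010301) (.node (nat_lit 0x1018907855381) (.leaf (nat_lit 0x1018905855301) (nat_lit 2310))
 (.leaf (nat_lit 0x1018907855381) (nat_lit 1795))
) (.node (nat_lit 0x1019153410381) (.leaf (nat_lit 0x1019141010301) (nat_lit 3332))
 (.node (nat_lit 0x10191c1010713) (.leaf (nat_lit 0x1019153410381) (nat_lit 2822))
 (.leaf (nat_lit 0x10191c1010713) (nat_lit 3334))
))) (.node (nat_lit 0x1019353459381) (.node (nat_lit 0x1019341059301) (.leaf (nat_lit 0x10191d3410793) (nat_lit 3078))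
 (.leaf (nat_lit 0x1019341059301) (nat_lit 3590))
) (.node (nat_lit 0x10193c1059713) (.leaf (nat_lit 0x1019353459381) (nat_lit 2563))
 (.node (nat_lit 0x10193d3459793) (.leaf (nat_lit 0x10193c1059713) (nat_lit 3077))
 (.leaf (nat_lit 0x10193d3459793) (nat_lit 2819))
)))))) (.node (nat_lit 0x101c901810305) (.node (nat_lit 0x101c0820712a6) (.node (nat_lit 0x1019ad4c5d612) (.node (nat_lit 0x1019941810301) (.node (nat_lit 0x10198d0c10612) (.leaf (nat_lit 0x10198c2810692) (nat_lit 2818))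
 (.leaf (nat_lit 0x10198d0c10612) (nat_lit 2562))
) (.node (nat_lit 0x1019953c10381) (.leaf (nat_lit 0x1019941810301) (nat_lit 2305))
 (.node (nat_lit 0x1019ac685d692) (.leaf (nat_lit 0x1019953c10381) (nat_lit 2310))
 (.leaf (nat_lit 0x1019ac685d692) (nat_lit 3074))
))) (.node (nat_lit 0x1019b57c5d381) (.node (nat_lit 0x1019b4585d301) (.leaf (nat_lit 0x1019ad4c5d612) (nat_lit 2818))
 (.leaf (nat_lit 0x1019b4585d301) (nat_lit 2566))
) (.node (nat_lit 0x101c082010286) (.leaf (nat_lit 0x1019b57c5d381) (nat_lit 2051))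
 (.node (nat_lit 0x101c082010696) (.leaf (nat_lit 0x101c082010286) (nat_lit 2560))
 (.leaf (nat_lit 0x101c082010696) (nat_lit 2305))
)))) (.node (nat_lit 0x101c101071735) (.node (nat_lit 0x101c101010305) (.node (nat_lit 0x101c0820716b6) (.leaf (nat_lit 0x101c0820712a6) (nat_lit 2822))
 (.leaf (nat_lit 0x101c0820716b6) (nat_lit 2566))
) (.node (nat_lit 0x101c101010715) (.leaf (nat_lit 0x101c101010305) (nat_lit 2565))
 (.node (nat_lit 0x101c101071325) (.leaf (nat_lit 0x101c101010715) (nat_lit 2565))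
 (.leaf (nat_lit 0x101c101071325) (nat_lit 2821))
))) (.node (nat_lit 0x101c892c10286) (.node (nat_lit 0x101c890c10616) (.leaf (nat_lit 0x101c101071735) (nat_lit 2309))
 (.leaf (nat_lit 0x101c890c10616) (nat_lit 2561))
) (.node (nat_lit 0x101c894c75636) (.leaf (nat_lit 0x101c892c10286) (nat_lit 2816))
 (.node (nat_lit 0x101c896c752a6) (.leaf (nat_lit 0x101c894c75636) (nat_lit 2822))
 (.leaf (nat_lit 0x101c896c752a6) (nat_lit 3078))
))))) (.node (nat_lit 0x101d341079325) (.node (nat_lit 0x101d0d2410286) (.node (nat_lit 0x101c905875325) (.node (nat_lit 0x101c903810795) (.leaf (nat_lit 0x101c901810305) (nat_lit 2308))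
 (.leaf (nat_lit 0x101c903810795) (nat_lit 2308))
) (.node (nat_lit 0x101c9078757b5) (.leaf (nat_lit 0x101c905875325) (nat_lit 2564))
 (.node (nat_lit 0x101d052410694) (.leaf (nat_lit 0x101c9078757b5) (nat_lit 2052))
 (.leaf (nat_lit 0x101d052410694) (nat_lit 2050))
))) (.node (nat_lit 0x101d1c1010717) (.node (nat_lit 0x101d141010305) (.leaf (nat_lit 0x101d0d2410286) (nat_lit 2304))
 (.leaf (nat_lit 0x101d141010305) (nat_lit 2821))
) (.node (nat_lit 0x101d2524796b4) (.leaf (nat_lit 0x101d1c1010717) (nat_lit 2821))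
 (.node (nat_lit 0x101d2d24792a6) (.leaf (nat_lit 0x101d2524796b4) (nat_lit 2310))
 (.leaf (nat_lit 0x101d2d24792a6) (nat_lit 2566))
)))) (.node (nat_lit 0x101d9d3c10797) (.node (nat_lit 0x101d850c10614) (.node (nat_lit 0x101d3c1079737) (.leaf (nat_lit 0x101d341079325) (nat_lit 3077))
 (.leaf (nat_lit 0x101d3c1079737) (nat_lit 2565))
) (.node (nat_lit 0x101d8c2810286) (.leaf (nat_lit 0x101d850c10614) (nat_lit 2306))
 (.node (nat_lit 0x101d941810305) (.leaf (nat_lit 0x101d8c2810286) (nat_lit 2560))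
 (.leaf (nat_lit 0x101d941810305) (nat_lit 2564))
))) (.node (nat_lit 0x101dac687d2a6) (.node (nat_lit 0x101da54c7d634) (.leaf (nat_lit 0x101d9d3c10797) (nat_lit 2564))
 (.leaf (nat_lit 0x101da54c7d634) (nat_lit 2566))
) (.node (nat_lit 0x101db4587d325) (.leaf (nat_lit 0x101dac687d2a6) (nat_lit 2822))
 (.node (nat_lit 0x101dbd7c7d7b7) (.leaf (nat_lit 0x101db4587d325) (nat_lit 2820))
 (.leaf (nat_lit 0x101dbd7c7d7b7) (nat_lit 2308))
)))))))))

theorem Dt_ok : orbOK B7.A [(nat_lit 0x1010101010901), (nat_lit 0x1010121010101), (nat_lit 0x10101010d1901), (nat_lit 0x1012101010101), (nat_lit 0x10101010b0129), (nat_lit 0x1010101210101), (nat_lit 0x1010101090101)] (nat_lit 0x1010101030121) Dt_t (nat_lit 315) = true := by decide +kernel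

noncomputable def TL_t : ST :=
(.node (nat_lit 0x10101010b0129) (.node (nat_lit 0x1006904aa412c) (.node (nat_lit 0x1002905a84101) (.leaf (nat_lit 0x1002101080101) (nat_lit 257))
 (.node (nat_lit 0x10061010a012d) (.leaf (nat_lit 0x1002905a84101) (nat_lit 1284))
 (.leaf (nat_lit 0x10061010a012d) (nat_lit 770))
)) (.node (nat_lit 0x1010101010109) (.node (nat_lit 0x1010100210108) (.leaf (nat_lit 0x1006904aa412c) (nat_lit 1027))
 (.leaf (nat_lit 0x1010100210108) (nat_lit 1796))
) (.node (nat_lit 0x1010101090101) (.leaf (nat_lit 0x1010101010109) (nat_lit 2051))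
 (.leaf (nat_lit 0x1010101090101) (nat_lit 0))
))) (.node (nat_lit 0x1012101010101) (.node (nat_lit 0x10101042b4128) (.node (nat_lit 0x1010101210101) (.leaf (nat_lit 0x10101010b0129) (nat_lit 1025))
 (.leaf (nat_lit 0x1010101210101) (nat_lit 1538))
) (.node (nat_lit 0x1010105294101) (.leaf (nat_lit 0x10101042b4128) (nat_lit 1283))
 (.leaf (nat_lit 0x1010105294101) (nat_lit 1540))
)) (.node (nat_lit 0x101610101010d) (.node (nat_lit 0x1012901a10101) (.leaf (nat_lit 0x1012101010101) (nat_lit 512))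
 (.leaf (nat_lit 0x1012901a10101) (nat_lit 1028))
) (.node (nat_lit 0x1016900a1010c) (.leaf (nat_lit 0x101610101010d) (nat_lit 514))
 (.leaf (nat_lit 0x1016900a1010c) (nat_lit 771))
))))

theorem TL_ok : orbOK B7.A [(nat_lit 0x1010101090101), (nat_lit 0x1012101010101), (nat_lit 0x10101010b0129), (nat_lit 0x1010101210101), (nat_lit 0x1010101010109)] (nat_lit 0x1010101090101) TL_t (nat_lit 15) = true := by decide +kernel

noncomputable def IK_t : ST :=
(.node (nat_lit 0x1010103090181) (.node (nat_lit 0x1010101090901) (.node (nat_lit 0x1010101051511) (.node (nat_lit 0x1010101030129) (.node (nat_lit 0x1010101010909) (.node (nat_lit 0x1010101010519) (.node (nat_lit 0x1010101010511) (.leaf (nat_lit 0x1010101010109) (nat_lit 0))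
 (.leaf (nat_lit 0x1010101010511) (nat_lit 0))
) (.node (nat_lit 0x1010101010901) (.leaf (nat_lit 0x1010101010519) (nat_lit 0))
 (.leaf (nat_lit 0x1010101010901) (nat_lit 0))
)) (.node (nat_lit 0x1010101010d19) (.node (nat_lit 0x1010101010d11) (.leaf (nat_lit 0x1010101010909) (nat_lit 0))
 (.leaf (nat_lit 0x1010101010d11) (nat_lit 0))
) (.node (nat_lit 0x1010101030121) (.leaf (nat_lit 0x1010101010d19) (nat_lit 0))
 (.leaf (nat_lit 0x1010101030121) (nat_lit 0))
))) (.node (nat_lit 0x1010101030929) (.node (nat_lit 0x1010101030539) (.node (nat_lit 0x1010101030531) (.leaf (nat_lit 0x1010101030129) (nat_lit 0))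
 (.leaf (nat_lit 0x1010101030531) (nat_lit 0))
) (.node (nat_lit 0x1010101030921) (.leaf (nat_lit 0x1010101030539) (nat_lit 0))
 (.leaf (nat_lit 0x1010101030921) (nat_lit 0))
)) (.node (nat_lit 0x1010101030d39) (.node (nat_lit 0x1010101030d31) (.leaf (nat_lit 0x1010101030929) (nat_lit 0))
 (.leaf (nat_lit 0x1010101030d31) (nat_lit 0))
) (.node (nat_lit 0x1010101051101) (.leaf (nat_lit 0x1010101030d39) (nat_lit 0))
 (.node (nat_lit 0x1010101051109) (.leaf (nat_lit 0x1010101051101) (nat_lit 0))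
 (.leaf (nat_lit 0x1010101051109) (nat_lit 0))
))))) (.node (nat_lit 0x1010101071539) (.node (nat_lit 0x1010101051d11) (.node (nat_lit 0x1010101051901) (.node (nat_lit 0x1010101051519) (.leaf (nat_lit 0x1010101051511) (nat_lit 0))
 (.leaf (nat_lit 0x1010101051519) (nat_lit 0))
) (.node (nat_lit 0x1010101051909) (.leaf (nat_lit 0x1010101051901) (nat_lit 0))
 (.leaf (nat_lit 0x1010101051909) (nat_lit 0))
)) (.node (nat_lit 0x1010101071121) (.node (nat_lit 0x1010101051d19) (.leaf (nat_lit 0x1010101051d11) (nat_lit 0))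
 (.leaf (nat_lit 0x1010101051d19) (nat_lit 0))
) (.node (nat_lit 0x1010101071129) (.leaf (nat_lit 0x1010101071121) (nat_lit 0))
 (.node (nat_lit 0x1010101071531) (.leaf (nat_lit 0x1010101071129) (nat_lit 0))
 (.leaf (nat_lit 0x1010101071531) (nat_lit 0))
)))) (.node (nat_lit 0x1010101071d39) (.node (nat_lit 0x1010101071929) (.node (nat_lit 0x1010101071921) (.leaf (nat_lit 0x1010101071539) (nat_lit 0))
 (.leaf (nat_lit 0x1010101071921) (nat_lit 0))
) (.node (nat_lit 0x1010101071d31) (.leaf (nat_lit 0x1010101071929) (nat_lit 0))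
 (.leaf (nat_lit 0x1010101071d31) (nat_lit 0))
)) (.node (nat_lit 0x1010101090109) (.node (nat_lit 0x1010101090101) (.leaf (nat_lit 0x1010101071d39) (nat_lit 0))
 (.leaf (nat_lit 0x1010101090101) (nat_lit 0))
) (.node (nat_lit 0x1010101090511) (.leaf (nat_lit 0x1010101090109) (nat_lit 0))
 (.node (nat_lit 0x1010101090519) (.leaf (nat_lit 0x1010101090511) (nat_lit 0))
 (.leaf (nat_lit 0x1010101090519) (nat_lit 0))
)))))) (.node (nat_lit 0x10101010d1d11) (.node (nat_lit 0x10101010b0929) (.node (nat_lit 0x10101010b0121) (.node (nat_lit 0x1010101090d11) (.node (nat_lit 0x1010101090909) (.leaf (nat_lit 0x1010101090901) (nat_lit 0))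
 (.leaf (nat_lit 0x1010101090909) (nat_lit 0))
) (.node (nat_lit 0x1010101090d19) (.leaf (nat_lit 0x1010101090d11) (nat_lit 0))
 (.leaf (nat_lit 0x1010101090d19) (nat_lit 0))
)) (.node (nat_lit 0x10101010b0531) (.node (nat_lit 0x10101010b0129) (.leaf (nat_lit 0x10101010b0121) (nat_lit 0))
 (.leaf (nat_lit 0x10101010b0129) (nat_lit 0))
) (.node (nat_lit 0x10101010b0539) (.leaf (nat_lit 0x10101010b0531) (nat_lit 0))
 (.node (nat_lit 0x10101010b0921) (.leaf (nat_lit 0x10101010b0539) (nat_lit 0))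
 (.leaf (nat_lit 0x10101010b0921) (nat_lit 0))
)))) (.node (nat_lit 0x10101010d1109) (.node (nat_lit 0x10101010b0d39) (.node (nat_lit 0x10101010b0d31) (.leaf (nat_lit 0x10101010b0929) (nat_lit 0))
 (.leaf (nat_lit 0x10101010b0d31) (nat_lit 0))
) (.node (nat_lit 0x10101010d1101) (.leaf (nat_lit 0x10101010b0d39) (nat_lit 0))
 (.leaf (nat_lit 0x10101010d1101) (nat_lit 0))
)) (.node (nat_lit 0x10101010d1519) (.node (nat_lit 0x10101010d1511) (.leaf (nat_lit 0x10101010d1109) (nat_lit 0))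
 (.leaf (nat_lit 0x10101010d1511) (nat_lit 0))
) (.node (nat_lit 0x10101010d1901) (.leaf (nat_lit 0x10101010d1519) (nat_lit 0))
 (.node (nat_lit 0x10101010d1909) (.leaf (nat_lit 0x10101010d1901) (nat_lit 0))
 (.leaf (nat_lit 0x10101010d1909) (nat_lit 0))
))))) (.node (nat_lit 0x10101010f1d39) (.node (nat_lit 0x10101010f1531) (.node (nat_lit 0x10101010f1121) (.node (nat_lit 0x10101010d1d19) (.leaf (nat_lit 0x10101010d1d11) (nat_lit 0))
 (.leaf (nat_lit 0x10101010d1d19) (nat_lit 0))
) (.node (nat_lit 0x10101010f1129) (.leaf (nat_lit 0x10101010f1121) (nat_lit 0))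
 (.leaf (nat_lit 0x10101010f1129) (nat_lit 0))
)) (.node (nat_lit 0x10101010f1921) (.node (nat_lit 0x10101010f1539) (.leaf (nat_lit 0x10101010f1531) (nat_lit 0))
 (.leaf (nat_lit 0x10101010f1539) (nat_lit 0))
) (.node (nat_lit 0x10101010f1929) (.leaf (nat_lit 0x10101010f1921) (nat_lit 0))
 (.node (nat_lit 0x10101010f1d31) (.leaf (nat_lit 0x10101010f1929) (nat_lit 0))
 (.leaf (nat_lit 0x10101010f1d31) (nat_lit 0))
)))) (.node (nat_lit 0x1010103010d91) (.node (nat_lit 0x1010103010591) (.node (nat_lit 0x1010103010181) (.leaf (nat_lit 0x10101010f1d39) (nat_lit 0))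
 (.leaf (nat_lit 0x1010103010181) (nat_lit 0))
) (.node (nat_lit 0x1010103010981) (.leaf (nat_lit 0x1010103010591) (nat_lit 0))
 (.leaf (nat_lit 0x1010103010981) (nat_lit 0))
)) (.node (nat_lit 0x1010103051591) (.node (nat_lit 0x1010103051181) (.leaf (nat_lit 0x1010103010d91) (nat_lit 0))
 (.leaf (nat_lit 0x1010103051181) (nat_lit 0))
) (.node (nat_lit 0x1010103051981) (.leaf (nat_lit 0x1010103051591) (nat_lit 0))
 (.node (nat_lit 0x1010103051d91) (.leaf (nat_lit 0x1010103051981) (nat_lit 0))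
 (.leaf (nat_lit 0x1010103051d91) (nat_lit 0))
))))))) (.node (nat_lit 0x1018101051b01) (.node (nat_lit 0x1014101030535) (.node (nat_lit 0x101410101010d) (.node (nat_lit 0x10101030d1181) (.node (nat_lit 0x1010103090981) (.node (nat_lit 0x1010103090591) (.leaf (nat_lit 0x1010103090181) (nat_lit 0))
 (.leaf (nat_lit 0x1010103090591) (nat_lit 0))
) (.node (nat_lit 0x1010103090d91) (.leaf (nat_lit 0x1010103090981) (nat_lit 0))
 (.leaf (nat_lit 0x1010103090d91) (nat_lit 0))
)) (.node (nat_lit 0x10101030d1981) (.node (nat_lit 0x10101030d1591) (.leaf (nat_lit 0x10101030d1181) (nat_lit 0))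
 (.leaf (nat_lit 0x10101030d1591) (nat_lit 0))
) (.node (nat_lit 0x10101030d1d91) (.leaf (nat_lit 0x10101030d1981) (nat_lit 0))
 (.node (nat_lit 0x1014101010105) (.leaf (nat_lit 0x10101030d1d91) (nat_lit 0))
 (.leaf (nat_lit 0x1014101010105) (nat_lit 0))
)))) (.node (nat_lit 0x101410101090d) (.node (nat_lit 0x101410101051d) (.node (nat_lit 0x1014101010515) (.leaf (nat_lit 0x101410101010d) (nat_lit 0))
 (.leaf (nat_lit 0x1014101010515) (nat_lit 0))
) (.node (nat_lit 0x1014101010905) (.leaf (nat_lit 0x101410101051d) (nat_lit 0))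
 (.leaf (nat_lit 0x1014101010905) (nat_lit 0))
)) (.node (nat_lit 0x1014101010d1d) (.node (nat_lit 0x1014101010d15) (.leaf (nat_lit 0x101410101090d) (nat_lit 0))
 (.leaf (nat_lit 0x1014101010d15) (nat_lit 0))
) (.node (nat_lit 0x1014101030125) (.leaf (nat_lit 0x1014101010d1d) (nat_lit 0))
 (.node (nat_lit 0x101410103012d) (.leaf (nat_lit 0x1014101030125) (nat_lit 0))
 (.leaf (nat_lit 0x101410103012d) (nat_lit 0))
))))) (.node (nat_lit 0x1018101010719) (.node (nat_lit 0x1014101030d35) (.node (nat_lit 0x1014101030925) (.node (nat_lit 0x101410103053d) (.leaf (nat_lit 0x1014101030535) (nat_lit 0))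
 (.leaf (nat_lit 0x101410103053d) (nat_lit 0))
) (.node (nat_lit 0x101410103092d) (.leaf (nat_lit 0x1014101030925) (nat_lit 0))
 (.leaf (nat_lit 0x101410103092d) (nat_lit 0))
)) (.node (nat_lit 0x1018101010301) (.node (nat_lit 0x1014101030d3d) (.leaf (nat_lit 0x1014101030d35) (nat_lit 0))
 (.leaf (nat_lit 0x1014101030d3d) (nat_lit 0))
) (.node (nat_lit 0x1018101010309) (.leaf (nat_lit 0x1018101010301) (nat_lit 0))
 (.node (nat_lit 0x1018101010711) (.leaf (nat_lit 0x1018101010309) (nat_lit 0))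
 (.leaf (nat_lit 0x1018101010711) (nat_lit 0))
)))) (.node (nat_lit 0x1018101010f19) (.node (nat_lit 0x1018101010b09) (.node (nat_lit 0x1018101010b01) (.leaf (nat_lit 0x1018101010719) (nat_lit 0))
 (.leaf (nat_lit 0x1018101010b01) (nat_lit 0))
) (.node (nat_lit 0x1018101010f11) (.leaf (nat_lit 0x1018101010b09) (nat_lit 0))
 (.leaf (nat_lit 0x1018101010f11) (nat_lit 0))
)) (.node (nat_lit 0x1018101051309) (.node (nat_lit 0x1018101051301) (.leaf (nat_lit 0x1018101010f19) (nat_lit 0))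
 (.leaf (nat_lit 0x1018101051301) (nat_lit 0))
) (.node (nat_lit 0x1018101051711) (.leaf (nat_lit 0x1018101051309) (nat_lit 0))
 (.node (nat_lit 0x1018101051719) (.leaf (nat_lit 0x1018101051711) (nat_lit 0))
 (.leaf (nat_lit 0x1018101051719) (nat_lit 0))
)))))) (.node (nat_lit 0x10181030f1ba9) (.node (nat_lit 0x1018103051791) (.node (nat_lit 0x1018103010381) (.node (nat_lit 0x1018101051f11) (.node (nat_lit 0x1018101051b09) (.leaf (nat_lit 0x1018101051b01) (nat_lit 0))
 (.leaf (nat_lit 0x1018101051b09) (nat_lit 0))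
) (.node (nat_lit 0x1018101051f19) (.leaf (nat_lit 0x1018101051f11) (nat_lit 0))
 (.leaf (nat_lit 0x1018101051f19) (nat_lit 0))
)) (.node (nat_lit 0x1018103010b81) (.node (nat_lit 0x1018103010791) (.leaf (nat_lit 0x1018103010381) (nat_lit 0))
 (.leaf (nat_lit 0x1018103010791) (nat_lit 0))
) (.node (nat_lit 0x1018103010f91) (.leaf (nat_lit 0x1018103010b81) (nat_lit 0))
 (.node (nat_lit 0x1018103051381) (.leaf (nat_lit 0x1018103010f91) (nat_lit 0))
 (.leaf (nat_lit 0x1018103051381) (nat_lit 0))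
)))) (.node (nat_lit 0x10181030b07b9) (.node (nat_lit 0x1018103051f91) (.node (nat_lit 0x1018103051b81) (.leaf (nat_lit 0x1018103051791) (nat_lit 0))
 (.leaf (nat_lit 0x1018103051b81) (nat_lit 0))
) (.node (nat_lit 0x10181030b03a9) (.leaf (nat_lit 0x1018103051f91) (nat_lit 0))
 (.leaf (nat_lit 0x10181030b03a9) (nat_lit 0))
)) (.node (nat_lit 0x10181030b0fb9) (.node (nat_lit 0x10181030b0ba9) (.leaf (nat_lit 0x10181030b07b9) (nat_lit 0))
 (.leaf (nat_lit 0x10181030b0ba9) (nat_lit 0))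
) (.node (nat_lit 0x10181030f13a9) (.leaf (nat_lit 0x10181030b0fb9) (nat_lit 0))
 (.node (nat_lit 0x10181030f17b9) (.leaf (nat_lit 0x10181030f13a9) (nat_lit 0))
 (.leaf (nat_lit 0x10181030f17b9) (nat_lit 0))
))))) (.node (nat_lit 0x101c101010f1d) (.node (nat_lit 0x101c101010715) (.node (nat_lit 0x101c101010305) (.node (nat_lit 0x10181030f1fb9) (.leaf (nat_lit 0x10181030f1ba9) (nat_lit 0))
 (.leaf (nat_lit 0x10181030f1fb9) (nat_lit 0))
) (.node (nat_lit 0x101c10101030d) (.leaf (nat_lit 0x101c101010305) (nat_lit 0))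
 (.leaf (nat_lit 0x101c10101030d) (nat_lit 0))
)) (.node (nat_lit 0x101c101010b05) (.node (nat_lit 0x101c10101071d) (.leaf (nat_lit 0x101c101010715) (nat_lit 0))
 (.leaf (nat_lit 0x101c10101071d) (nat_lit 0))
) (.node (nat_lit 0x101c101010b0d) (.leaf (nat_lit 0x101c101010b05) (nat_lit 0))
 (.node (nat_lit 0x101c101010f15) (.leaf (nat_lit 0x101c101010b0d) (nat_lit 0))
 (.leaf (nat_lit 0x101c101010f15) (nat_lit 0))
)))) (.node (nat_lit 0x101c10107173d) (.node (nat_lit 0x101c10107132d) (.node (nat_lit 0x101c101071325) (.leaf (nat_lit 0x101c101010f1d) (nat_lit 0))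
 (.leaf (nat_lit 0x101c101071325) (nat_lit 0))
) (.node (nat_lit 0x101c101071735) (.leaf (nat_lit 0x101c10107132d) (nat_lit 0))
 (.leaf (nat_lit 0x101c101071735) (nat_lit 0))
)) (.node (nat_lit 0x101c101071b2d) (.node (nat_lit 0x101c101071b25) (.leaf (nat_lit 0x101c10107173d) (nat_lit 0))
 (.leaf (nat_lit 0x101c101071b25) (nat_lit 0))
) (.node (nat_lit 0x101c101071f35) (.leaf (nat_lit 0x101c101071b2d) (nat_lit 0))
 (.node (nat_lit 0x101c101071f3d) (.leaf (nat_lit 0x101c101071f35) (nat_lit 0))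
 (.leaf (nat_lit 0x101c101071f3d) (nat_lit 0))
))))))))

theorem IK_ok : IK_t.all2 (fun a _ => band (B7.v a) (IK_t.has a)) = true := by decide +kernel

noncomputable def B3_t : ST :=
(.node (nat_lit 0x10101030d1981) (.node (nat_lit 0x10101010b0539) (.node (nat_lit 0x1010101071129) (.node (nat_lit 0x1010101051109) (.node (nat_lit 0x1010101030d31) (.node (nat_lit 0x1010101030929) (.leaf (nat_lit 0x1010101030921) (nat_lit 0))
 (.leaf (nat_lit 0x1010101030929) (nat_lit 0))
) (.node (nat_lit 0x1010101030d39) (.leaf (nat_lit 0x1010101030d31) (nat_lit 0))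
 (.leaf (nat_lit 0x1010101030d39) (nat_lit 0))
)) (.node (nat_lit 0x1010101051909) (.node (nat_lit 0x1010101051519) (.leaf (nat_lit 0x1010101051109) (nat_lit 0))
 (.leaf (nat_lit 0x1010101051519) (nat_lit 0))
) (.node (nat_lit 0x1010101051d19) (.leaf (nat_lit 0x1010101051909) (nat_lit 0))
 (.leaf (nat_lit 0x1010101051d19) (nat_lit 0))
))) (.node (nat_lit 0x1010101090511) (.node (nat_lit 0x1010101071921) (.node (nat_lit 0x1010101071539) (.leaf (nat_lit 0x1010101071129) (nat_lit 0))
 (.leaf (nat_lit 0x1010101071539) (nat_lit 0))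
) (.node (nat_lit 0x1010101071d31) (.leaf (nat_lit 0x1010101071921) (nat_lit 0))
 (.leaf (nat_lit 0x1010101071d31) (nat_lit 0))
)) (.node (nat_lit 0x1010101090909) (.node (nat_lit 0x1010101090519) (.leaf (nat_lit 0x1010101090511) (nat_lit 0))
 (.leaf (nat_lit 0x1010101090519) (nat_lit 0))
) (.node (nat_lit 0x1010101090d11) (.leaf (nat_lit 0x1010101090909) (nat_lit 0))
 (.node (nat_lit 0x10101010b0531) (.leaf (nat_lit 0x1010101090d11) (nat_lit 0))
 (.leaf (nat_lit 0x10101010b0531) (nat_lit 0))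
))))) (.node (nat_lit 0x10101010f1531) (.node (nat_lit 0x10101010d1511) (.node (nat_lit 0x10101010b0d39) (.node (nat_lit 0x10101010b0921) (.leaf (nat_lit 0x10101010b0539) (nat_lit 0))
 (.leaf (nat_lit 0x10101010b0921) (nat_lit 0))
) (.node (nat_lit 0x10101010d1109) (.leaf (nat_lit 0x10101010b0d39) (nat_lit 0))
 (.leaf (nat_lit 0x10101010d1109) (nat_lit 0))
)) (.node (nat_lit 0x10101010d1d19) (.node (nat_lit 0x10101010d1d11) (.leaf (nat_lit 0x10101010d1511) (nat_lit 0))
 (.leaf (nat_lit 0x10101010d1d11) (nat_lit 0))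
) (.node (nat_lit 0x10101010f1129) (.leaf (nat_lit 0x10101010d1d19) (nat_lit 0))
 (.leaf (nat_lit 0x10101010f1129) (nat_lit 0))
))) (.node (nat_lit 0x1010103090591) (.node (nat_lit 0x10101010f1929) (.node (nat_lit 0x10101010f1921) (.leaf (nat_lit 0x10101010f1531) (nat_lit 0))
 (.leaf (nat_lit 0x10101010f1921) (nat_lit 0))
) (.node (nat_lit 0x1010103090181) (.leaf (nat_lit 0x10101010f1929) (nat_lit 0))
 (.leaf (nat_lit 0x1010103090181) (nat_lit 0))
)) (.node (nat_lit 0x1010103090d91) (.node (nat_lit 0x1010103090981) (.leaf (nat_lit 0x1010103090591) (nat_lit 0))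
 (.leaf (nat_lit 0x1010103090981) (nat_lit 0))
) (.node (nat_lit 0x10101030d1181) (.leaf (nat_lit 0x1010103090d91) (nat_lit 0))
 (.node (nat_lit 0x10101030d1591) (.leaf (nat_lit 0x10101030d1181) (nat_lit 0))
 (.leaf (nat_lit 0x10101030d1591) (nat_lit 0))
)))))) (.node (nat_lit 0x1018101051f19) (.node (nat_lit 0x1014101030d35) (.node (nat_lit 0x1014101010d15) (.node (nat_lit 0x1014101010905) (.node (nat_lit 0x10101030d1d91) (.leaf (nat_lit 0x10101030d1981) (nat_lit 0))
 (.leaf (nat_lit 0x10101030d1d91) (nat_lit 0))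
) (.node (nat_lit 0x101410101090d) (.leaf (nat_lit 0x1014101010905) (nat_lit 0))
 (.leaf (nat_lit 0x101410101090d) (nat_lit 0))
)) (.node (nat_lit 0x1014101030925) (.node (nat_lit 0x1014101010d1d) (.leaf (nat_lit 0x1014101010d15) (nat_lit 0))
 (.leaf (nat_lit 0x1014101010d1d) (nat_lit 0))
) (.node (nat_lit 0x101410103092d) (.leaf (nat_lit 0x1014101030925) (nat_lit 0))
 (.leaf (nat_lit 0x101410103092d) (nat_lit 0))
))) (.node (nat_lit 0x1018101010b09) (.node (nat_lit 0x1018101010309) (.node (nat_lit 0x1014101030d3d) (.leaf (nat_lit 0x1014101030d35) (nat_lit 0))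
 (.leaf (nat_lit 0x1014101030d3d) (nat_lit 0))
) (.node (nat_lit 0x1018101010719) (.leaf (nat_lit 0x1018101010309) (nat_lit 0))
 (.leaf (nat_lit 0x1018101010719) (nat_lit 0))
)) (.node (nat_lit 0x1018101051309) (.node (nat_lit 0x1018101010f19) (.leaf (nat_lit 0x1018101010b09) (nat_lit 0))
 (.leaf (nat_lit 0x1018101010f19) (nat_lit 0))
) (.node (nat_lit 0x1018101051719) (.leaf (nat_lit 0x1018101051309) (nat_lit 0))
 (.node (nat_lit 0x1018101051b09) (.leaf (nat_lit 0x1018101051719) (nat_lit 0))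
 (.leaf (nat_lit 0x1018101051b09) (nat_lit 0))
))))) (.node (nat_lit 0x10181030f1fb9) (.node (nat_lit 0x10181030b0fb9) (.node (nat_lit 0x10181030b07b9) (.node (nat_lit 0x10181030b03a9) (.leaf (nat_lit 0x1018101051f19) (nat_lit 0))
 (.leaf (nat_lit 0x10181030b03a9) (nat_lit 0))
) (.node (nat_lit 0x10181030b0ba9) (.leaf (nat_lit 0x10181030b07b9) (nat_lit 0))
 (.leaf (nat_lit 0x10181030b0ba9) (nat_lit 0))
)) (.node (nat_lit 0x10181030f17b9) (.node (nat_lit 0x10181030f13a9) (.leaf (nat_lit 0x10181030b0fb9) (nat_lit 0))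
 (.leaf (nat_lit 0x10181030f13a9) (nat_lit 0))
) (.node (nat_lit 0x10181030f1ba9) (.leaf (nat_lit 0x10181030f17b9) (nat_lit 0))
 (.leaf (nat_lit 0x10181030f1ba9) (nat_lit 0))
))) (.node (nat_lit 0x101c101010f15) (.node (nat_lit 0x101c10101071d) (.node (nat_lit 0x101c10101030d) (.leaf (nat_lit 0x10181030f1fb9) (nat_lit 0))
 (.leaf (nat_lit 0x101c10101030d) (nat_lit 0))
) (.node (nat_lit 0x101c101010b05) (.leaf (nat_lit 0x101c10101071d) (nat_lit 0))
 (.leaf (nat_lit 0x101c101010b05) (nat_lit 0))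
)) (.node (nat_lit 0x101c10107173d) (.node (nat_lit 0x101c10107132d) (.leaf (nat_lit 0x101c101010f15) (nat_lit 0))
 (.leaf (nat_lit 0x101c10107132d) (nat_lit 0))
) (.node (nat_lit 0x101c101071b25) (.leaf (nat_lit 0x101c10107173d) (nat_lit 0))
 (.node (nat_lit 0x101c101071f35) (.leaf (nat_lit 0x101c101071b25) (nat_lit 0))
 (.leaf (nat_lit 0x101c101071f35) (nat_lit 0))
)))))))

theorem B3_ok : B3_t.all2 (fun a _ => band (B7.v a) (B3_t.has a)) = true := by decide +kernel

end Cfsg.Agent.F64
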