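import Mathlib
import Cfsg.Agent.F64.Kit
import Cfsg.Agent.F64.D7
import Cfsg.Agent.F64.D10
import Cfsg.Prelude.Def_Spor_Fi22

/-!
The models `2⁶ : Sp₆(2)` and `2⁹ : W(E₆)`, and the configurations used for `N(2⁶) = 2⁶ : Sp₆(2)`.
-/

set_option autoImplicit false
set_option maxRecDepth 100000

namespace Cfsg.Agent.F64

open Cfsg.Agent.Spor Cfsg.Agent.Rec Cfsg.Agent.Loc.Mss Cfsg.Agent.GW Subgroup Matrix

/-- The first model. -/
abbrev G0 : Type := GL (Fin 7) (ZMod 2)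
/-- The second model. -/
abbrev G1 : Type := GL (Fin 10) (ZMod 2)

noncomputable def k0 : G0 := B7.C.elt (nat_lit 0x1010101010901)
noncomputable def k1 : G0 := B7.C.elt (nat_lit 0x1010121010101)
noncomputable def k2 : G0 := B7.C.elt (nat_lit 0x10101010d1901)
noncomputable def k3 : G0 := B7.C.elt (nat_lit 0x1012101010101)
noncomputable def k4 : G0 := B7.C.elt (nat_lit 0x10101010b0129)
noncomputable def k5 : G0 := B7.C.elt (nat_lit 0x1010101210101)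
noncomputable def k6 : G0 := B7.C.elt (nat_lit 0x1010101090101)
noncomputable def c0 : G0 := B7.C.elt (nat_lit 0x1010101012101)
noncomputable def c1 : G0 := B7.C.elt (nat_lit 0x1010501010101)
noncomputable def c2 : G0 := B7.C.elt (nat_lit 0x1010101112101)
noncomputable def c3 : G0 := B7.C.elt (nat_lit 0x1030101010101)
noncomputable def c4 : G0 := B7.C.elt (nat_lit 0x1010101110141)
noncomputable def c5 : G0 := B7.C.elt (nat_lit 0x1010109010101)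
noncomputable def k7 : G0 := B7.C.elt (nat_lit 0x1010101010109)
noncomputable def r1 : G0 := B7.C.elt (nat_lit 0x1010101051901)
noncomputable def r2 : G0 := B7.C.elt (nat_lit 0x1018101051b01)
noncomputable def r3 : G0 := B7.C.elt (nat_lit 0x1018101010f11)
noncomputable def r4 : G0 := B7.C.elt (nat_lit 0x1018103010f91)
noncomputable def p0 : G0 := B7.C.elt (nat_lit 0x101410103012d)
noncomputable def u0 : G0 := B7.C.elt (nat_lit 0x1010101030121)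

/-- The letters. -/
noncomputable abbrev e7 : List G0 := [k0, k1, k2, k3, k4, k5, k6, c0, c1, c2, c3, c4, c5, k7, r1, r2, r3, r4, p0, u0]

theorem rep7 : B7.C.RepL c7 e7 := B7.repL c7_ok

noncomputable abbrev eK : List G0 := [k0, k1, k2, k3, k4, k5, k6]
/-- The symplectic group. -/
noncomputable def K0 : Subgroup G0 := clos eK

noncomputable abbrev eN : List G0 := [k0, k1, k2, k3, k4, k5, k6, c0, c1, c2, c3, c4, c5]
/-- The affine symplectic group. -/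
noncomputable def N0 : Subgroup G0 := clos eN

noncomputable abbrev eM : List G0 := [k6, k3, k4, k5, k7, c1, c0, c2, c3, c4, c5, r1, r2, r3, r4, k0]
/-- The centraliser of `c0`. -/
noncomputable def M0 : Subgroup G0 := clos eM

noncomputable abbrev eA : List G0 := [c0, c1, c2, c3, c4, c5]
/-- The translations. -/
noncomputable def A0 : Subgroup G0 := clos eA
theorem gA0 : B7.C.Lists A0_t.dom A0 ∧ Nat.card A0 = 64 := (rep7.pick [7, 8, 9, 10, 11, 12]).gen A0_ok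

/-- The translations orthogonal to `c0`. -/
noncomputable def B0 : Subgroup G0 := clos [c0, c2, c3, c4, c5]
theorem gB0 : B7.C.Lists B0_t.dom B0 ∧ Nat.card B0 = 32 := (rep7.pick [7, 9, 10, 11, 12]).gen B0_ok

noncomputable abbrev eQ : List G0 := [c0, c2, c3, c4, c5, r1, r2, r3, r4, k0]
/-- The group `2 × 2^(1+8)`. -/
noncomputable def Q0 : Subgroup G0 := clos eQ
theorem gQ0 : B7.C.Lists Q0_t.dom Q0 ∧ Nat.card Q0 = 1024 := (rep7.pick [7, 9, 10, 11, 12, 14, 15, 16, 17, 0]).gen Q0_ok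

/-- The largest normal 2-subgroup of `M0`. -/
noncomputable def J0 : Subgroup G0 := clos [c1, c0, c2, c3, c4, c5, r1, r2, r3, r4, k0]
theorem gJ0 : B7.C.Lists J0_t.dom J0 ∧ Nat.card J0 = 2048 := (rep7.pick [8, 7, 9, 10, 11, 12, 14, 15, 16, 17, 0]).gen J0_ok

noncomputable abbrev eL : List G0 := [k6, k3, k4, k5, k7]
/-- The Levi factor. -/
noncomputable def Lv0 : Subgroup G0 := clos eL
theorem gLv0 : B7.C.Lists Lv0_t.dom Lv0 ∧ Nat.card Lv0 = 720 := (rep7.pick [6, 3, 4, 5, 13]).gen Lv0_ok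

noncomputable abbrev eC : List G0 := [k6, k3, k4, k5, k7, c1]
/-- A complement to `Q0` in `M0`. -/
noncomputable def C0 : Subgroup G0 := clos eC
theorem gC0 : B7.C.Lists C0_t.dom C0 ∧ Nat.card C0 = 1440 := (rep7.pick [6, 3, 4, 5, 13, 8]).gen C0_ok

/-- A Sylow 2-subgroup of `K0`. -/
noncomputable def TK : Subgroup G0 := clos [k0, r1, r2, r3, r4, k6, k4, k7, p0]
theorem gTK : B7.C.Lists TK_t.dom TK ∧ Nat.card TK = 512 := (rep7.pick [0, 14, 15, 16, 17, 6, 4, 13, 18]).gen TK_ok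

/-- The non-trivial translations. -/
def cA : Set G0 := cls eK c0
theorem gcA : B7.C.Lists cA_t.dom cA ∧ cA.ncard = 63 := (rep7.pick [0, 1, 2, 3, 4, 5, 6]).orb (rep7.nth 7) cA_ok

/-- The involutions of type `a₂`. -/
def Dt : Set G0 := cls eK u0
theorem gDt : B7.C.Lists Dt_t.dom Dt ∧ Dt.ncard = 315 := (rep7.pick [0, 1, 2, 3, 4, 5, 6]).orb (rep7.nth 19) Dt_ok

/-- The transvections of the Levi factor. -/
def TL : Set G0 := cls eL k6
theorem gTL : B7.C.Lists TL_t.dom TL ∧ TL.ncard = 15 := (rep7.pick [6, 3, 4, 5, 13]).orb (rep7.nth 6) TL_ok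

/-- The involutions of `TK`. -/
def IK : Set G0 := B7.C.elt '' {a | a ∈ IK_t.toL}
theorem gIK : B7.C.Lists IK_t.dom IK := lists_of_ok (fun _ => B7.repL) IK_ok

/-- The involutions of `TK` of rank three. -/
def B3 : Set G0 := B7.C.elt '' {a | a ∈ B3_t.toL}
theorem gB3 : B7.C.Lists B3_t.dom B3 := lists_of_ok (fun _ => B7.repL) B3_ok

theorem hL7 : B7.C.ListsL [A0_t.dom, B0_t.dom, Q0_t.dom, J0_t.dom, Lv0_t.dom, C0_t.dom, TK_t.dom, cA_t.dom, Dt_t.dom, TL_t.dom, IK_t.dom, B3_t.dom]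
    [A0, B0, Q0, J0, Lv0, C0, TK, cA, Dt, TL, IK, B3] :=
  gA0.1.cons (gB0.1.cons (gQ0.1.cons (gJ0.1.cons (gLv0.1.cons (gC0.1.cons (gTK.1.cons (gcA.1.cons (gDt.1.cons (gTL.1.cons (gIK.cons (gB3.cons Cod.listsL_nil)))))))))))

noncomputable def T0 : G1 := B10.C.elt (nat_lit 0x8010020040080100200400a01)
noncomputable def T1 : G1 := B10.C.elt (nat_lit 0x8010020040080100200480801)
noncomputable def T2 : G1 := B10.C.elt (nat_lit 0x8010020040080100220400801)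
noncomputable def T3 : G1 := B10.C.elt (nat_lit 0x8010020040080108200400801)
noncomputable def T4 : G1 := B10.C.elt (nat_lit 0x8010020040082100200400801)
noncomputable def T5 : G1 := B10.C.elt (nat_lit 0x8010020040880100200400801)
noncomputable def T6 : G1 := B10.C.elt (nat_lit 0x8010020240080100200400801)
noncomputable def T7 : G1 := B10.C.elt (nat_lit 0x80100a0040080100200400801)
noncomputable def dd : G1 := B10.C.elt (nat_lit 0x8030020040080100200400801)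
noncomputable def v : G1 := B10.C.elt (nat_lit 0x801002004008010220c4388f1)
noncomputable def y0 : G1 := B10.C.elt (nat_lit 0x8010020040080f00200400803)
noncomputable def y1 : G1 := B10.C.elt (nat_lit 0x8010020040040200200401c01)
noncomputable def y2 : G1 := B10.C.elt (nat_lit 0x8010020020100100200e00801)
noncomputable def y3 : G1 := B10.C.elt (nat_lit 0x8010010080080100300400801)
noncomputable def y4 : G1 := B10.C.elt (nat_lit 0x80180200c0280900200c00809)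
noncomputable def g0 : G1 := B10.C.elt (nat_lit 0x801e8200221089a020ec00863)
noncomputable def om : G1 := B10.C.elt (nat_lit 0x801002204c09813200c0380f0)
noncomputable def r0 : G1 := B10.C.elt (nat_lit 0x80180200a030070020060080b)
noncomputable def vr : G1 := B10.C.elt (nat_lit 0x80180200a030070220263889b)
noncomputable def s1 : G1 := B10.C.elt (nat_lit 0x8014018040300b01a8263885f)
noncomputable def s2 : G1 := B10.C.elt (nat_lit 0x80180200901c0c0220131a8ae)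
noncomputable def s3 : G1 := B10.C.elt (nat_lit 0x80120180a0080d01a8c438835)
noncomputable def u1 : G1 := B10.C.elt (nat_lit 0x801ec208400885e3a8e6008a3)
noncomputable def bd : G1 := B10.C.elt (nat_lit 0x8030020040080100200400a01)
noncomputable def n1 : G1 := B10.C.elt (nat_lit 0x80100200103c0400200b02806)
noncomputable def n2 : G1 := B10.C.elt (nat_lit 0x801401804030050028060080d)
noncomputable def l1 : G1 := B10.C.elt (nat_lit 0x8010020240880100200400801)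

/-- The letters. -/
noncomputable abbrev e10 : List G1 := [T0, T1, T2, T3, T4, T5, T6, T7, dd, v, y0, y1, y2, y3, y4, g0, om, r0, vr, s1, s2, s3, u1, bd, n1, n2, l1]

theorem rep10 : B10.C.RepL c10 e10 := B10.repL c10_ok

noncomputable abbrev eY : List G1 := [v, g0, y0, y1, y2, y3, y4]
/-- The group `W(E₆)`. -/
noncomputable def Y : Subgroup G1 := clos eY

noncomputable abbrev eY0 : List G1 := [g0, y0, y1, y2, y3, y4]
/-- The group `U₄(2)`. -/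
noncomputable def Y0 : Subgroup G1 := clos eY0

noncomputable abbrev eV : List G1 := [T0, T1, T2, T3, T4, T5, T6, T7, dd]
/-- The translations. -/
noncomputable def V0 : Subgroup G1 := clos eV
theorem gV0 : B10.C.Lists V0_t.dom V0 ∧ Nat.card V0 = 512 := (rep10.pick [0, 1, 2, 3, 4, 5, 6, 7, 8]).gen V0_ok

/-- The image of `B0`. -/
noncomputable def B1 : Subgroup G1 := clos [T0, T1, T2, T3]
theorem gB1 : B10.C.Lists B1_t.dom B1 ∧ Nat.card B1 = 16 := (rep10.pick [0, 1, 2, 3]).gen B1_ok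

noncomputable abbrev eL1 : List G1 := [y0, y1, y2, y3, y4]
/-- The Levi factor. -/
noncomputable def Lv1 : Subgroup G1 := clos eL1
theorem gLv1 : B10.C.Lists Lv1_t.dom Lv1 ∧ Nat.card Lv1 = 720 := (rep10.pick [10, 11, 12, 13, 14]).gen Lv1_ok

noncomputable abbrev eM1 : List G1 := [y0, y1, y2, y3, y4, v]
/-- The group `2 × S₆`. -/
noncomputable def M1 : Subgroup G1 := clos eM1
theorem gM1 : B10.C.Lists M1_t.dom M1 ∧ Nat.card M1 = 1440 := (rep10.pick [10, 11, 12, 13, 14, 9]).gen M1_ok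

/-- A Sylow 2-subgroup of `Y`. -/
noncomputable def S : Subgroup G1 := clos [v, y2, u1]
theorem gS : B10.C.Lists S_t.dom S ∧ Nat.card S = 128 := (rep10.pick [9, 12, 22]).gen S_ok

/-- A symmetric group of degree four. -/
noncomputable def Sig : Subgroup G1 := clos [s1, s2, s3]
theorem gSig : B10.C.Lists Sig_t.dom Sig ∧ Nat.card Sig = 24 := (rep10.pick [19, 20, 21]).gen Sig_ok

/-- The centraliser of `r0` in `Y`. -/
noncomputable def CR : Subgroup G1 := clos [v, g0, y0, y2, n1, n2]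
theorem gCR : B10.C.Lists CR_t.dom CR ∧ Nat.card CR = 192 := (rep10.pick [9, 15, 10, 12, 24, 25]).gen CR_ok

/-- The centraliser of `r0` in `V0`. -/
noncomputable def L0 : Subgroup G1 := clos [T0, T2, T4, l1, dd]
theorem gL0 : B10.C.Lists L0_t.dom L0 ∧ Nat.card L0 = 32 := (rep10.pick [0, 2, 4, 26, 8]).gen L0_ok

/-- The reflections. -/
def Dl : Set G1 := cls eY v
theorem gDl : B10.C.Lists Dl_t.dom Dl ∧ Dl.ncard = 36 := (rep10.pick [9, 15, 10, 11, 12, 13, 14]).orb (rep10.nth 9) Dl_ok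

/-- The transvections. -/
def Tc : Set G1 := cls eY y0
theorem gTc : B10.C.Lists Tc_t.dom Tc ∧ Tc.ncard = 45 := (rep10.pick [9, 15, 10, 11, 12, 13, 14]).orb (rep10.nth 10) Tc_ok

/-- The other involutions of `Y0`. -/
def Rc : Set G1 := cls eY r0
theorem gRc : B10.C.Lists Rc_t.dom Rc ∧ Rc.ncard = 270 := (rep10.pick [9, 15, 10, 11, 12, 13, 14]).orb (rep10.nth 17) Rc_ok

/-- The class of `T0`. -/
def Bc : Set G1 := cls eY T0
theorem gBc : B10.C.Lists Bc_t.dom Bc ∧ Bc.ncard = 135 := (rep10.pick [9, 15, 10, 11, 12, 13, 14]).orb (rep10.nth 0) Bc_ok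

/-- The class of `T0 dd`. -/
def Bd : Set G1 := cls eY bd
theorem gBd : B10.C.Lists Bd_t.dom Bd ∧ Bd.ncard = 135 := (rep10.pick [9, 15, 10, 11, 12, 13, 14]).orb (rep10.nth 23) Bd_ok

/-- The reflections commuting with `v`. -/
def Nv : Set G1 := cls eL1 vr
theorem gNv : B10.C.Lists Nv_t.dom Nv ∧ Nv.ncard = 15 := (rep10.pick [10, 11, 12, 13, 14]).orb (rep10.nth 18) Nv_ok

/-- The singular vectors. -/
def Sg : Set G1 := (Bc ∪ Bd) ∪ {x | x ∈ [1, dd]}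
theorem gSg : B10.C.Lists ((Bc_t.dom.union Bd_t.dom).union (listDom [B10.A.one, (nat_lit 0x8030020040080100200400801)])) Sg :=
  (gBc.1.union gBd.1).union (Cod.RepL.lists (Cod.rep_one.cons ((rep10.nth 8).cons Cod.repL_nil)))

/-- The involutions of `S`. -/
def IS : Set G1 := B10.C.elt '' {a | a ∈ IS_t.toL}
theorem gIS : B10.C.Lists IS_t.dom IS := lists_of_ok (fun _ => B10.repL) IS_ok

/-- The involutions of `CR`. -/
def IC : Set G1 := B10.C.elt '' {a | a ∈ IC_t.toL}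
theorem gIC : B10.C.Lists IC_t.dom IC := lists_of_ok (fun _ => B10.repL) IC_ok

/-- Solutions in `Y`. -/
def Gg : Set G1 := B10.C.elt '' {a | a ∈ Gg_t.toL}
theorem gGg : B10.C.Lists Gg_t.dom Gg := lists_of_ok (fun _ => B10.repL) Gg_ok

/-- Other solutions. -/
def Gb : Set G1 := B10.C.elt '' {a | a ∈ Gb_t.toL}
theorem gGb : B10.C.Lists Gb_t.dom Gb := lists_of_ok (fun _ => B10.repL) Gb_ok

theorem hL10 : B10.C.ListsL [V0_t.dom, B1_t.dom, Lv1_t.dom, M1_t.dom, S_t.dom, Sig_t.dom, CR_t.dom, L0_t.dom, Dl_t.dom, Tc_t.dom, Rc_t.dom, Bc_t.dom, Bd_t.dom, Nv_t.dom, (Bc_t.dom.union Bd_t.dom).union (listDom [B10.A.one, (nat_lit 0x8030020040080100200400801)]), IS_t.dom, IC_t.dom, Gg_t.dom, Gb_t.dom]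
    [V0, B1, Lv1, M1, S, Sig, CR, L0, Dl, Tc, Rc, Bc, Bd, Nv, Sg, IS, IC, Gg, Gb] :=
  gV0.1.cons (gB1.1.cons (gLv1.1.cons (gM1.1.cons (gS.1.cons (gSig.1.cons (gCR.1.cons (gL0.1.cons (gDl.1.cons (gTc.1.cons (gRc.1.cons (gBc.1.cons (gBd.1.cons (gNv.1.cons (gSg.cons (gIS.cons (gIC.cons (gGg.cons (gGb.cons Cod.listsL_nil))))))))))))))))))

/-- The linear maps in the affine group. -/
def P0 : Subgroup G1 where
  carrier := {g | (g : Matrix (Fin 10) (Fin 10) (ZMod 2)) *ᵥ Pi.single 9 1 = Pi.single 9 1 ∧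
    Pi.single 9 1 ᵥ* (g : Matrix (Fin 10) (Fin 10) (ZMod 2)) = Pi.single 9 1}
  one_mem' := ⟨one_mulVec _, vecMul_one _⟩
  mul_mem' := fun {a b} ha hb => ⟨by rw [Units.val_mul, ← mulVec_mulVec, hb.1, ha.1],
    by rw [Units.val_mul, ← vecMul_vecMul, ha.2, hb.2]⟩
  inv_mem' := fun {a} ha => ⟨by rw [← ha.1, mulVec_mulVec, Units.inv_mul, one_mulVec, ha.1],
    by rw [← ha.2, vecMul_vecMul, Units.mul_inv, vecMul_one, ha.2]⟩

/-- The passage from the first model to the second. -/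
structure Lam (f : G0 → G1) : Prop where
  on : On M0 f
  mem : ∀ q ∈ Q0, f q ∈ V0
  surj : ∀ w ∈ V0, ∃ q ∈ Q0, f q = w
  ker : ∀ q ∈ Q0, f q = 1 ↔ q = 1 ∨ q = c0
  sg : ∀ q ∈ Q0, f q ∈ Sg ↔ q * q = 1
  d : f k0 = dd
  x : f c1 = v
  b : f c2 = T0
  B : ∀ q ∈ Q0, f q ∈ B1 ↔ q ∈ A0
  C : ∀ c ∈ C0, f c ∈ M1
  Cs : ∀ m ∈ M1, ∃ c ∈ C0, f c = m
  Ci : ∀ c ∈ C0, f c = 1 → c = 1
  L : ∀ m ∈ Lv1, ∃ c ∈ Lv0, f c = m
  T : ∀ c ∈ TL, f c ∈ Tc

variable {G : Type*} [Group G]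

/-- `N(A) / O(N(A))` is the affine symplectic group, `A` the group of translations. -/
structure Aff (A : Subgroup G) (π : G → G0) : Prop extends Oq 𝐍[A] π N0 where
  two : IsPGroup 2 A
  memA : ∀ a ∈ A, π a ∈ A0
  surjA : ∀ y ∈ A0, ∃ a ∈ A, π a = y

/-- The group `Q = 2 × 2^(1+8)` with its coordinates modulo `a`, and the action of its normaliser. -/
structure Lc (A Q : Subgroup G) (a d x b : G) (κ ρ : G → G1) : Prop where
  two : IsPGroup 2 Q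
  card : Nat.card Q = 1024
  QN : Q ≤ 𝐍[A]
  aA : a ∈ A
  xA : x ∈ A
  bA : b ∈ A
  aQ : a ∈ Q
  dQ : d ∈ Q
  bQ : b ∈ Q
  a1 : a ≠ 1
  sqA : ∀ e ∈ A, e * e = 1
  d2 : d * d = 1
  κm : On Q κ
  κV : ∀ q ∈ Q, κ q ∈ V0
  κs : ∀ w ∈ V0, ∃ q ∈ Q, κ q = w
  κk : ∀ q ∈ Q, κ q = 1 ↔ q = 1 ∨ q = a
  κd : κ d = dd
  κb : κ b = T0
  κB : ∀ q ∈ Q, κ q ∈ B1 ↔ q ∈ A
  sg : ∀ q ∈ Q, κ q ∈ Sg ↔ q * q = 1
  dc : ∀ q ∈ Q, d * q = q * d
  cen : ∀ q ∈ Q, (∀ p ∈ Q, q * p = p * q) → q = 1 ∨ q = a ∨ q = d ∨ q = a * d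
  Na : 𝐍[Q] ≤ Cen a
  ρm : On 𝐍[Q] ρ
  ρP : ∀ g ∈ 𝐍[Q], ρ g ∈ P0
  ρκ : ∀ g ∈ 𝐍[Q], ∀ q ∈ Q, κ (g * q * g⁻¹) = ρ g * κ q * (ρ g)⁻¹
  xN : x ∈ 𝐍[Q]
  ρx : ρ x = v
  xd : x * d * x⁻¹ = a * d
  ker2 : ∀ g ∈ 𝐍[Q], ρ g = 1 → (∃ k, g ^ 2 ^ k = 1) → g ∈ Q
  lift : ∀ m ∈ M1, ∃ g ∈ 𝐍[Q], g ∈ 𝐍[A] ∧ ρ g = m ∧ (m * m = 1 → g * g = 1) ∧ (m ∈ Lv1 → g * d = d * g)
  cenv : ∀ g ∈ 𝐍[Q], ρ g * v = v * ρ g → ρ g ∈ M1
  cf : ∀ g ∈ 𝐍[Q], g * g = 1 ∨ g * g = a → ρ g ∈ Lv1 → ρ g ∈ Rc → g * g = 1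

/-- The situation in `C(a) / ⟨a⟩`: `I` is the image of the set of elements of order at most two and `V` of `Q`. -/
structure Vq (I : Set G) (V : Subgroup G) (κ ρ : G → G1) : Prop where
  cjI : ∀ g, ∀ x ∈ I, g * x * g⁻¹ ∈ I
  κm : On V κ
  κV : ∀ w ∈ V, κ w ∈ V0
  κi : ∀ w ∈ V, κ w = 1 → w = 1
  κs : ∀ u ∈ V0, ∃ w ∈ V, κ w = u
  sg : ∀ w ∈ V, w ∈ I ↔ κ w ∈ Sg
  ρm : On 𝐍[V] ρ
  ρY : ∀ g ∈ 𝐍[V], ρ g ∈ Y
  ρκ : ∀ g ∈ 𝐍[V], ∀ w ∈ V, κ (g * w * g⁻¹) = ρ g * κ w * (ρ g)⁻¹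
  ρV : ∀ w ∈ V, ρ w = 1
  ker2 : ∀ g ∈ 𝐍[V], ρ g = 1 → (∃ k, g ^ 2 ^ k = 1) → g ∈ V
  cf : ∀ g ∈ 𝐍[V], g * g = 1 → ρ g ∈ Rc → g ∈ I

/-- The group `X` induced on `Q / ⟨a⟩`, and the subgroup `X0` induced by the centraliser of `Z(Q)`. -/
structure XH (X X0 : Subgroup G1) : Prop where
  P : X ≤ P0
  M : M1 ≤ X
  cv : ∀ g ∈ X, g * v = v * g → g ∈ M1
  d : ∀ g ∈ X, g * dd = dd * g
  S : ∀ g ∈ X, ∀ w ∈ Sg, g * w * g⁻¹ ∈ Sg
  le : X0 ≤ X
  two : ∀ g ∈ X, g ∈ X0 ∨ v * g ∈ X0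
  nv : v ∉ X0
  L : Lv1 ≤ X0

/-- `u` and `w` are orthogonal. -/
def Pp (I : Set G) (u w : G) : Prop := u * w ∈ I ↔ (u ∈ I ↔ w ∈ I)

/-- What the local analysis gives about the centraliser of `a`. -/
structure Out (A : Subgroup G) (a : G) : Prop where
  con : IsPConstrained 2 (Cen a)
  gen : ∃ b ∈ A, b ≠ 1 ∧ b ≠ a ∧
    ∀ M : Subgroup G, UU a ≤ M → 𝐍[A] ≤ M → 𝐍[four a b] ≤ M → Cen a ≤ M
  two : ∀ y ∈ Cen a, y * y = 1 → ∃ g ∈ Cen a, ∃ b ∈ A, b ≠ 1 ∧ b ≠ a ∧ Commute y (g * b * g⁻¹)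
  dich : UU a = ⊥ → Cen a ≤ 𝐍[A] ∨ Cfsg.Spor.IsoFi22 G

end Cfsg.Agent.F64
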